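import Cfsg.Agent.Lib.RankThreePair.Tools
import Cfsg.Agent.Lib.RankThree.Top

/-!
The common axis of the conjugates acting on an elementary maximal subgroup of order `p³`.
-/

set_option autoImplicit false
set_option linter.style.haveILetI false
set_option linter.unusedSectionVars false
set_option linter.unusedVariables false

namespace CfsgLib.RankThreePair

open Subgroup
open scoped commutatorElement Matrix

section Linear

open CfsgLib.Fusion.CubeGL CfsgLib.RankThree.Linear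

variable {p : ℕ} [hp : Fact p.Prime]

theorem tr_pow {a α : Fin 3 → ZMod p} (h : α ⬝ᵥ a = 0) (k : ℕ) :
    (tr a α) ^ k = tr a ((k : ZMod p) • α) := by
  induction k with
  | zero => rw [pow_zero, Nat.cast_zero, zero_smul, tr, Matrix.vecMulVec_zero, add_zero]
  | succ k ih =>
    rw [pow_succ, ih, tr_mul_tr (by rw [smul_dotProduct, h, smul_zero]), Nat.cast_succ, add_smul,
      one_smul]

/-- In a group whose `p`-subgroups have order at most `p` the conjugates of a transvection fix a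
common point. -/
theorem exists_common_fixed {G : Type*} [Group G] [Finite G]
    (Φ : G →* GL (Fin 3) (ZMod p)) (hΦ : Function.Injective Φ)
    (hcard : ∀ K : Subgroup G, IsPGroup p K → Nat.card K ≤ p)
    {t : G} (htp : t ^ p = 1) (hnn : ¬ (Subgroup.zpowers t).Normal)
    {v φ : Fin 3 → ZMod p} (hv : v ≠ 0) (hφ : φ ≠ 0) (hφv : φ ⬝ᵥ v = 0)
    (ht : (Φ t : Matrix (Fin 3) (Fin 3) (ZMod p)) = tr v φ) :
    ∃ u : Fin 3 → ZMod p, u ≠ 0 ∧
      ∀ d : G, (Φ (d * t * d⁻¹) : Matrix (Fin 3) (Fin 3) (ZMod p)) *ᵥ u = u := by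
  classical
  have hpair : NoPair Φ.range := by
    intro a α b β hαa hβb hαb hβa hα hb hA hB
    obtain ⟨K, hKX, hKp, hK3, -⟩ := exists_cube hαa hβb hαb hβa hα hb hA hB
    have h1 : Nat.card (K.comap Φ) = p ^ 3 := by
      rw [Nat.card_congr (Subgroup.equivMapOfInjective (K.comap Φ) Φ hΦ).toEquiv,
        Subgroup.map_comap_eq_self hKX, hK3]
    have h2 := hcard (K.comap Φ) (hKp.comap_of_injective Φ hΦ)
    rw [h1] at h2
    nlinarith [hp.out.two_le, pow_succ p 2, pow_two p]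
  have ht1 : t ≠ 1 := fun h => tr_ne_one hv hφ (by rw [← ht, h, map_one, Units.val_one])
  have hzc : Nat.card (Subgroup.zpowers t) = p := by
    rw [Nat.card_zpowers, orderOf_eq_prime htp ht1]
  -- centres and functionals of conjugates
  let cv : G → Fin 3 → ZMod p := fun d => (Φ d : Matrix (Fin 3) (Fin 3) (ZMod p)) *ᵥ v
  let fn : G → Fin 3 → ZMod p := fun d => φ ᵥ* (↑(Φ d)⁻¹ : Matrix (Fin 3) (Fin 3) (ZMod p))
  have hconj : ∀ d, (Φ (d * t * d⁻¹) : Matrix (Fin 3) (Fin 3) (ZMod p)) = tr (cv d) (fn d) :=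
    fun d => by rw [map_mul, map_mul, map_inv, Units.val_mul, Units.val_mul, ht, mul_tr]
  have hfc : ∀ d, fn d ⬝ᵥ cv d = 0 := fun d => by
    show (φ ᵥ* _) ⬝ᵥ (_ *ᵥ v) = 0
    rw [← Matrix.dotProduct_mulVec, Matrix.mulVec_mulVec, Units.inv_mul, Matrix.one_mulVec, hφv]
  have hcv : ∀ d, cv d ≠ 0 := fun d h => hv (by
    have := congrArg ((↑(Φ d)⁻¹ : Matrix (Fin 3) (Fin 3) (ZMod p)) *ᵥ ·) h
    simpa [cv, Matrix.mulVec_mulVec, Units.inv_mul] using this)
  have hfn : ∀ d, fn d ≠ 0 := fun d h => hφ (by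
    have := congrArg (· ᵥ* (Φ d : Matrix (Fin 3) (Fin 3) (ZMod p))) h
    simpa [fn, Matrix.vecMul_vecMul, Units.inv_mul] using this)
  have hmem : ∀ d, Mem Φ.range (tr (cv d) (fn d)) := fun d => ⟨_, ⟨_, rfl⟩, hconj d⟩
  have hiff : ∀ d e, fn d ⬝ᵥ cv e = 0 → fn e ⬝ᵥ cv d = 0 := fun d e h => by
    by_contra h'
    exact hpair _ _ _ _ (hfc d) (hfc e) h h' (hfn d) (hcv e) (hmem d) (hmem e)
  have hcom : ∀ d e, fn d ⬝ᵥ cv e = 0 →
      d * t * d⁻¹ * (e * t * e⁻¹) = e * t * e⁻¹ * (d * t * d⁻¹) := fun d e h =>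
    hΦ (Units.ext (by
      rw [map_mul Φ (d * t * d⁻¹) (e * t * e⁻¹), map_mul Φ (e * t * e⁻¹) (d * t * d⁻¹),
        Units.val_mul, Units.val_mul, hconj, hconj]
      exact tr_comm h (hiff d e h)))
  have hsame : ∀ d e, fn d ⬝ᵥ cv e = 0 → e * t * e⁻¹ ∈ Subgroup.zpowers (d * t * d⁻¹) := by
    intro d e h
    set g := d * t * d⁻¹
    set k := e * t * e⁻¹
    have hg : g ^ p = 1 := by rw [conj_pow, htp, mul_one, mul_inv_cancel]
    have hk : k ^ p = 1 := by rw [conj_pow, htp, mul_one, mul_inv_cancel]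
    have hg1 : g ≠ 1 := fun h => ht1 (by simpa [g] using h)
    have hpg : ∀ x : G, x ^ p = 1 → IsPGroup p (Subgroup.zpowers x) := fun x hx y => by
      obtain ⟨i, hi⟩ := Subgroup.mem_zpowers_iff.1 y.2
      refine ⟨1, Subtype.ext ?_⟩
      rw [pow_one, Subgroup.coe_pow, ← hi, ← zpow_natCast, zpow_comm, zpow_natCast, hx, one_zpow,
        Subgroup.coe_one]
    have hle : Subgroup.zpowers g ≤ Subgroup.normalizer (Subgroup.zpowers k : Set G) := by
      rw [Subgroup.zpowers_le]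
      exact Subgroup.centralizer_le_normalizer _ (fun y hy => by
        obtain ⟨i, rfl⟩ := Subgroup.mem_zpowers_iff.1 hy
        exact ((Commute.zpow_right (hcom d e h) i)).eq.symm)
    have hcard' := hcard _ ((hpg g hg).to_sup_of_normal_right' (hpg k hk) hle)
    have h1 : Subgroup.zpowers g = Subgroup.zpowers g ⊔ Subgroup.zpowers k :=
      Subgroup.eq_of_le_of_card_ge le_sup_left (by
        rw [Nat.card_zpowers, orderOf_eq_prime hg hg1]; exact hcard')
    rw [h1]
    exact Subgroup.mem_sup_right (Subgroup.mem_zpowers k)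
  obtain ⟨c, hc⟩ : ∃ c, φ ⬝ᵥ cv c ≠ 0 := by
    by_contra h
    push Not at h
    refine hnn ⟨fun x hx d => ?_⟩
    obtain ⟨i, rfl⟩ := Subgroup.mem_zpowers_iff.1 hx
    have h2 := hsame 1 d (by simpa [fn] using h d)
    rw [one_mul, inv_one, mul_one] at h2
    rw [← conj_zpow]
    exact zpow_mem h2 i
  have hfn1 : fn 1 = φ := by simp [fn]
  have hcv1 : cv 1 = v := by simp [cv]
  have hc' : fn c ⬝ᵥ v ≠ 0 := fun h => hc (by
    have := hiff c 1 (by rwa [hcv1])
    rwa [hfn1] at this)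
  obtain ⟨u, ⟨hu1, hu2⟩, hu0⟩ : ∃ u : Fin 3 → ZMod p, (φ ⬝ᵥ u = 0 ∧ fn c ⬝ᵥ u = 0) ∧ u ≠ 0 := by
    by_contra hcon
    push Not at hcon
    have hinj : Function.Injective fun x : Fin 3 → ZMod p => (φ ⬝ᵥ x, fn c ⬝ᵥ x) := by
      intro x y hxy
      simp only [Prod.mk.injEq] at hxy
      exact sub_eq_zero.1 (hcon (x - y) ⟨by rw [dotProduct_sub, hxy.1, sub_self],
        by rw [dotProduct_sub, hxy.2, sub_self]⟩)
    have := Nat.card_le_card_of_injective _ hinj
    rw [Nat.card_fun, Nat.card_prod, Nat.card_zmod, Nat.card_fin] at this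
    nlinarith [hp.out.two_le, pow_two p, pow_succ p 2]
  -- conjugates whose functional kills `u`
  have hfix : ∀ d, fn d ⬝ᵥ u = 0 →
      (Φ (d * t * d⁻¹) : Matrix (Fin 3) (Fin 3) (ZMod p)) *ᵥ u = u := fun d h => by
    rw [hconj, tr_apply, h, zero_smul, add_zero]
  have hpowfix : ∀ d, fn d ⬝ᵥ u = 0 → ∀ k ∈ Subgroup.zpowers (d * t * d⁻¹),
      (Φ k : Matrix (Fin 3) (Fin 3) (ZMod p)) *ᵥ u = u := fun d h k hk => by
    obtain ⟨n, rfl⟩ : ∃ n : ℕ, (d * t * d⁻¹) ^ n = k := Submonoid.mem_powers_iff _ _ |>.1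
      (mem_powers_iff_mem_zpowers.2 hk)
    simp only [map_pow, Units.val_pow_eq_pow_val, hconj, tr_pow (hfc d), tr_apply, smul_dotProduct,
      h, smul_zero, zero_smul, add_zero]
  refine ⟨u, hu0, fun d => ?_⟩
  by_cases hd : fn d ⬝ᵥ v = 0
  · have h1 := hiff d 1 (by rwa [hcv1])
    exact hpowfix 1 (by rwa [hfn1]) _ (hsame 1 d h1)
  -- an element of the pencil
  set s : ZMod p := -(fn d ⬝ᵥ cv c) * ((φ ⬝ᵥ cv c) * (fn d ⬝ᵥ v))⁻¹ with hs
  set e := t ^ s.val * c
  have hte : (Φ (t ^ s.val) : Matrix (Fin 3) (Fin 3) (ZMod p)) = tr v (s • φ) := by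
    rw [map_pow, Units.val_pow_eq_pow_val, ht, tr_pow hφv, ZMod.natCast_zmod_val]
  have hcve : cv e = cv c + (s * (φ ⬝ᵥ cv c)) • v := by
    show (Φ (t ^ s.val * c) : Matrix (Fin 3) (Fin 3) (ZMod p)) *ᵥ v = _
    rw [map_mul, Units.val_mul, ← Matrix.mulVec_mulVec, hte, tr_apply, smul_dotProduct, smul_eq_mul]
  have hfne : fn e ⬝ᵥ u = 0 := by
    have h1 : (↑(Φ (t ^ s.val))⁻¹ : Matrix (Fin 3) (Fin 3) (ZMod p)) *ᵥ u = u := by
      have h0 : (Φ (t ^ s.val) : Matrix (Fin 3) (Fin 3) (ZMod p)) *ᵥ u = u := by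
        rw [hte, tr_apply, smul_dotProduct, hu1, smul_zero, zero_smul, add_zero]
      conv_lhs => rw [← h0, Matrix.mulVec_mulVec]
      rw [Units.inv_mul, Matrix.one_mulVec]
    show (φ ᵥ* (↑(Φ (t ^ s.val * c))⁻¹ : Matrix (Fin 3) (Fin 3) (ZMod p))) ⬝ᵥ u = 0
    rw [map_mul, mul_inv_rev, Units.val_mul, ← Matrix.dotProduct_mulVec, ← Matrix.mulVec_mulVec, h1,
      Matrix.dotProduct_mulVec]
    exact hu2
  have h2 : fn d ⬝ᵥ cv e = 0 := by
    rw [hcve, dotProduct_add, dotProduct_smul, smul_eq_mul, hs]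
    field_simp
    ring
  exact hpowfix e hfne _ (hsame e d (hiff d e h2))

end Linear

variable {S : Type*} [Group S] [Finite S] {p : ℕ} [hp : Fact p.Prime]

/-- A normal section of order `p` is centralised. -/
theorem comm_mem_of_relIndex (hS : IsPGroup p S) {L D : Subgroup S} (hL : L.Normal) (hD : D.Normal)
    (hle : D ≤ L) (hidx : D.relIndex L = p) : ∀ s : S, ∀ x ∈ L, ⁅s, x⁆ ∈ D := by
  intro s x hx
  have hq : IsPGroup p (S ⧸ D) := hS.to_quotient D
  set q := QuotientGroup.mk' D with hqdef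
  haveI : (L.map q).Normal := hL.map _ (QuotientGroup.mk'_surjective _)
  have hcard : Nat.card (L.map q) = p := by
    rw [← hidx]
    show _ = (D.subgroupOf L).index
    rw [← Subgroup.relIndex_bot_left, show (⊥ : Subgroup (S ⧸ D)) = D.map q from
      ((Subgroup.map_eq_bot_iff _).2 (by rw [hqdef, QuotientGroup.ker_mk'])).symm,
      Subgroup.relIndex_map_map, hqdef, QuotientGroup.ker_mk', sup_idem,
      sup_eq_left.2 hle]
    rfl
  obtain ⟨z, hz, hz1, hzc⟩ := CfsgLib.InvChar.exists_mem_center_of_normal hq (L.map q) (fun h => by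
    rw [h, Subgroup.card_bot] at hcard
    exact hp.out.ne_one hcard.symm)
  have hle' : L.map q ≤ Subgroup.center (S ⧸ D) := by
    intro y hy
    haveI : Fact (Nat.card (L.map q)).Prime := ⟨hcard ▸ hp.out⟩
    have h1 : (⟨y, hy⟩ : L.map q) ∈ Subgroup.zpowers (⟨z, hz⟩ : L.map q) :=
      mem_zpowers_of_prime_card hcard (fun h => hz1 (congrArg Subtype.val h))
    obtain ⟨i, hi⟩ := Subgroup.mem_zpowers_iff.1 h1
    rw [← show z ^ i = y from congrArg Subtype.val hi]
    exact zpow_mem hzc i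
  refine (QuotientGroup.eq_one_iff _).1 ?_
  rw [← QuotientGroup.mk'_apply, ← hqdef, map_commutatorElement,
    commutatorElement_eq_one_iff_mul_comm]
  exact Subgroup.mem_center_iff.1 (hle' (mem_map_of_mem q hx)) (q s)

namespace Side

variable (A : Side p S)

/-- The common axis. -/
theorem exists_axis (hS : IsPGroup p S) (hab : ∀ x ∈ A.E, ∀ y ∈ A.E, x * y = y * x)
    (hexp : ∀ x ∈ A.E, x ^ p = 1) (hcard : Nat.card A.E = p ^ 3)
    {W₀ : Subgroup S} (hW₀ : W₀ ≤ A.E) (hW₀c : Nat.card W₀ = p ^ 2)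
    (hWc : ∀ s : S, ∀ x ∈ W₀, ⁅s, x⁆ = 1) :
    ∃ D : Subgroup S, A.Inv D ∧ Nat.card D = p ∧ D ≤ Subgroup.center S ∧
      (∀ g ∈ A.M, A.Fixes g D ⊥) ∧
      (∀ L, A.Inv L → D ≤ L → L ≤ A.E → L = D ∨ L = A.E) ∧
      (∃ s : S, ∃ x ∈ A.E, ⁅s, x⁆ ∉ D) := by
  classical
  haveI : Finite (MulAut A.E) := Finite.of_injective _ MulEquiv.toEquiv_injective
  have hEp : IsPGroup p A.E := hS.to_subgroup _
  have hfr : frattini A.E = ⊥ := by
    refine le_bot_iff.1 (CfsgLib.Transfer.frattini_le_of_elementary_quotient (p := p) _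
      (fun x y => ?_) fun x => ?_)
    · rw [Subgroup.mem_bot, commutatorElement_eq_one_iff_mul_comm]
      exact Subtype.ext (hab x x.2 y y.2)
    · exact Subgroup.mem_bot.2 (Subtype.ext (hexp x x.2))
  obtain ⟨ε, ρ, hε, hadd, hker, hρ⟩ := CfsgLib.RankThree.Top.exists_coord (p := p) hEp
    (by rw [hfr, Subgroup.index_bot, hcard])
  have hεinj : Function.Injective ε := fun x y h => by
    have h1 : ε (x⁻¹ * y) = 0 := by
      rw [hadd, CfsgLib.RankThree.Top.coord_inv hadd, h, neg_add_cancel]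
    rw [hker, hfr, Subgroup.mem_bot, inv_mul_eq_one] at h1
    exact h1
  let Φ : A.G →* GL (Fin 3) (ZMod p) := ρ.comp A.G.subtype
  have hfixiff : ∀ (g : A.G) (x : A.E),
      (Φ g : Matrix (Fin 3) (Fin 3) (ZMod p)) *ᵥ ε x = ε x ↔ (g : MulAut A.E) x = x := fun g x => by
    show (ρ g : Matrix (Fin 3) (Fin 3) (ZMod p)) *ᵥ ε x = ε x ↔ _
    rw [hρ]
    exact hεinj.eq_iff
  have hΦ : Function.Injective Φ := by
    rw [← MonoidHom.ker_eq_bot_iff, Subgroup.eq_bot_iff_forall]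
    intro g hg
    refine Subtype.ext (MulEquiv.ext fun x => (hfixiff g x).1 ?_)
    rw [MonoidHom.mem_ker.1 hg, Units.val_one, Matrix.one_mulVec]
  -- the Sylow subgroup has order `p`
  have hkc : A.cj.ker = A.E := by
    ext s
    rw [MonoidHom.mem_ker]
    constructor
    · intro h
      refine A.cent fun y hy => ?_
      have := congrArg Subtype.val (DFunLike.congr_fun h ⟨y, hy⟩)
      rw [cj_apply, MulAut.one_apply] at this
      exact (mul_inv_eq_iff_eq_mul.1 this).symm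
    · intro h
      refine MulEquiv.ext fun x => Subtype.ext ?_
      rw [cj_apply, MulAut.one_apply, hab s h x x.2, mul_inv_cancel_right]
  let t' : S →* A.G := A.cj.codRestrict A.G A.cj_mem
  have hTc : Nat.card t'.range = p := by
    rw [← Subgroup.index_ker, show t'.ker = A.cj.ker from MonoidHom.ker_codRestrict _ _ _, hkc,
      A.index]
  have hTidx : ¬ p ∣ t'.range.index := by
    intro hd
    refine A.sylow (hd.trans (dvd_of_eq ?_))
    show _ = (A.cj.range.subgroupOf A.G).index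
    congr 1
    ext y
    exact ⟨fun ⟨s, hs⟩ => ⟨s, congrArg Subtype.val hs⟩, fun ⟨s, hs⟩ => ⟨s, Subtype.ext hs⟩⟩
  have hTp : IsPGroup p t'.range := IsPGroup.of_card (n := 1) (by rw [hTc, pow_one])
  have hsmall : ∀ K : Subgroup A.G, IsPGroup p K → Nat.card K ≤ p := by
    intro K hK
    obtain ⟨Q, hQ⟩ := hK.exists_le_sylow
    refine (Nat.le_of_dvd Nat.card_pos (Subgroup.card_dvd_of_le hQ)).trans (le_of_eq ?_)
    refine Eq.trans ?_ hTc
    exact (Sylow.card_eq_multiplicity Q).trans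
      (Sylow.card_eq_multiplicity (hTp.toSylow hTidx)).symm
  obtain ⟨s₀, hs₀⟩ : ∃ s, s ∉ A.E := by
    by_contra h
    push Not at h
    exact A.ne_top ((Subgroup.eq_top_iff' A.E).2 h)
  set t : A.G := t' s₀ with htdef
  have ht1 : t ≠ 1 := fun h => hs₀ (by
    rw [← hkc]
    exact MonoidHom.mem_ker.2 (congrArg Subtype.val h))
  have hzt : Subgroup.zpowers t = t'.range :=
    Subgroup.eq_of_le_of_card_ge (Subgroup.zpowers_le.2 ⟨s₀, rfl⟩) (by
      rw [hTc]
      obtain ⟨k, hk⟩ := (IsPGroup.iff_card).1 (hTp.to_le (Subgroup.zpowers_le.2 ⟨s₀, rfl⟩) :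
        IsPGroup p (Subgroup.zpowers t))
      rw [hk]
      refine Nat.le_self_pow (fun h0 => ht1 ?_) p
      rw [h0, pow_zero, Subgroup.card_eq_one, Subgroup.zpowers_eq_bot] at hk
      exact hk)
  have htp : t ^ p = 1 := by
    have h1 := congrArg Subtype.val (pow_card_eq_one' (x := (⟨t, s₀, rfl⟩ : t'.range)))
    rwa [hTc] at h1
  -- it is a transvection
  have hWfix : ∀ x : A.E, (x : S) ∈ W₀ → (Φ t : Matrix (Fin 3) (Fin 3) (ZMod p)) *ᵥ ε x = ε x := by
    intro x hx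
    rw [hfixiff]
    refine Subtype.ext ?_
    show ((A.cj s₀ x : A.E) : S) = x
    rw [cj_apply, (commutatorElement_eq_one_iff_mul_comm.1 (hWc s₀ x hx)), mul_inv_cancel_right]
  have hz1 : Φ t ≠ 1 := fun h => ht1 (hΦ (h.trans (map_one _).symm))
  obtain ⟨hn3, ⟨v, φ, hv, hφ, hφv, hztr⟩ | ⟨w, hw⟩⟩ := CfsgLib.RankThree.Linear.tr_or_regular
    (k := 1) (by rw [pow_one, ← map_pow, htp, map_one]) hz1
  swap
  · exfalso
    set n : Matrix (Fin 3) (Fin 3) (ZMod p) := (Φ t : Matrix (Fin 3) (Fin 3) (ZMod p)) - 1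
    have hline : ∀ x : W₀, ∃ r : ZMod p, ε ⟨x, hW₀ x.2⟩ = r • (n *ᵥ (n *ᵥ w)) := by
      intro x
      obtain ⟨a, b, c, habc⟩ := CfsgLib.RankThree.Linear.regular_span hn3 hw (ε ⟨x, hW₀ x.2⟩)
      have h0 : n *ᵥ ε ⟨x, hW₀ x.2⟩ = 0 := by
        rw [Matrix.sub_mulVec, hWfix _ x.2, Matrix.one_mulVec, sub_self]
      have h3 : n *ᵥ (n *ᵥ (n *ᵥ w)) = 0 := by
        have h1 : n * n * n = 0 := by rw [← hn3]; noncomm_ring
        rw [Matrix.mulVec_mulVec, Matrix.mulVec_mulVec, h1, Matrix.zero_mulVec]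
      rw [habc, Matrix.mulVec_add, Matrix.mulVec_add, Matrix.mulVec_smul, Matrix.mulVec_smul,
        Matrix.mulVec_smul, h3, smul_zero, add_zero] at h0
      obtain ⟨-, ha, hb⟩ := CfsgLib.RankThree.Linear.regular_indep hn3 hw (a := 0) (b := a) (c := b)
        (by rw [zero_smul, zero_add]; exact h0)
      exact ⟨c, by rw [habc, ha, hb, zero_smul, zero_smul, zero_add, zero_add]⟩
    choose r hr using hline
    have hinj : Function.Injective r := fun x y h => by
      have h1 : ε ⟨x, hW₀ x.2⟩ = ε ⟨y, hW₀ y.2⟩ := by rw [hr x, hr y, h]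
      exact Subtype.ext (congrArg Subtype.val (hεinj h1) :)
    have := Nat.card_le_card_of_injective _ hinj
    rw [hW₀c, Nat.card_zmod] at this
    nlinarith [hp.out.two_le]
  obtain ⟨u, hu, hufix⟩ := exists_common_fixed Φ hΦ hsmall htp (fun hn => A.not_normal (by
    rw [hzt] at hn
    refine ⟨fun y hy g => ?_⟩
    obtain ⟨s, hs⟩ := hy
    obtain ⟨s', hs'⟩ := hn.conj_mem y ⟨s, Subtype.ext hs⟩ g
    exact ⟨s', congrArg Subtype.val hs'⟩)) hv hφ hφv hztr
  obtain ⟨x₀, rfl⟩ := hε u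
  have hx₀ : ∀ m ∈ A.M, m x₀ = x₀ := by
    intro m hm
    induction hm using Subgroup.closure_induction with
    | mem m hm =>
      obtain ⟨g, hg, s, rfl⟩ := hm
      obtain ⟨i, hi⟩ := Subgroup.mem_zpowers_iff.1
        (hzt ▸ ⟨s, rfl⟩ : t' s ∈ Subgroup.zpowers t)
      have h1 : ((⟨g, hg⟩ * t * ⟨g, hg⟩⁻¹ : A.G) : MulAut A.E) x₀ = x₀ := (hfixiff _ _).1 (hufix _)
      have h2 : g * A.cj s * g⁻¹ = (((⟨g, hg⟩ * t * ⟨g, hg⟩⁻¹ : A.G)) : MulAut A.E) ^ i := by
        rw [show A.cj s = ((t' s : A.G) : MulAut A.E) from rfl, ← hi]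
        simp [conj_zpow]
      rw [h2]
      exact zpow_mem (K := (MulAction.stabilizer (MulAut A.E) x₀)) h1 i
    | one => rfl
    | mul a b _ _ iha ihb => rw [MulAut.mul_apply, ihb, iha]
    | inv a _ iha =>
      conv_lhs => rw [← iha]
      exact MulAut.inv_apply_self _ a x₀
  -- the fixed subgroup
  let D₁ : Subgroup A.E :=
    { carrier := {x | ∀ m ∈ A.M, m x = x}
      one_mem' := fun m _ => map_one m
      mul_mem' := fun hx hy m hm => by rw [map_mul, hx m hm, hy m hm]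
      inv_mem' := fun hx m hm => by rw [map_inv, hx m hm] }
  set D := D₁.map A.E.subtype with hD
  have hmemD : ∀ x : A.E, (x : S) ∈ D ↔ ∀ m ∈ A.M, m x = x := fun x => by
    rw [hD, ← Subgroup.coe_subtype, Subgroup.mem_map_iff_mem A.E.subtype_injective]
    rfl
  have hDE : D ≤ A.E := map_subtype_le _
  have hDinv : A.Inv D := by
    refine ⟨hDE, fun g hg x hx => (hmemD _).2 fun m hm => ?_⟩
    have h1 := (hmemD x).1 hx (g⁻¹ * m * g⁻¹⁻¹) (A.M_conj (inv_mem hg) hm)
    rw [inv_inv, MulAut.mul_apply, MulAut.mul_apply] at h1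
    have h2 := congrArg g h1
    rwa [MulAut.apply_inv_self] at h2
  have hDc : D ≤ Subgroup.center S := fun y hy => Subgroup.mem_center_iff.2 fun s => by
    have h1 := congrArg Subtype.val ((hmemD ⟨y, hDE hy⟩).1 hy (A.cj s) (A.cj_mem_M s))
    rw [cj_apply] at h1
    exact mul_inv_eq_iff_eq_mul.1 h1
  have hfixD : ∀ g ∈ A.M, A.Fixes g D ⊥ := fun g hg x hx => by
    rw [(hmemD x).1 hx g hg, inv_mul_cancel]
    exact one_mem _
  have hcen : ∀ s : S, ∀ x ∈ D, ⁅s, x⁆ ∈ (⊥ : Subgroup S) := fun s x hx => by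
    rw [mem_bot, commutatorElement_eq_one_iff_mul_comm]
    exact Subgroup.mem_center_iff.1 (hDc hx) s
  have hser : ∀ L : Subgroup S, A.Inv L → D ≤ L → (∀ s : S, ∀ x ∈ L, ⁅s, x⁆ ∈ D) →
      (∀ s : S, ∀ x ∈ A.E, ⁅s, x⁆ ∈ L) → False := by
    intro L hL hDL h1 h2
    let C : ℕ → Subgroup S := fun i => if i = 0 then ⊥ else if i = 1 then D else
      if i = 2 then L else A.E
    refine A.false_of_series hS 3 C rfl le_rfl (fun i => ?_) fun i hi s x hxE hx => ?_
    · refine A.inv_inf ?_ A.inv_E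
      simp only [C]
      split_ifs
      exacts [A.inv_bot, hDinv, hL, A.inv_E]
    · interval_cases i
      · exact hcen s x hx
      · exact h1 s x hx
      · exact h2 s x hxE
  have hW₀e : Nat.card D = p := by
    have hdvd : Nat.card D ∣ p ^ 3 := hcard ▸ Subgroup.card_dvd_of_le hDE
    obtain ⟨k, hk, hk'⟩ := (Nat.dvd_prime_pow hp.out).1 hdvd
    rw [hk']
    suffices hk1 : k = 1 by rw [hk1, pow_one]
    have hk0 : k ≠ 0 := fun h => by
      rw [h, pow_zero, Subgroup.card_eq_one] at hk'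
      have h1 := (hmemD x₀).2 hx₀
      rw [hk', mem_bot] at h1
      refine hu ?_
      rw [show x₀ = 1 from Subtype.ext h1]
      exact CfsgLib.RankThree.Top.coord_one hadd
    have hk2 : k < 2 := by
      by_contra hge
      push Not at hge
      refine hser D hDinv le_rfl (fun s x hx => bot_le (a := D) (hcen s x hx)) fun s x hx => ?_
      interval_cases k
      · refine comm_mem_of_relIndex hS A.normal hDinv.normal hDE ?_ s x hx
        have h1 : D.relIndex A.E * Nat.card D = Nat.card A.E := by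
          rw [mul_comm, ← Subgroup.relIndex_bot_left, ← Subgroup.relIndex_bot_left,
            Subgroup.relIndex_mul_relIndex _ _ _ bot_le hDE]
        rw [hk', hcard, pow_succ' p 2] at h1
        exact Nat.eq_of_mul_eq_mul_right (pow_pos hp.out.pos 2) h1
      · rw [Subgroup.eq_of_le_of_card_ge hDE (by rw [hk', hcard])]
        rw [commutatorElement_def]
        exact A.E.mul_mem (A.normal.conj_mem x hx s) (A.E.inv_mem hx)
    omega
  refine ⟨D, hDinv, hW₀e, hDc, hfixD, fun L hL hDL hLE => ?_, ?_⟩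
  · by_contra hcon
    push Not at hcon
    have hrel : D.relIndex L = p ∧ L.relIndex A.E = p := by
      have h1 : D.relIndex L * L.relIndex A.E = D.relIndex A.E :=
        Subgroup.relIndex_mul_relIndex _ _ _ hDL hLE
      have h2 : D.relIndex A.E * Nat.card D = Nat.card A.E := by
        rw [mul_comm, ← Subgroup.relIndex_bot_left, ← Subgroup.relIndex_bot_left,
          Subgroup.relIndex_mul_relIndex _ _ _ bot_le hDE]
      rw [hW₀e, hcard, pow_succ p 2] at h2
      rw [Nat.eq_of_mul_eq_mul_right hp.out.pos h2] at h1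
      have hne1 : D.relIndex L ≠ 1 := fun h => hcon.1 (le_antisymm (relIndex_eq_one.1 h) hDL)
      have hne2 : L.relIndex A.E ≠ 1 := fun h => hcon.2 (le_antisymm hLE (relIndex_eq_one.1 h))
      exact (Nat.Prime.mul_eq_prime_sq_iff hp.out hne1 hne2).1 h1
    exact hser L hL hDL (comm_mem_of_relIndex hS hL.normal hDinv.normal hDL hrel.1)
      (comm_mem_of_relIndex hS A.normal hL.normal hLE hrel.2)
  · by_contra hcon
    push Not at hcon
    exact hser D hDinv le_rfl (fun s x hx => bot_le (a := D) (hcen s x hx)) hcon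

end Side

end CfsgLib.RankThreePair
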