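import Cfsg.Agent.Lib.RankThreePair.SpIso
import Cfsg.Agent.Lib.StructC.BurnsideBasis
import Cfsg.Agent.Lib.StructC.QuatPair
import Cfsg.Agent.Lib.ClassK.SubgroupCount
import Cfsg.Agent.Lib.Coprime.BlackburnSplit

/-!
The first case of two automizers of maximal subgroups: the moved `Ω₁(Z(S))` of one side generates a
subgroup outside the other side.
-/

set_option autoImplicit false
set_option linter.style.haveILetI false
set_option linter.unusedSectionVars false

namespace CfsgLib.RankThreePair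

open Subgroup CfsgLib.RankThree
open scoped commutatorElement

namespace CaseOne

variable {S : Type*} [Group S] [Finite S] {p : ℕ} [hp : Fact p.Prime]

theorem center_le (A : Side p S) : Subgroup.center S ≤ A.E :=
  le_trans (fun _ hz => Subgroup.mem_centralizer_iff.2 fun e _ =>
    Subgroup.mem_center_iff.1 hz e) A.cent

theorem orbit_facts (A : Side p S) :
    (A.orbit (oz p S)).Normal ∧ A.orbit (oz p S) ≤ A.E ∧
      ∀ x ∈ A.orbit (oz p S), x ^ p = 1 ∧ ∀ e ∈ A.E, Commute x e := by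
  have hgen : ∀ g ∈ A.G, ∀ x : A.E, (x : S) ∈ oz p S →
      ((g x : A.E) : S) ^ p = 1 ∧ ∀ e ∈ A.E, Commute ((g x : A.E) : S) e := by
    intro g _ x hx
    refine ⟨?_, fun e he => ?_⟩
    · rw [← SubmonoidClass.coe_pow, ← map_pow, show x ^ p = 1 from Subtype.ext hx.2, map_one]
      rfl
    · have h1 : Commute x (g⁻¹ (⟨e, he⟩ : A.E)) :=
        Subtype.ext (Subgroup.mem_center_iff.1 hx.1 _).symm
      have h2 := h1.map (g : A.E ≃* A.E).toMonoidHom
      have h3 := h2.map A.E.subtype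
      simpa using h3
  let Z : Subgroup S := Subgroup.center A.E |>.map A.E.subtype
  haveI := A.normal
  have hle : A.orbit (oz p S) ≤ A.E := by
    rw [Side.orbit, Subgroup.closure_le]
    rintro _ ⟨g, -, x, -, rfl⟩
    exact (g x).2
  refine ⟨⟨fun y hy s => ?_⟩, hle, fun y hy => ?_⟩
  · have h1 : A.orbit (oz p S) ≤ (A.orbit (oz p S)).comap (MulAut.conj s).toMonoidHom := by
      refine (Subgroup.closure_le _).2 ?_
      rintro _ ⟨g, hg, x, hx, rfl⟩
      refine Subgroup.subset_closure ⟨A.cj s * g, mul_mem (A.cj_mem s) hg, x, hx, ?_⟩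
      rw [MulAut.mul_apply, A.cj_apply]
      rfl
    exact h1 hy
  · induction hy using Subgroup.closure_induction with
    | mem z hz =>
      obtain ⟨g, hg, x, hx, rfl⟩ := hz
      exact hgen g hg x hx
    | one => exact ⟨one_pow _, fun e _ => Commute.one_left e⟩
    | mul z w hz hw ihz ihw =>
      refine ⟨?_, fun e he => (ihz.2 e he).mul_left (ihw.2 e he)⟩
      rw [(ihz.2 w (hle hw)).mul_pow, ihz.1, ihw.1, one_mul]
    | inv z hz ih => exact ⟨by rw [inv_pow, ih.1, inv_one], fun e he => (ih.2 e he).inv_left⟩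

section Stab

variable {E : Type*} [Group E] [Finite E] {N₁ N₂ : Subgroup E} (h12 : N₁ ≤ N₂)

/-- The automorphisms stabilising a series of three steps. -/
def stabCond (N₁ N₂ : Subgroup E) (g : MulAut E) : Prop :=
  (∀ x ∈ N₁, g x = x) ∧ (∀ x ∈ N₂, x⁻¹ * g x ∈ N₁) ∧ ∀ x, x⁻¹ * g x ∈ N₂

include h12

theorem stabCond_mul {g h : MulAut E} (hg : stabCond N₁ N₂ g) (hh : stabCond N₁ N₂ h) :
    stabCond N₁ N₂ (g * h) := by
  refine ⟨fun x hx => by rw [MulAut.mul_apply, hh.1 x hx, hg.1 x hx], fun x hx => ?_, fun x => ?_⟩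
  · have e : x⁻¹ * (g * h) x = (x⁻¹ * g x) * g (x⁻¹ * h x) := by
      rw [MulAut.mul_apply, map_mul, map_inv]; group
    rw [e, hg.1 _ (hh.2.1 x hx)]
    exact mul_mem (hg.2.1 x hx) (hh.2.1 x hx)
  · have e : x⁻¹ * (g * h) x = (x⁻¹ * g x) * g (x⁻¹ * h x) := by
      rw [MulAut.mul_apply, map_mul, map_inv]; group
    have e2 : g (x⁻¹ * h x) = (x⁻¹ * h x) * ((x⁻¹ * h x)⁻¹ * g (x⁻¹ * h x)) :=
      (mul_inv_cancel_left _ _).symm
    rw [e, e2]
    exact mul_mem (hg.2.2 x) (mul_mem (hh.2.2 x) (h12 (hg.2.1 _ (hh.2.2 x))))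

/-- The stabiliser. -/
def stab : Subgroup (MulAut E) where
  carrier := {g | stabCond N₁ N₂ g}
  one_mem' := ⟨fun _ _ => rfl, fun x _ => by simp, fun x => by simp⟩
  mul_mem' := stabCond_mul h12
  inv_mem' := fun {g} hg => by
    show stabCond N₁ N₂ g⁻¹
    have h1 : ∀ n : ℕ, stabCond N₁ N₂ (g ^ n) := fun n => by
      induction n with
      | zero => exact ⟨fun _ _ => rfl, fun x _ => by simp, fun x => by simp⟩
      | succ n ih => rw [pow_succ]; exact stabCond_mul h12 ih hg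
    have h2 : g⁻¹ = g ^ (orderOf g - 1) := inv_eq_of_mul_eq_one_right (by
      rw [← pow_succ', Nat.sub_add_cancel (orderOf_pos g), pow_orderOf_eq_one])
    rw [h2]
    exact h1 _

theorem isPGroup_stab {p : ℕ} [Fact p.Prime] (hE : IsPGroup p E) :
    IsPGroup p (stab h12) := by
  obtain ⟨n, hn⟩ := hE.exists_card_eq
  have hexp : ∀ d : E, d ^ p ^ n = 1 := fun d => by rw [← hn]; exact pow_card_eq_one'
  have hkey : ∀ (g : MulAut E) (x : E), g (x⁻¹ * g x) = x⁻¹ * g x → ∀ k : ℕ,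
      (g ^ k) x = x * (x⁻¹ * g x) ^ k := by
    intro g x hfix k
    induction k with
    | zero => simp
    | succ k ih =>
      rw [pow_succ', MulAut.mul_apply, ih, map_mul, map_pow, hfix, pow_succ' _ k, ← mul_assoc,
        mul_inv_cancel_left]
  rintro ⟨g, hg⟩
  refine ⟨n + n, Subtype.ext ?_⟩
  show g ^ p ^ (n + n) = 1
  rw [pow_add, pow_mul]
  have hh : stabCond N₁ N₂ (g ^ p ^ n) := pow_mem (show g ∈ stab h12 from hg) _
  have hfix : ∀ x ∈ N₂, (g ^ p ^ n) x = x := fun x hx => by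
    rw [hkey g x (hg.1 _ (hg.2.1 x hx)), hexp, mul_one]
  ext x
  rw [hkey _ x (hfix _ (hh.2.2 x)), hexp, mul_one]
  rfl

theorem conj_mem_stab [hN₁ : N₁.Normal] [hN₂ : N₂.Normal] (e : E) {g : MulAut E}
    (hg : g ∈ stab h12) :
    MulAut.conj e * g * (MulAut.conj e)⁻¹ ∈ stab h12 := by
  have hg' : stabCond N₁ N₂ g := hg
  have hy : ∀ x, (MulAut.conj e * g * (MulAut.conj e)⁻¹) x = e * g (e⁻¹ * x * e) * e⁻¹ := fun x => by
    simp
  have hc : ∀ {N : Subgroup E}, N.Normal → ∀ x ∈ N, e⁻¹ * x * e ∈ N := fun {N} hN x hx => by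
    simpa using hN.conj_mem x hx e⁻¹
  have he : ∀ x, x⁻¹ * (e * g (e⁻¹ * x * e) * e⁻¹) =
      e * ((e⁻¹ * x * e)⁻¹ * g (e⁻¹ * x * e)) * e⁻¹ := fun x => by group
  refine ⟨fun x hx => ?_, fun x hx => ?_, fun x => ?_⟩
  · rw [hy, hg'.1 _ (hc hN₁ x hx)]; group
  · rw [hy, he]
    exact hN₁.conj_mem _ (hg'.2.1 _ (hc hN₂ x hx)) e
  · rw [hy, he]
    exact hN₂.conj_mem _ (hg'.2.2 _) e

end Stab

theorem cj_mul_conj (B : Side p S) (g : MulAut B.E) (e : B.E) :
    g * B.cj (e : S) * g⁻¹ = B.cj ((g e : B.E) : S) := by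
  ext x
  have h1 : B.cj (e : S) (g⁻¹ x) = e * g⁻¹ x * e⁻¹ := Subtype.ext (by rw [B.cj_apply]; rfl)
  rw [MulAut.mul_apply, MulAut.mul_apply, h1, map_mul, map_mul, MulAut.apply_inv_self, map_inv,
    B.cj_apply]
  rfl

theorem exists_conj_not_mem (B : Side p S) {b : S} (hb : b ∉ B.E) :
    ∃ g ∈ B.G, g * B.cj b * g⁻¹ ∉ B.cj.range := by
  by_contra! hcon
  refine B.not_normal ⟨fun t ht g => ?_⟩
  obtain ⟨s, hs⟩ := (ht : (t : MulAut B.E) ∈ (conjOf B.E B.normal).range)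
  obtain ⟨i, -, e, he, rfl⟩ := B.exists_pow hb s
  show ((g * t * g⁻¹ : B.G) : MulAut B.E) ∈ (conjOf B.E B.normal).range
  have h1 : (t : MulAut B.E) = B.cj (b ^ i * e) := hs.symm
  rw [Subgroup.coe_mul, Subgroup.coe_mul, Subgroup.coe_inv, h1, map_mul, map_pow,
    show (g : MulAut B.E) * (B.cj b ^ i * B.cj e) * (g : MulAut B.E)⁻¹ =
      ((g : MulAut B.E) * B.cj b ^ i * (g : MulAut B.E)⁻¹) *
        ((g : MulAut B.E) * B.cj ((⟨e, he⟩ : B.E) : S) * (g : MulAut B.E)⁻¹) by group,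
    cj_mul_conj, ← conj_pow]
  exact mul_mem (pow_mem (hcon g g.2) i) ⟨_, rfl⟩

theorem mem_range_of_stab (hS : IsPGroup p S) (B : Side p S) {N₁ N₂ : Subgroup B.E} [N₁.Normal]
    [N₂.Normal] (h12 : N₁ ≤ N₂) {b : S} (hb : b ∉ B.E) {g : MulAut B.E} (hg : g ∈ B.G)
    (h1 : stabCond N₁ N₂ (B.cj b)) (h2 : stabCond N₁ N₂ g) : g ∈ B.cj.range := by
  set K : Subgroup (MulAut B.E) := stab h12 ⊓ B.G with hK
  set J : Subgroup (MulAut B.E) := B.E.map B.cj with hJ
  have hJe : ∀ e : B.E, B.cj (e : S) = MulAut.conj e := fun e => by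
    ext x
    rw [B.cj_apply]
    rfl
  have hJK : J ≤ Subgroup.normalizer (K : Set (MulAut B.E)) := by
    rintro _ ⟨e, he, rfl⟩
    have hstep : ∀ (e : B.E) x, x ∈ K → B.cj (e : S) * x * (B.cj (e : S))⁻¹ ∈ K := fun e x hx =>
      ⟨by rw [hJe]; exact conj_mem_stab h12 e hx.1,
        Subgroup.mul_mem _ (Subgroup.mul_mem _ (B.cj_mem _) hx.2) (Subgroup.inv_mem _ (B.cj_mem _))⟩
    intro x
    refine ⟨fun hx => hstep ⟨e, he⟩ x hx, fun hx => ?_⟩
    have h3 := hstep ⟨e⁻¹, inv_mem he⟩ _ hx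
    simp only [map_inv, inv_inv] at h3
    rwa [show (B.cj e)⁻¹ * (B.cj e * x * (B.cj e)⁻¹) * B.cj e = x by group] at h3
  have hP : IsPGroup p (K ⊔ J : Subgroup (MulAut B.E)) :=
    IsPGroup.to_sup_of_normal_left'
      ((isPGroup_stab h12 (hS.to_subgroup B.E)).to_le inf_le_left)
      ((hS.to_subgroup B.E).map B.cj) hJK
  set T := B.cj.range with hT
  have hTP : T ≤ K ⊔ J := by
    rintro _ ⟨s, rfl⟩
    obtain ⟨i, -, e, he, rfl⟩ := B.exists_pow hb s
    rw [map_mul, map_pow]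
    exact Subgroup.mul_mem_sup (pow_mem (show B.cj b ∈ K from ⟨h1, B.cj_mem b⟩) i) ⟨e, he, rfl⟩
  have hPG : K ⊔ J ≤ B.G := sup_le inf_le_right (by
    rintro _ ⟨e, -, rfl⟩
    exact B.cj_mem e)
  have h3 : T.relIndex (K ⊔ J) ∣ T.relIndex B.G :=
    ⟨_, (Subgroup.relIndex_mul_relIndex T (K ⊔ J) B.G hTP hPG).symm⟩
  obtain ⟨k, hk⟩ := hP.index (T.subgroupOf (K ⊔ J))
  have hk' : T.relIndex (K ⊔ J) = p ^ k := hk
  rcases k with _ | k
  · exact (relIndex_eq_one.1 (hk'.trans (pow_zero p))) (Subgroup.mem_sup_left ⟨h2, hg⟩)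
  · exact absurd ((Dvd.intro_left _ (pow_succ p k).symm).trans (hk' ▸ h3)) B.sylow

theorem pair_moves (hS : IsPGroup p S) (B : Side p S) {b : S} (hb : b ∉ B.E) {g : MulAut B.E}
    (hg : g ∈ B.G) (hnot : g * B.cj b * g⁻¹ ∉ B.cj.range) (L : Subgroup B.E) [hL : L.Normal]
    (h1 : ∀ x ∈ L, B.cj b x = x) (h2 : ∀ x, x⁻¹ * B.cj b x ∈ L) :
    (∃ x ∈ L, (g * B.cj b * g⁻¹) x ≠ x) ∧ ∃ x ∈ L, B.cj b (g x) ≠ g x := by
  set β := B.cj b with hβ
  set β' := g * β * g⁻¹ with hβ'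
  set L' : Subgroup B.E := L.map g.toMonoidHom with hL'
  haveI : L'.Normal := hL.map g.toMonoidHom g.surjective
  have hg' : β' ∈ B.G := mul_mem (mul_mem hg (B.cj_mem b)) (inv_mem hg)
  have hfix : ∀ x ∈ L', β' x = x := by
    rintro _ ⟨x, hx, rfl⟩
    show g (β (g⁻¹ (g x))) = g x
    rw [MulAut.inv_apply_self, h1 x hx]
  have hmove : ∀ x, x⁻¹ * β' x ∈ L' := fun x => by
    refine ⟨(g⁻¹ x)⁻¹ * β (g⁻¹ x), h2 _, ?_⟩
    show g ((g⁻¹ x)⁻¹ * β (g⁻¹ x)) = _
    rw [map_mul, map_inv, MulAut.apply_inv_self]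
    rfl
  have hsup : ∀ (σ : MulAut B.E), (∀ x ∈ L, σ x = x) → (∀ x ∈ L', σ x = x) →
      ∀ x ∈ L ⊔ L', σ x = x := by
    intro σ u v x hx
    obtain ⟨y, hy, z, hz, rfl⟩ := Subgroup.mem_sup_of_normal_right.1 hx
    rw [map_mul, u y hy, v z hz]
  constructor
  · by_contra! hcon
    refine hnot (mem_range_of_stab hS B (N₁ := L) (N₂ := L ⊔ L') le_sup_left hb hg'
      ⟨h1, fun x _ => h2 x, fun x => Subgroup.mem_sup_left (h2 x)⟩
      ⟨hcon, fun x hx => ?_, fun x => Subgroup.mem_sup_right (hmove x)⟩)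
    rw [hsup β' hcon hfix x hx, inv_mul_cancel]
    exact one_mem _
  · by_contra! hcon
    have hβfix : ∀ x ∈ L', β x = x := by
      rintro _ ⟨x, hx, rfl⟩
      exact hcon x hx
    refine hnot (mem_range_of_stab hS B (N₁ := L') (N₂ := L ⊔ L') le_sup_right hb hg'
      ⟨hβfix, fun x hx => ?_, fun x => Subgroup.mem_sup_left (h2 x)⟩
      ⟨hfix, fun x _ => hmove x, fun x => Subgroup.mem_sup_right (hmove x)⟩)
    rw [hsup β h1 hβfix x hx, inv_mul_cancel]
    exact one_mem _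

theorem comm_of_central {G : Type*} [Group G] {z d x : G} (h1 : Commute z d) (h2 : Commute z x) :
    ⁅z * d, x⁆ = ⁅d, x⁆ ∧ ⁅x, z * d⁆ = ⁅x, d⁆ := by
  have e : ⁅z * d, x⁆ = ⁅d, x⁆ := by
    have h3 : Commute z (⁅d, x⁆) := by
      rw [commutatorElement_def]
      exact ((h1.mul_right h2).mul_right h1.inv_right).mul_right h2.inv_right
    have h4 : ⁅z, x⁆ = 1 := commutatorElement_eq_one_iff_mul_comm.2 h2.eq
    rw [comm_mul_left h3, h4, mul_one]
  exact ⟨e, by rw [← commutatorElement_inv, e, commutatorElement_inv]⟩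

end CaseOne

open CaseOne in
/-- The case in which the moved `Ω₁(Z(S))` does not lie in the other side. -/
theorem case_one {S : Type*} [Group S] [Finite S] {p : ℕ} [hp : Fact p.Prime] (hp2 : p ≠ 2)
    (hS : IsPGroup p S) (hr : Cfsg.SectionalPRankLE p 3 S) (P : Pair p S)
    (hmv : ¬ P.A.Inv (oz p S)) (h : ¬ P.A.orbit (oz p S) ≤ P.B.E) : P.Out := by
  classical
  haveI hAn := P.A.normal
  haveI hBn := P.B.normal
  obtain ⟨hZn, hZA, hZ⟩ := orbit_facts P.A
  haveI := hZn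
  set Z1 := P.A.orbit (oz p S) with hZ1
  obtain ⟨b, hbZ, hbB⟩ := SetLike.not_le_iff_exists.1 h
  have hbA : b ∈ P.A.E := hZA hbZ
  obtain ⟨hbp, hbc⟩ := hZ b hbZ
  obtain ⟨g, hg, hnot⟩ := exists_conj_not_mem P.B hbB
  set β := P.B.cj b with hβ
  set β' := g * β * g⁻¹ with hβ'
  have hWdef : P.W = P.A.E ⊓ P.B.E := rfl
  haveI hWn : P.W.Normal := by rw [hWdef]; infer_instance
  set WB : Subgroup P.B.E := P.W.subgroupOf P.B.E with hWB
  have hβW : ∀ x ∈ WB, β x = x := fun x hx => Subtype.ext (by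
    rw [hβ, P.B.cj_apply, (hbc x hx.1).eq, mul_inv_cancel_right])
  have hβcomm : ∀ x : P.B.E, β x = x → Commute b (x : S) := fun x hx => by
    have h1 := congrArg Subtype.val hx
    rw [hβ, P.B.cj_apply] at h1
    exact mul_inv_eq_iff_eq_mul.1 h1
  haveI : (Z1 ⊓ P.W).Normal := inferInstance
  set N0 : Subgroup P.B.E := (Z1 ⊓ P.W).subgroupOf P.B.E with hN0
  have hmem0 : ∀ x : P.B.E, x⁻¹ * β x ∈ N0 := fun x => by
    have e : ((x⁻¹ * β x : P.B.E) : S) = ((x : S)⁻¹ * b * x) * b⁻¹ := by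
      rw [Subgroup.coe_mul, Subgroup.coe_inv, hβ, P.B.cj_apply]; group
    have h1 : ((x⁻¹ * β x : P.B.E) : S) ∈ Z1 := by
      rw [e]
      refine mul_mem ?_ (inv_mem hbZ)
      simpa using hZn.conj_mem b hbZ (x : S)⁻¹
    exact ⟨h1, hZA h1, (x⁻¹ * β x).2⟩
  obtain ⟨⟨c, hc0, hcmv⟩, c₁, hc₁0, hc₁mv⟩ := pair_moves hS P.B hbB hg hnot N0
    (fun x hx => hβW x hx.2) hmem0
  set c' : P.B.E := g c₁ with hc'
  have hc'W : (c' : S) ∉ P.W := fun hh => hc₁mv (hβW c' hh)
  have hc'A : (c' : S) ∉ P.A.E := fun hh => hc'W ⟨hh, c'.2⟩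
  obtain ⟨hcp, hcc⟩ := hZ c hc0.1
  have hcW : (c : S) ∈ P.W := hc0.2
  have hc'p : (c' : S) ^ p = 1 := by
    rw [← SubmonoidClass.coe_pow, hc', ← map_pow,
      show c₁ ^ p = 1 from Subtype.ext (hZ c₁ hc₁0.1).1, map_one]
    rfl
  -- the conjugate of `W`
  set W' : Subgroup P.B.E := WB.map g.toMonoidHom with hW'
  haveI hW'n : W'.Normal := (inferInstance : WB.Normal).map g.toMonoidHom g.surjective
  set X' : Subgroup S := W'.map P.B.E.subtype with hX'
  have hβ'W : ∀ x ∈ W', β' x = x := by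
    rintro _ ⟨x, hx, rfl⟩
    show g (β (g⁻¹ (g x))) = g x
    rw [MulAut.inv_apply_self, hβW x hx]
  have hcW' : c ∉ W' := fun hh => hcmv (hβ'W c hh)
  have hmemX' : ∀ x : P.B.E, (x : S) ∈ X' → x ∈ W' := fun x ⟨y, hy, hyx⟩ =>
    (Subtype.ext hyx : y = x) ▸ hy
  have hc'comm : ∀ x ∈ X', Commute (c' : S) x := by
    rintro _ ⟨_, ⟨x, hx, rfl⟩, rfl⟩
    have h1 : Commute c₁ x := Subtype.ext ((hZ c₁ hc₁0.1).2 x hx.1).eq
    simpa using (h1.map g.toMonoidHom).map P.B.E.subtype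
  set C2 : Subgroup S := P.W ⊓ X' with hC2
  have hC2B : ∀ d ∈ C2, d ∈ P.B.E := fun d hd => hd.1.2
  have hC2A : ∀ d ∈ C2, d ∈ P.A.E := fun d hd => hd.1.1
  -- indices
  have hdvd : ∀ {a : ℕ}, a ∣ p → a ≠ 1 → a = p := fun hd h1 =>
    ((Nat.dvd_prime hp.out).1 hd).resolve_left h1
  have hWidx : WB.index = p := by
    show P.W.relIndex P.B.E = p
    rw [hWdef, inf_relIndex_right]
    exact hdvd ((relIndex_dvd_index_of_normal P.A.E P.B.E).trans (dvd_of_eq P.A.index))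
      fun h1 => hc'A (relIndex_eq_one.1 h1 c'.2)
  have hW'idx : W'.index = p := by
    rw [hW', Subgroup.index_map_of_bijective g.bijective, hWidx]
  have hrW : P.W.relIndex P.A.E = p := by
    rw [hWdef, inf_relIndex_left]
    exact hdvd ((relIndex_dvd_index_of_normal P.B.E P.A.E).trans (dvd_of_eq P.B.index))
      fun h1 => hbB (relIndex_eq_one.1 h1 hbA)
  have hrC : C2.relIndex P.W = p := by
    rw [hC2, inf_relIndex_left]
    have e : P.W = WB.map P.B.E.subtype :=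
      (map_subgroupOf_eq_of_le (inf_le_right : P.W ≤ P.B.E)).symm
    rw [e, hX', relIndex_map_map_of_injective _ _ P.B.E.subtype_injective]
    exact hdvd ((relIndex_dvd_index_of_normal W' WB).trans (dvd_of_eq hW'idx))
      fun h1 => hcW' (relIndex_eq_one.1 h1 hcW)
  -- the normal forms
  have hWform : ∀ w ∈ P.W, ∃ j : ℕ, ∃ d ∈ C2, w = (c : S) ^ j * d := by
    intro w hw
    obtain ⟨j, -, d, hd, hwd⟩ := exists_pow_mul (G := P.B.E) (p := p) (A := W') (B := ⊤)
      (by rw [relIndex_top_right, hW'idx]) (mem_top c) hcW' (mem_top ⟨w, hw.2⟩)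
    have hwd' : w = (c : S) ^ j * (d : S) := congrArg Subtype.val hwd
    refine ⟨j, d, ⟨?_, d, hd, rfl⟩, hwd'⟩
    rw [show (d : S) = ((c : S) ^ j)⁻¹ * w by rw [hwd', inv_mul_cancel_left]]
    exact Subgroup.mul_mem _ (Subgroup.inv_mem _ (Subgroup.pow_mem _ hcW j)) hw
  have hBform : ∀ e ∈ P.B.E, ∃ k : ℕ, ∃ w ∈ P.W, e = (c' : S) ^ k * w := by
    intro e he
    obtain ⟨k, -, w, hw, hew⟩ := exists_pow_mul (G := P.B.E) (p := p) (A := WB) (B := ⊤)
      (by rw [relIndex_top_right, hWidx]) (mem_top c') (fun hh => hc'W hh) (mem_top ⟨e, he⟩)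
    exact ⟨k, w, hw, congrArg Subtype.val hew⟩
  have hAform : ∀ a ∈ P.A.E, ∃ i : ℕ, ∃ w ∈ P.W, a = b ^ i * w := by
    intro a ha
    obtain ⟨i, -, w, hw, haw⟩ := P.B.exists_pow hbB a
    refine ⟨i, w, ⟨?_, hw⟩, haw⟩
    rw [show w = (b ^ i)⁻¹ * a by rw [haw, inv_mul_cancel_left]]
    exact Subgroup.mul_mem _ (Subgroup.inv_mem _ (Subgroup.pow_mem _ hbA i)) ha
  have hgen : ∀ H : Subgroup S, b ∈ H → (c' : S) ∈ H → (c : S) ∈ H → C2 ≤ H → ∀ s, s ∈ H := by
    intro H hb hc'' hc hC s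
    obtain ⟨i, -, e, he, rfl⟩ := P.B.exists_pow hbB s
    obtain ⟨k, w, hw, rfl⟩ := hBform e he
    obtain ⟨j, d, hd, rfl⟩ := hWform w hw
    exact mul_mem (pow_mem hb i) (mul_mem (pow_mem hc'' k) (mul_mem (pow_mem hc j) (hC hd)))
  have hcC : ∀ x : S, (∀ d ∈ C2, Commute x d) → x ∈ Subgroup.centralizer (C2 : Set S) :=
    fun x hx => Subgroup.mem_centralizer_iff.2 fun d hd => (hx d hd).eq.symm
  have hb2 := hcC b fun d hd => hbc d (hC2A d hd)
  have hc2 := hcC c fun d hd => hcc d (hC2A d hd)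
  have hc'2 := hcC c' fun d hd => hc'comm d hd.2
  haveI hC2n : C2.Normal := Subgroup.normalizer_eq_top_iff.1 (eq_top_iff.2 fun s _ =>
    hgen _ (centralizer_le_normalizer _ hb2) (centralizer_le_normalizer _ hc'2)
      (centralizer_le_normalizer _ hc2) le_normalizer s)
  -- `C₂` is cyclic
  have hC2S : IsPGroup p C2 := hS.to_subgroup C2
  have hcyc : IsCyclic C2 := by
    by_contra hnc
    set K : Subgroup S := (frattini C2).map C2.subtype with hK
    haveI : K.Normal := inferInstance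
    have hKC : K ≤ C2 := map_subtype_le _
    have hdec : ∀ a ∈ P.A.E, ∃ z d : S, d ∈ C2 ∧ z ^ p = 1 ∧ (∀ e ∈ P.A.E, Commute z e) ∧
        a = z * d := by
      intro a ha
      obtain ⟨i, w, hw, rfl⟩ := hAform a ha
      obtain ⟨j, d, hd, rfl⟩ := hWform w hw
      refine ⟨b ^ i * (c : S) ^ j, d, hd, ?_,
        fun e he => ((hbc e he).pow_left i).mul_left ((hcc e he).pow_left j),
        (mul_assoc _ _ _).symm⟩
      rw [((hbc c hcW.1).pow_pow i j).mul_pow, ← pow_mul, ← pow_mul, mul_comm i, mul_comm j,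
        pow_mul, pow_mul, hbp, hcp, one_pow, one_pow, one_mul]
    have hrank := relIndex_le hr (H := P.A.E) (K := K) ?_ ?_
    · have hKidx : K.relIndex C2 = (frattini C2).index := by
        show (K.subgroupOf C2).index = _
        rw [hK]
        exact congrArg Subgroup.index
          (comap_map_eq_self_of_injective C2.subtype_injective (frattini C2))
      have hsq := CfsgLib.ClassK.SubCount.sq_le_index_frattini hC2S hnc
      rw [← relIndex_mul_relIndex K C2 P.A.E hKC fun d hd => hC2A d hd,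
        ← relIndex_mul_relIndex C2 P.W P.A.E inf_le_left inf_le_left, hrW, hrC, hKidx] at hrank
      have h4 : p ^ 2 * (p * p) ≤ p ^ 3 := (Nat.mul_le_mul_right _ hsq).trans hrank
      rw [← pow_two, ← pow_add] at h4
      exact absurd h4 (not_le.2 (Nat.pow_lt_pow_right hp.out.one_lt (by norm_num)))
    · intro a ha a' ha'
      obtain ⟨z, d, hd, -, hz, rfl⟩ := hdec a ha
      obtain ⟨z', d', hd', -, hz', rfl⟩ := hdec a' ha'
      rw [(comm_of_central (hz d (hC2A d hd)) (hz _ ha')).1,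
        (comm_of_central (hz' d' (hC2A d' hd')) (hz' d (hC2A d hd))).2]
      exact ⟨⁅(⟨d, hd⟩ : C2), ⟨d', hd'⟩⁆, commutator_mem_frattini hC2S _ _, rfl⟩
    · intro a ha
      obtain ⟨z, d, hd, hzp, hz, rfl⟩ := hdec a ha
      rw [(hz d (hC2A d hd)).mul_pow, hzp, one_mul]
      exact ⟨⟨d, hd⟩ ^ p, CfsgLib.StructC.pow_mem_frattini hC2S _, rfl⟩
  obtain ⟨g0, hg0⟩ := IsCyclic.exists_generator (α := C2)
  have hC2c : ∀ x ∈ C2, ∀ y ∈ C2, Commute x y := by
    intro x hx y hy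
    obtain ⟨i, hi⟩ := Subgroup.mem_zpowers_iff.1 (hg0 ⟨x, hx⟩)
    obtain ⟨j, hj⟩ := Subgroup.mem_zpowers_iff.1 (hg0 ⟨y, hy⟩)
    have h1 : Commute (⟨x, hx⟩ : C2) ⟨y, hy⟩ := by
      rw [← hi, ← hj]; exact (Commute.refl g0).zpow_zpow i j
    exact h1.map C2.subtype
  have hC2Z : C2 ≤ Subgroup.center S := fun d hd => Subgroup.mem_center_iff.2 fun s => by
    have h1 := hgen (Subgroup.centralizer ({d} : Set S))
      (mem_centralizer_singleton_iff.2 (hbc d (hC2A d hd)).eq)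
      (mem_centralizer_singleton_iff.2 (hc'comm d hd.2).eq)
      (mem_centralizer_singleton_iff.2 (hcc d (hC2A d hd)).eq)
      (fun y hy => mem_centralizer_singleton_iff.2 (hC2c y hy d hd).eq) s
    exact mem_centralizer_singleton_iff.1 h1
  have hZW : Subgroup.center S ≤ P.W := le_inf (center_le P.A) (center_le P.B)
  by_cases hcz : (c : S) ∈ Subgroup.center S
  · -- `W` is the centre
    have hWZ : P.W ≤ Subgroup.center S := fun w hw => by
      obtain ⟨j, d, hd, rfl⟩ := hWform w hw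
      exact mul_mem (pow_mem hcz j) (hC2Z hd)
    set l := ⁅b, (c' : S)⁆ with hl
    have hlZ1 : l ∈ Z1 := by
      rw [hl, commutatorElement_def,
        show b * (c' : S) * b⁻¹ * (c' : S)⁻¹ = b * ((c' : S) * b⁻¹ * (c' : S)⁻¹) by group]
      exact mul_mem hbZ (hZn.conj_mem _ (inv_mem hbZ) _)
    have hlW : l ∈ P.W := ⟨hZA hlZ1, Subgroup.mul_mem _ (hBn.conj_mem _ c'.2 b) (Subgroup.inv_mem _ c'.2)⟩
    have hlc : l ∈ Subgroup.center S := hWZ hlW
    set L : Subgroup P.B.E := (Subgroup.zpowers l).subgroupOf P.B.E with hL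
    haveI : (Subgroup.zpowers l).Normal := ⟨fun x hx s => by
      have hx' : x ∈ Subgroup.center S := (Subgroup.zpowers_le.2 hlc) hx
      rw [Subgroup.mem_center_iff.1 hx' s, mul_inv_cancel_right]
      exact hx⟩
    have hLW : ∀ x ∈ L, x ∈ WB := fun x hx => (Subgroup.zpowers_le.2 hlW) hx
    obtain ⟨⟨x, hx, hxmv⟩, -⟩ := pair_moves hS P.B hbB hg hnot L
      (fun x hx => hβW x (hLW x hx)) fun x => by
        obtain ⟨k, w, hw, hxe⟩ := hBform x x.2
        refine (?_ : ((x⁻¹ * β x : P.B.E) : S) ∈ Subgroup.zpowers l)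
        have e : b * (c' : S) ^ k * b⁻¹ = l ^ k * (c' : S) ^ k := by
          rw [← MulAut.conj_apply, map_pow, MulAut.conj_apply,
            show b * (c' : S) * b⁻¹ = l * c' by rw [hl, commutatorElement_def, inv_mul_cancel_right],
            (Commute.symm (Subgroup.mem_center_iff.1 hlc (c' : S))).mul_pow]
        have e' : ((x⁻¹ * β x : P.B.E) : S) = l ^ k := by
          rw [Subgroup.coe_mul, Subgroup.coe_inv, hβ, P.B.cj_apply, hxe,
            show b * ((c' : S) ^ k * w) * b⁻¹ = (b * (c' : S) ^ k * b⁻¹) * (b * w * b⁻¹) by group,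
            e, (hbc w hw.1).eq, mul_inv_cancel_right, mul_assoc,
            ← Subgroup.mem_center_iff.1 (pow_mem hlc k), inv_mul_cancel_left]
        rw [e']
        exact pow_mem (Subgroup.mem_zpowers l) k
    have hlX : l ∉ X' := fun hh => hxmv (hβ'W x (hmemX' x ((Subgroup.zpowers_le.2 hh) hx)))
    refine Or.inr (Or.inr ⟨C2, (c' : S), b, hcyc, hC2Z, c'.2, hc'A, hbA, hbB, hc'p, hbp, hlc,
      (hZ l hlZ1).1, fun hh => hlX hh.2, le_antisymm hWZ hZW, le_antisymm ?_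
        (sup_le inf_le_left (Subgroup.zpowers_le.2 hlW))⟩)
    intro w hw
    obtain ⟨i, -, d, hd, rfl⟩ := exists_pow_mul hrC hlW (fun hh => hlX hh.2) hw
    exact mul_mem (Subgroup.mem_sup_right (pow_mem (Subgroup.mem_zpowers l) i))
      (Subgroup.mem_sup_left hd)
  · -- `C₂` is the centre
    have hZC : Subgroup.center S = C2 := le_antisymm (fun z hz => by
      obtain ⟨j, d, hd, rfl⟩ := hWform z (hZW hz)
      have h1 : (c : S) ^ j ∈ Subgroup.center S := by
        simpa using mul_mem hz (inv_mem (hC2Z hd))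
      obtain ⟨m, rfl⟩ := dvd_of_pow_mem (p := p) (by rw [hcp]; exact one_mem _) hcz h1
      rw [pow_mul, hcp, one_pow, one_mul]
      exact hd) hC2Z
    have hApow : ∀ a ∈ P.A.E, a ^ p ∈ C2 ∧ ((∀ d ∈ C2, d ^ p = 1) → a ^ p = 1) := by
      intro a ha
      obtain ⟨i, w, hw, rfl⟩ := hAform a ha
      obtain ⟨j, d, hd, rfl⟩ := hWform w hw
      rw [((hbc _ hw.1).pow_left i).mul_pow, ((hcc d (hC2A d hd)).pow_left j).mul_pow, ← pow_mul,
        mul_comm i, pow_mul, hbp, one_pow, one_mul, ← pow_mul, mul_comm j, pow_mul, hcp, one_pow,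
        one_mul]
      exact ⟨pow_mem hd p, fun h => h d hd⟩
    have hexp : ∀ d ∈ C2, d ^ p = 1 := by
      by_contra! hcon
      obtain ⟨d, hd, hdp⟩ := hcon
      refine hmv ⟨fun z hz => center_le P.A hz.1, fun σ _ x hx => ?_⟩
      have hxC : (x : S) ∈ C2 := hZC ▸ hx.1
      obtain ⟨k, hk⟩ := (Submonoid.mem_powers_iff _ _).1
        (mem_powers_iff_mem_zpowers.2 (hg0 ⟨x, hxC⟩))
      have hk' : ((g0 : C2) : S) ^ k = x := congrArg Subtype.val hk
      by_cases hpk : p ∣ k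
      · obtain ⟨m, rfl⟩ := hpk
        have hy : ((g0 : C2) : S) ^ m ∈ C2 := pow_mem g0.2 m
        set y : P.A.E := ⟨((g0 : C2) : S) ^ m, hC2A _ hy⟩ with hy'
        have hxy : x = y ^ p := Subtype.ext (by
          rw [SubmonoidClass.coe_pow, hy', ← hk', ← pow_mul, mul_comm])
        refine ⟨hC2Z ?_, ?_⟩
        · rw [hxy, map_pow, SubmonoidClass.coe_pow]
          exact (hApow _ (σ y).2).1
        · rw [← SubmonoidClass.coe_pow, ← map_pow, show x ^ p = 1 from Subtype.ext hx.2, map_one]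
          rfl
      · exfalso
        apply hdp
        obtain ⟨n, hn⟩ := hC2S g0
        have h1 : ((g0 : C2) : S) ^ p ^ n = 1 := congrArg Subtype.val hn
        have h2 : (((g0 : C2) : S) ^ p) ^ k = 1 := by rw [← pow_mul, mul_comm, pow_mul, hk', hx.2]
        have h3 : (((g0 : C2) : S) ^ p) ^ p ^ n = 1 := by rw [← pow_mul, mul_comm, pow_mul, h1, one_pow]
        have h4 : (((g0 : C2) : S) ^ p) ^ k.gcd (p ^ n) = 1 := pow_gcd_eq_one.2 ⟨h2, h3⟩
        rw [(Nat.Coprime.pow_right n ((hp.out.coprime_iff_not_dvd.2 hpk).symm)), pow_one] at h4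
        obtain ⟨i, hi⟩ := Subgroup.mem_zpowers_iff.1 (hg0 ⟨d, hd⟩)
        have h5 : ((g0 : C2) : S) ^ i = d := congrArg Subtype.val hi
        rw [← h5, ← zpow_natCast, ← zpow_mul, mul_comm, zpow_mul, zpow_natCast, h4, one_zpow]
    haveI : Nontrivial S := ⟨b, 1, fun e => hbB (e ▸ one_mem _)⟩
    have hcardC : Nat.card C2 = p := by
      have h1 : orderOf g0 = Nat.card C2 := orderOf_eq_card_of_forall_mem_zpowers hg0
      have h2 : orderOf g0 ∣ p := orderOf_dvd_of_pow_eq_one (Subtype.ext (hexp g0 g0.2))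
      refine hdvd (h1 ▸ h2) fun h3 => ?_
      haveI := hS.center_nontrivial
      have h4 : 1 < Nat.card (Subgroup.center S) := Finite.one_lt_card
      rw [hZC, h3] at h4
      exact lt_irrefl _ h4
    have hcardA : Nat.card P.A.E = p ^ 3 := by
      rw [← relIndex_bot_left, ← relIndex_mul_relIndex ⊥ P.W P.A.E bot_le inf_le_left, hrW,
        ← relIndex_mul_relIndex ⊥ C2 P.W bot_le inf_le_left, hrC, relIndex_bot_left, hcardC]
      ring
    have hcardS : Nat.card S = p ^ 4 := by rw [card_side P.A, hcardA]; ring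
    have hcardB : Nat.card P.B.E = p ^ 3 := by
      refine Nat.eq_of_mul_eq_mul_right hp.out.pos ?_
      rw [← card_side P.B, hcardS]; ring
    have hAc : ∀ a ∈ P.A.E, ∀ x, (∀ d ∈ C2, Commute x d) → Commute x b → Commute x (c : S) →
        Commute x a := by
      intro a ha x hxC hxb hxc
      obtain ⟨i, w, hw, rfl⟩ := hAform a ha
      obtain ⟨j, d, hd, rfl⟩ := hWform w hw
      exact (hxb.pow_right i).mul_right ((hxc.pow_right j).mul_right (hxC d hd))
    refine Or.inl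
      { card := hcardS
        cardA := hcardA
        cardB := hcardB
        commA := fun x hx y hy => (hAc y hy x (fun d hd => (Subgroup.mem_center_iff.1 (hC2Z hd) x))
          (hbc x hx).symm (hcc x hx).symm).eq
        expA := fun a ha => (hApow a ha).2 hexp
        nonabB := ⟨(c : S), hcW.2, (c' : S), c'.2, fun hcomm => hcz (Subgroup.mem_center_iff.2
          fun s => ?_)⟩
        expB := fun e he => ?_
        card_center := by rw [hZC, hcardC]
        moves := hmv }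
    · obtain ⟨i, -, a, ha, rfl⟩ := P.A.exists_pow hc'A s
      exact ((Commute.symm (hcomm : Commute (c : S) c')).pow_left i).mul_left (hcc a ha).symm
    · obtain ⟨k, w, hw, rfl⟩ := hBform e he
      have hwp : w ^ p = 1 := (hApow w hw.1).2 hexp
      have hx : ((c' : S) ^ k) ^ p = 1 := by rw [← pow_mul, mul_comm, pow_mul, hc'p, one_pow]
      set e0 := ⁅w, (c' : S) ^ k⁆ with he0
      have hxX : (c' : S) ^ k ∈ X' :=
        pow_mem (mem_map_of_mem P.B.E.subtype (mem_map_of_mem g.toMonoidHom hc₁0.2)) k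
      have he0C : e0 ∈ C2 := by
        refine ⟨?_, ?_⟩
        · rw [he0, commutatorElement_def, mul_assoc, mul_assoc, ← mul_assoc ((c' : S) ^ k)]
          exact mul_mem hw (hWn.conj_mem _ (inv_mem hw) _)
        · obtain ⟨v, hv, hvx⟩ := hxX
          refine ⟨⁅(⟨w, hw.2⟩ : P.B.E), v⁆, mul_mem (hW'n.conj_mem _ hv _) (inv_mem hv), ?_⟩
          rw [map_commutatorElement, hvx]
          rfl
      have hec := hC2Z he0C
      rw [CfsgLib.StructC.central_pow_mul_formula (x := (c' : S) ^ k) (y := w) (e := e0)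
        (Subgroup.mem_center_iff.1 hec _).symm (Subgroup.mem_center_iff.1 hec _).symm
        (by rw [he0, commutatorElement_def]; group) p, hx, hwp, one_mul, mul_one]
      obtain ⟨m, hm⟩ := CfsgLib.BlackburnRankTwo.dvd_choose_two (p := p) hp2
      rw [hm, pow_mul, hexp _ he0C, one_pow]

end CfsgLib.RankThreePair
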