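import Cfsg.Agent.Lib.RankThreePair.CaseTwoAbInvA

/-!
**Case two, abelian `V₂`:** there is no such pair.
-/

set_option autoImplicit false
set_option linter.unusedSectionVars false
set_option linter.style.haveILetI false

namespace CfsgLib.RankThreePair.TwoAb

open Subgroup
open TwoNonab (act act_coe act_mem act_mul act_one act_inv act_pow act_comp act_one' act_inv_act
  act_commutator act_mem_of_inv inv_of_act)
open scoped commutatorElement

universe u

variable {S : Type u} [Group S] [Finite S] {p : ℕ} [hp : Fact p.Prime]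

theorem mem_of_sq_mem (hp2 : p ≠ 2) {H : Subgroup S} {x : S} (hx : x ^ p = 1) (h : x * x ∈ H) : x ∈ H := by
  have := pow_mem h ((p + 1) / 2)
  rwa [← sq, ← pow_mul, show 2 * ((p + 1) / 2) = p + 1 by
    obtain ⟨k, hk⟩ := hp.out.odd_of_ne_two hp2; omega, pow_succ, hx, one_mul] at this

theorem comm_inv_inv {a b : S} (ha : Commute a ⁅a, b⁆) (hb : Commute b ⁅a, b⁆) : ⁅a⁻¹, b⁻¹⁆ = ⁅a, b⁆ := by
  have e : ⁅a⁻¹, b⁻¹⁆ = (b * a)⁻¹ * ⁅a, b⁆ * (b * a) := by
    simp only [commutatorElement_def]; group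
  rw [e, mul_assoc, ← (hb.mul_left ha).eq, inv_mul_cancel_left]

theorem comm_mul_central {a b x y : S} (hxb : Commute x b) (hya : Commute y a) (hxy : Commute x y) : ⁅a * x, b * y⁆ = ⁅a, b⁆ := by
  rw [RankThree.comm_mul_left (by
      rw [commutatorElement_eq_one_iff_commute.2 (hxb.mul_right hxy)]; exact Commute.one_right _),
    commutatorElement_eq_one_iff_commute.2 (hxb.mul_right hxy), one_mul,
    RankThree.comm_mul_right (by
      rw [commutatorElement_eq_one_iff_commute.2 hya.symm]; exact Commute.one_right _),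
    commutatorElement_eq_one_iff_commute.2 hya.symm, mul_one]

theorem act_eq_of_fixed {A : Side p S} {g : MulAut A.E} (hgp : (orderOf g).Coprime p) {x z : S}
    (hx : x ∈ A.E) (hzE : z ∈ A.E) (hz : act A g z = z) (hzp : z ^ p = 1) (h : act A g x = x * z) :
    z = 1 := by
  rw [act_coe g ⟨x, hx⟩] at h
  rw [act_coe g ⟨z, hzE⟩] at hz
  exact congrArg Subtype.val (eq_one_of_fixed (z := ⟨z, hzE⟩) hgp (Subtype.ext hz)
    (Subtype.ext hzp) (x := ⟨x, hx⟩) (Subtype.ext h))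

variable {P : Pair p S} {Z V : Subgroup S}

theorem Setting.comm_V_Z (h : Setting P Z V) (hS : IsPGroup p S) (hA : P.A.Inv V) (s : S) {x : S}
    (hx : x ∈ V) : ⁅s, x⁆ ∈ Z := by
  haveI := h.invA.normal
  haveI := hA.normal
  exact comm_mem_of_relIndex hS h.le h.relIndex_Z.le s hx

/-- `E_A` moves `V/Ω₁(Z(S))`. -/
theorem Setting.exists_move_oz (h : Setting P Z V) (hS : IsPGroup p S) (hA : P.A.Inv V) :
    (∃ e ∈ P.A.E, ∃ x ∈ V, ⁅e, x⁆ ∉ oz p S) ∧
      Z ≤ Subgroup.closure {y | ∃ e ∈ P.A.E, ∃ x ∈ V, ⁅e, x⁆ = y} := by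
  obtain ⟨-, hcomB⟩ := h.comm_V hS
  obtain ⟨a, haB, haA, x0, hx0, hne⟩ := h.exists_gen
  haveI := P.A.normal
  have hVA : V ≤ P.A.E := h.leW.trans inf_le_left
  set T : Set S := {y | ∃ e ∈ P.A.E, ∃ x ∈ V, ⁅e, x⁆ = y} with hTdef
  have hTZ : T ⊆ Z := by rintro _ ⟨e, -, x, hx, rfl⟩; exact h.comm_V_Z hS hA e hx
  have hT : T ⊆ P.A.E := fun y hy => h.invA.1 (hTZ hy)
  have hI : P.A.Inv (Subgroup.closure T) := TwoNonab.inv_closure hT (by
    rintro g hg _ ⟨e, he, x, hx, rfl⟩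
    refine Subgroup.subset_closure ⟨_, act_mem g he, _, act_mem_of_inv hA hg hx, ?_⟩
    rw [act_commutator g he (hVA hx)])
  haveI := hI.normal
  have hbot : Subgroup.closure T ≠ ⊥ := by
    intro hb
    have hcA : ∀ e ∈ P.A.E, ∀ x ∈ V, Commute e x := fun e he x hx =>
      commutatorElement_eq_one_iff_commute.1 (mem_bot.1 (hb ▸ Subgroup.subset_closure ⟨e, he, x, hx, rfl⟩))
    have hVZ : V ≤ Z := by
      intro x hx
      have hw := h.comm_Z hS a hx0
      have hm := le_zpowers_of_card h.card_oz hw hne (hcomB a haB x hx)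
      rw [← mem_powers_iff_mem_zpowers] at hm
      obtain ⟨i, hi⟩ := hm
      dsimp only at hi
      obtain ⟨y, hy⟩ : ∃ y, y = x * (x0 ^ i)⁻¹ := ⟨_, rfl⟩
      have hyV : y ∈ V := hy ▸ mul_mem hx (inv_mem (pow_mem (h.le hx0) i))
      have hxy : x = y * x0 ^ i := by rw [hy, inv_mul_cancel_right]
      have hpw : ⁅a, x0 ^ i⁆ = ⁅a, x0⁆ ^ i :=
        RankThree.comm_pow_right (mem_center_iff.1 hw.1 x0) i
      have hay : ⁅a, y⁆ = 1 := by
        have hz := h.comm_Z hS a (pow_mem hx0 i)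
        rw [hxy, RankThree.comm_mul_right (mem_center_iff.1 hz.1 y), hpw] at hi
        exact mul_eq_right.1 hi.symm
      have hcen : y ∈ center S := mem_center_iff.2 fun s => by
        obtain ⟨j, e, he, rfl⟩ := exists_pow_mul_index P.A.index haA s
        exact (((commutatorElement_eq_one_iff_commute.1 hay).pow_left j).mul_left (hcA e he y hyV)).eq
      rw [hxy]
      exact mul_mem (h.ozle ⟨hcen, h.expV y hyV⟩) (pow_mem hx0 i)
    have := Subgroup.card_le_of_le hVZ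
    rw [h.cardV, h.cardZ] at this
    exact absurd this (Nat.pow_lt_pow_right hp.out.one_lt (by norm_num)).not_ge
  have hle := h.minA _ hI (h.oz_le_of_normal hS hbot)
  refine ⟨?_, hle⟩
  by_contra hcon
  push Not at hcon
  exact h.Z_not_le_oz (hle.trans ((Subgroup.closure_le _).2 (by
    rintro _ ⟨e, he, x, hx, rfl⟩; exact hcon e he x hx)))

theorem Setting.irred (h : Setting P Z V) (hS : IsPGroup p S) (hA : P.A.Inv V) :
    ∀ L, P.B.Inv L → oz p S ≤ L → L ≤ V → L = oz p S ∨ L = V := by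
  intro L hL h1 h2
  obtain ⟨⟨e, he, x, hx, hne⟩, -⟩ := h.exists_move_oz hS hA
  by_contra hcon
  push Not at hcon
  have hlt1 : oz p S < L := lt_of_le_of_ne h1 (Ne.symm hcon.1)
  have hlt2 : L < V := lt_of_le_of_ne h2 hcon.2
  have c1 := card_mul_le hS hlt1
  have c2 := card_mul_le hS hlt2
  rw [h.card_oz] at c1
  rw [h.cardV, pow_succ' p 2] at c2
  have hcL : Nat.card L = p ^ 2 := le_antisymm (Nat.le_of_mul_le_mul_left c2 hp.out.pos) (by rwa [sq])
  have hLZ : ¬ L ≤ Z := fun hle =>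
    h.notB (eq_of_le_of_card_ge hle (by rw [hcL, h.cardZ]) ▸ hL)
  have hsup : Z ⊔ L = V := by
    refine eq_of_card_lt hS (sup_le h.le h2) ?_
    have h3 := card_mul_le hS (lt_of_le_of_ne le_sup_left fun e => hLZ (le_sup_right.trans e.ge) : Z < Z ⊔ L)
    rw [h.cardZ] at h3
    rw [h.cardV]
    have := hp.out.two_le
    have : 0 < p ^ 2 := pow_pos hp.out.pos 2
    nlinarith
  haveI := h.invA.normal
  haveI := hL.normal
  refine hne ?_
  have hrel : (oz p S).relIndex L = p := by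
    have := relIndex_mul_card h1
    rw [h.card_oz, hcL, sq] at this
    exact Nat.eq_of_mul_eq_mul_right hp.out.pos this
  rw [← hsup] at hx
  obtain ⟨z, hz, l, hl, rfl⟩ := mem_sup_of_normal_left.1 hx
  rw [show ⁅e, z * l⁆ = ⁅e, z⁆ * (z * ⁅e, l⁆ * z⁻¹) by simp only [commutatorElement_def]; group]
  exact mul_mem (h.comm_Z hS e hz)
    (oz_normal.conj_mem _ (comm_mem_of_relIndex hS h1 hrel.le e hl) z)

/-- The centralisers of `E_B` in `V`. -/
theorem Setting.cent_B (h : Setting P Z V) (hS : IsPGroup p S) (hA : P.A.Inv V) {x : S} (hx : x ∈ V)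
    (hc : ∀ e ∈ P.B.E, Commute e x) : x ∈ oz p S := by
  obtain ⟨hozB, -⟩ := h.comm_V hS
  obtain ⟨a, haB, -, x0, hx0, hne⟩ := h.exists_gen
  have hmem : x ∈ V ⊓ (P.B.E ⊓ centralizer (P.B.E : Set S)) :=
    ⟨hx, h.invB.1 hx, fun e he => (hc e he).eq⟩
  rcases h.irred hS hA _ (Side.inv_inf h.invB (Side.inv_centralizer P.B.inv_E)) (fun y hy =>
    ⟨h.le (h.ozle hy), P.B.oz_le hy, fun e _ => mem_center_iff.1 hy.1 e⟩) inf_le_left with e | e
  · exact e ▸ hmem
  · have : x0 ∈ V ⊓ (P.B.E ⊓ centralizer (P.B.E : Set S)) := by rw [e]; exact h.le hx0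
    exact absurd (commutatorElement_eq_one_iff_mul_comm.2 (this.2.2 a haB)) hne

/-- The quotient by `V` is valid and `Good`. -/
theorem Setting.fixes_quot (h : Setting P Z V) (hS : IsPGroup p S) (hr : Cfsg.SectionalPRankLE p 3 S)
    (hyp : Hyp.{u} p (Nat.card S)) (hA : P.A.Inv V) {K : Subgroup S} (hKW : K ≤ P.W) (hKne : K ≠ P.W)
    (hVK : V ≤ K) (hKA : P.A.Inv K) (hKB : P.B.Inv K) :
    ∀ g ∈ P.B.M, (orderOf g).Coprime p → ∀ k ∈ K, k⁻¹ * act P.B g k ∈ V := by
  obtain ⟨hozB, hcomB⟩ := h.comm_V hS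
  obtain ⟨-, hZI⟩ := h.exists_move_oz hS hA
  haveI := h.invB.normal
  have hVA : V ≤ P.A.E := h.leW.trans inf_le_left
  have hVB : V ≤ P.B.E := h.leW.trans inf_le_right
  have hvA : ∃ g ∈ P.A.M, (orderOf g).Coprime p ∧ ¬ P.A.Fixes g P.A.E V := by
    obtain ⟨g, hg, hgp, hg1⟩ := P.A.exists_coprime_M
    refine ⟨g, hg, hgp, fun hf => hg1 (P.A.eq_one_of_fixes (P.A.fixes_trans hS hgp hf ?_))⟩
    have hfX : P.A.Fixes g V Z :=
      Side.fixes_of_comm hA h.invA (fun s x hx => h.comm_V_Z hS hA s hx) g hg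
    refine P.A.fixes_trans hS hgp hfX ?_
    let F : Subgroup S :=
      { carrier := {y | y ∈ P.A.E ∧ act P.A g y = y}
        one_mem' := ⟨one_mem _, act_one g⟩
        mul_mem' := fun {a b} ha hb => ⟨mul_mem ha.1 hb.1, by rw [act_mul g ha.1 hb.1, ha.2, hb.2]⟩
        inv_mem' := fun {a} ha => ⟨inv_mem ha.1, by rw [act_inv g ha.1, ha.2]⟩ }
    have hF : Z ≤ F := hZI.trans ((Subgroup.closure_le _).2 (by
      rintro _ ⟨e, he, x, hx, rfl⟩
      refine ⟨h.invA.1 (h.comm_V_Z hS hA e hx), ?_⟩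
      have hk : e⁻¹ * act P.A g e ∈ V := fixes_act hf he he
      have hz : x⁻¹ * act P.A g x ∈ Z := fixes_act hfX hx (hVA hx)
      rw [act_commutator g he (hVA hx), show act P.A g e = e * (e⁻¹ * act P.A g e) by group,
        show act P.A g x = x * (x⁻¹ * act P.A g x) by group]
      exact comm_mul_central (h.comm _ hk x hx) (h.cen _ hz e he) (h.comm _ hk _ (h.le hz))))
    intro x hx
    rw [mem_bot, inv_mul_eq_one, ← act_coe]
    exact (hF hx).2.symm
  have hvB : ∃ g ∈ P.B.M, (orderOf g).Coprime p ∧ ¬ P.B.Fixes g P.B.E V := by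
    obtain ⟨g, hg, hgp, hg1⟩ := P.B.exists_coprime_M
    refine ⟨g, hg, hgp, fun hf => hg1 (P.B.eq_one_of_fixes (P.B.fixes_trans hS hgp hf ?_))⟩
    have hgG := P.B.M_le hg
    have hfoz : P.B.Fixes g (oz p S) ⊥ := Side.fixes_of_comm hozB P.B.inv_bot (fun s x hx =>
      mem_bot.2 (commutatorElement_eq_one_iff_mul_comm.2 (mem_center_iff.1 hx.1 s))) g hg
    refine P.B.fixes_trans hS hgp (N' := oz p S) (fun x hx => ?_) hfoz
    rw [← act_coe]
    obtain ⟨y, hy⟩ : ∃ y, y = (x : S)⁻¹ * act P.B g x := ⟨_, rfl⟩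
    have hgx : act P.B g x = x * y := by rw [hy, mul_inv_cancel_left]
    have hgxV := act_mem_of_inv h.invB hgG hx
    have hyV : y ∈ V := hy ▸ mul_mem (inv_mem hx) hgxV
    rw [← hy]
    refine h.cent_B hS hA hyV fun e he => ?_
    have hk : e⁻¹ * act P.B g e ∈ V := fixes_act hf he he
    have hc1 := hcomB e he x hx
    have hc2 := hcomB e he y hyV
    have h1 : act P.B g ⁅e, (x : S)⁆ = ⁅e, (x : S)⁆ := act_fixed hfoz hc1 (P.B.oz_le hc1)
    rw [act_commutator g he x.2] at h1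
    rw [show act P.B g e = e * (e⁻¹ * act P.B g e) by group,
      RankThree.comm_mul_left (by
        rw [commutatorElement_eq_one_iff_commute.2 (h.comm _ hk _ hgxV)]; exact Commute.one_right _),
      commutatorElement_eq_one_iff_commute.2 (h.comm _ hk _ hgxV), one_mul, hgx,
      RankThree.comm_mul_right (mem_center_iff.1 hc2.1 x), mul_eq_left] at h1
    exact commutatorElement_eq_one_iff_commute.1 h1
  obtain ⟨P', hA', hB'⟩ := P.exists_quot hS V h.leW hA h.invB hvA hvB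
  have hne : V ≠ ⊥ := fun e => by
    have := h.cardV
    rw [e, card_bot] at this
    exact (Nat.one_lt_pow (by norm_num) hp.out.one_lt).ne this
  have hker : (QuotientGroup.mk' V).ker = V := QuotientGroup.ker_mk' V
  obtain ⟨-, -, hfix⟩ := good_quot hS hr hyp hne P'
  have hKq : K.map (QuotientGroup.mk' V) ≠ P'.W := by
    rw [W_quot h.leW hA' hB']
    intro e
    refine hKne (le_antisymm hKW fun w hw => ?_)
    obtain ⟨k, hk, e'⟩ : (QuotientGroup.mk' V) w ∈ K.map (QuotientGroup.mk' V) := e ▸ mem_map_of_mem _ hw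
    have := mul_mem hk (hVK (QuotientGroup.eq.1 e'))
    rwa [mul_inv_cancel_left] at this
  have hKle : K.map (QuotientGroup.mk' V) ≤ P'.W := by
    rw [W_quot h.leW hA' hB']; exact map_mono hKW
  obtain ⟨-, hfB⟩ := hfix _ hKle hKq (inv_map hA' hKA) (inv_map hB' hKB)
  intro g hg hgp k hk
  obtain ⟨g', hg', hgp', hgx⟩ := hB'.pushM g hg hgp
  have hkB : k ∈ P.B.E := (hKW hk).2
  have hk' : QuotientGroup.mk' V k ∈ P'.B.E := hB'.map_E ▸ mem_map_of_mem _ hkB
  have h1 := hgx ⟨k, hkB⟩ ⟨_, hk'⟩ rfl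
  have h2 := hfB g' hg' hgp' ⟨_, hk'⟩ (mem_map_of_mem _ hk)
  rw [← act_coe g ⟨k, hkB⟩] at h1
  simp only at h1 h2
  rw [← h1, mem_bot, inv_mul_eq_one] at h2
  exact QuotientGroup.eq.1 h2

/-- Two steps above `V`. -/
theorem Setting.absurd_index (h : Setting P Z V) (hS : IsPGroup p S) (hr : Cfsg.SectionalPRankLE p 3 S)
    {K : Subgroup S} (hKW : K ≤ P.W) (hKne : K ≠ P.W) (hVK : V ≤ K)
    (hcomm : ∀ c ∈ P.B.E, ∀ d ∈ P.B.E, ⁅c, d⁆ ∈ oz p S) (hpow : ∀ c ∈ P.B.E, c ^ p ∈ oz p S) : False := by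
  obtain ⟨a, haB, haA, -⟩ := h.exists_gen
  have h1 : (oz p S).relIndex V = p ^ 2 := by
    have := relIndex_mul_card (h.ozle.trans h.le)
    rw [h.card_oz, h.cardV, pow_succ p 2] at this
    exact Nat.eq_of_mul_eq_mul_right hp.out.pos this
  have h2 : p * (oz p S).relIndex V ≤ (oz p S).relIndex P.W :=
    relIndex_mul_le hS (h.ozle.trans h.le) (lt_of_le_of_lt hVK (lt_of_le_of_ne hKW hKne))
  have h3 : p * (oz p S).relIndex P.W ≤ (oz p S).relIndex P.B.E :=
    relIndex_mul_le hS ((h.ozle.trans h.le).trans h.leW)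
      (lt_of_le_of_ne inf_le_right fun e => haA ((e.ge haB).1 : a ∈ P.A.E))
  have h4 := RankThree.relIndex_le (K := oz p S) hr hcomm hpow
  have h5 : p * (p * p ^ 2) ≤ p ^ 3 :=
    le_trans (Nat.mul_le_mul_left p (h1 ▸ h2)) (le_trans h3 h4)
  rw [← pow_succ', ← pow_succ', Nat.pow_le_pow_iff_right hp.out.one_lt] at h5
  omega

/-- **The last step.** -/
theorem Setting.absurd_of_invA (h : Setting P Z V) (hp2 : p ≠ 2) (hS : IsPGroup p S)
    (hr : Cfsg.SectionalPRankLE p 3 S) (hyp : Hyp.{u} p (Nat.card S)) (hA : P.A.Inv V) : False := by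
  obtain ⟨hozB, hcomB⟩ := h.comm_V hS
  obtain ⟨⟨e₀, he₀, x₀, hx₀, hne⟩, hZI⟩ := h.exists_move_oz hS hA
  haveI := P.A.normal
  haveI := P.B.normal
  have hVA : V ≤ P.A.E := h.leW.trans inf_le_left
  have hVB : V ≤ P.B.E := h.leW.trans inf_le_right
  have hcenW : ∀ z ∈ oz p S, ∀ s : S, Commute s z := fun z hz s => mem_center_iff.1 hz.1 s
  have hKeq : P.A.E ⊓ centralizer (V : Set S) = P.B.E ⊓ centralizer (V : Set S) := by
    refine le_antisymm (fun s hs => ⟨?_, hs.2⟩) fun s hs => ⟨h.cent s fun x hx => hs.2 x (h.le hx), hs.2⟩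
    by_contra hsB
    refine hne ?_
    obtain ⟨i, e, he, rfl⟩ := exists_pow_mul_index P.B.index hsB e₀
    have hci : ⁅s ^ i, x₀⁆ = 1 :=
      commutatorElement_eq_one_iff_commute.2 (Commute.pow_left (hs.2 x₀ hx₀).symm i)
    rw [RankThree.comm_mul_left (hcenW _ (hcomB e he x₀ hx₀) _), hci, mul_one]
    exact hcomB e he x₀ hx₀
  have hKA : P.A.Inv (P.A.E ⊓ centralizer (V : Set S)) := Side.inv_centralizer hA
  have hKB : P.B.Inv (P.A.E ⊓ centralizer (V : Set S)) := hKeq ▸ Side.inv_centralizer h.invB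
  generalize hKdef : P.A.E ⊓ centralizer (V : Set S) = K at hKA hKB hKeq
  have hmemK : ∀ s, s ∈ P.B.E → (∀ x ∈ V, Commute s x) → s ∈ K := fun s hs hc => by
    rw [hKeq]; exact ⟨hs, fun x hx => (hc x hx).eq.symm⟩
  have hcK : ∀ s ∈ K, ∀ x ∈ V, Commute x s := fun s hs x hx => by
    rw [hKeq] at hs; exact hs.2 x hx
  have hKW : K ≤ P.W := le_inf hKA.1 hKB.1
  have hVK : V ≤ K := fun x hx => hmemK x (hVB hx) fun y hy => h.comm x hx y hy
  have hKne : K ≠ P.W := by
    intro e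
    obtain ⟨b, hbA, hbB⟩ := exists_outside P.swap
    have hx1 : ∃ x₁ ∈ V, x₁ ∉ Z := by
      by_contra hcon
      push Not at hcon
      have := Subgroup.card_le_of_le (fun x hx => hcon x hx : V ≤ Z)
      rw [h.cardV, h.cardZ] at this
      exact absurd this (Nat.pow_lt_pow_right hp.out.one_lt (by norm_num)).not_ge
    obtain ⟨x₁, hx1, hx1Z⟩ := hx1
    haveI := hA.normal
    haveI := h.invA.normal
    haveI : P.B.E.Normal := P.B.normal
    have hval : ∀ g ∈ P.A.E, ∀ x ∈ V, ⁅g, x⁆ ∈ zpowers ⁅b, x₁⁆ := by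
      intro g hg x hx
      obtain ⟨i, w, hw, rfl⟩ := exists_pow_mul_index P.B.index hbB g
      have hwK : w ∈ K := e.ge ⟨(mul_mem_cancel_left (pow_mem hbA i)).1 hg, hw⟩
      have hwx : ⁅w, x⁆ = 1 := commutatorElement_eq_one_iff_commute.2 (hcK w hwK x hx).symm
      rw [RankThree.comm_mul_left (by rw [hwx]; exact Commute.one_right _), hwx, one_mul]
      obtain ⟨j, -, z, hz, rfl⟩ := RankThree.exists_pow_mul h.relIndex_Z hx1 hx1Z hx
      have hbz : ⁅b ^ i, z⁆ = 1 :=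
        commutatorElement_eq_one_iff_mul_comm.2 (h.cen z hz _ (pow_mem hbA i)).symm
      have hbx : ∀ y ∈ V, Commute b ⁅b, y⁆ ∧ Commute x₁ ⁅b, y⁆ := fun y hy =>
        ⟨(show Commute ⁅b, y⁆ b from h.cen _ (h.comm_V_Z hS hA b hy) b hbA).symm,
          h.comm _ hx1 _ (h.le (h.comm_V_Z hS hA b hy))⟩
      rw [RankThree.comm_mul_right (by rw [hbz]; exact Commute.one_right _), hbz, mul_one,
        RankThree.comm_pow_left (hbx _ (pow_mem hx1 j)).1, RankThree.comm_pow_right (hbx _ hx1).2]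
      exact pow_mem (pow_mem (mem_zpowers _) j) i
    have h2 := Subgroup.card_le_of_le (hZI.trans ((Subgroup.closure_le _).2 (by
      rintro _ ⟨g, hg, x, hx, rfl⟩; exact hval g hg x hx)))
    rw [h.cardZ, Nat.card_zpowers, sq] at h2
    have h3 : orderOf ⁅b, x₁⁆ ≤ p :=
      Nat.le_of_dvd hp.out.pos (orderOf_dvd_of_pow_eq_one (h.expV _ (h.le (h.comm_V_Z hS hA b hx1))))
    have := hp.out.two_le
    nlinarith
  have hfix := h.fixes_quot hS hr hyp hA hKW hKne hVK hKA hKB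
  have hidx : (oz p S).relIndex V = p ^ 2 := by
    have := relIndex_mul_card (h.ozle.trans h.le)
    rw [h.card_oz, h.cardV, pow_succ p 2] at this
    exact Nat.eq_of_mul_eq_mul_right hp.out.pos this
  obtain ⟨τ, hτ, hτp, -, hneg⟩ := P.B.exists_neg hS hp2 h.invB hozB (h.ozle.trans h.le) hidx
    (fun x hx y hy => by rw [commutatorElement_eq_one_iff_commute.2 (h.comm x hx y hy)]; exact one_mem _)
    (fun x hx => by rw [h.expV x hx]; exact one_mem _) (h.irred hS hA) ⟨e₀, x₀, hx₀, hne⟩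
  have hτG := P.B.M_le hτ
  have hinv : ∀ x ∈ V, x * act P.B τ x ∈ oz p S := fun x hx => by
    rw [act_coe τ ⟨x, hVB hx⟩]; exact hneg ⟨x, hVB hx⟩ hx
  have hfoz : P.B.Fixes τ (oz p S) ⊥ := Side.fixes_of_comm hozB P.B.inv_bot (fun s x hx =>
    mem_bot.2 (commutatorElement_eq_one_iff_mul_comm.2 (mem_center_iff.1 hx.1 s))) τ hτ
  have hτoz : ∀ z ∈ oz p S, act P.B τ z = z := fun z hz => act_fixed hfoz hz (P.B.oz_le hz)
  have hfixV : ∀ x ∈ V, act P.B τ x = x → x ∈ oz p S := fun x hx e =>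
    mem_of_sq_mem hp2 (h.expV x hx) (by have := hinv x hx; rwa [e] at this)
  obtain ⟨m, hm⟩ : ∃ m, 2 * m = p + 1 := ⟨(p + 1) / 2, by obtain ⟨k, hk⟩ := hp.out.odd_of_ne_two hp2; omega⟩
  have hcover : ∀ k ∈ K, ∃ y ∈ V, act P.B τ (k * y) = k * y := by
    intro k hk
    obtain ⟨x, hx⟩ : ∃ x, x = k⁻¹ * act P.B τ k := ⟨_, rfl⟩
    have hxV : x ∈ V := hx ▸ hfix τ hτ hτp k hk
    obtain ⟨z, hz⟩ : ∃ z, z = x * act P.B τ x := ⟨_, rfl⟩
    have hzoz : z ∈ oz p S := hz ▸ hinv x hxV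
    refine ⟨x ^ m, pow_mem hxV m, ?_⟩
    have hkB : k ∈ P.B.E := (hKW hk).2
    have h2 : act P.B τ (k * x ^ m) = k * x ^ m * z ^ m := by
      rw [act_mul τ hkB (hVB (pow_mem hxV m)), act_pow τ (hVB hxV),
        show act P.B τ x = x⁻¹ * z by rw [hz, inv_mul_cancel_left],
        (hcenW z hzoz x⁻¹).mul_pow, show act P.B τ k = k * x by rw [hx, mul_inv_cancel_left]]
      have h3 : x * x⁻¹ ^ m = x ^ m := by
        rw [inv_pow, mul_inv_eq_iff_eq_mul, ← pow_add, ← two_mul, hm, pow_succ, h.expV x hxV, one_mul]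
      calc k * x * (x⁻¹ ^ m * z ^ m) = k * (x * x⁻¹ ^ m) * z ^ m := by group
        _ = _ := by rw [h3]
    have hzm := act_eq_of_fixed hτp (mul_mem hkB (hVB (pow_mem hxV m))) (P.B.oz_le (pow_mem hzoz m))
      (hτoz _ (pow_mem hzoz m)) (h.expV _ (h.le (h.ozle (pow_mem hzoz m)))) h2
    rw [h2, hzm, mul_one]
  have hsmall : ∀ D : Subgroup S, P.A.Inv D → D ≠ ⊥ → (∀ x ∈ D, act P.B τ x = x) → False := by
    intro D hD hne hf
    haveI := hD.normal
    have hZD : Z ≤ D := h.minA D hD (h.oz_le_of_normal hS hne)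
    exact h.Z_not_le_oz fun z hz => hfixV z (h.le hz) (hf z (hZD hz))
  let F : Subgroup S :=
    { carrier := {y | y ∈ P.B.E ∧ act P.B τ y = y}
      one_mem' := ⟨one_mem _, act_one τ⟩
      mul_mem' := fun {a b} ha hb => ⟨mul_mem ha.1 hb.1, by rw [act_mul τ ha.1 hb.1, ha.2, hb.2]⟩
      inv_mem' := fun {a} ha => ⟨inv_mem ha.1, by rw [act_inv τ ha.1, ha.2]⟩ }
  have hKcomm : ∀ c ∈ K, ∀ d ∈ K, Commute c d := by
    intro c hc d hd
    rw [← commutatorElement_eq_one_iff_commute]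
    by_contra hcd
    let T : Set S := {y | ∃ a ∈ K, ∃ b ∈ K, ⁅a, b⁆ = y}
    have hTE : T ⊆ P.A.E := by
      rintro _ ⟨a, ha, b, hb, rfl⟩
      rw [commutatorElement_def]
      exact hKA.1 (mul_mem (mul_mem (mul_mem ha hb) (inv_mem ha)) (inv_mem hb))
    refine hsmall (Subgroup.closure T) (TwoNonab.inv_closure hTE ?_)
      (fun e => hcd (mem_bot.1 (e ▸ Subgroup.subset_closure ⟨c, hc, d, hd, rfl⟩))) ?_
    · rintro g hg _ ⟨a, ha, b, hb, rfl⟩
      refine Subgroup.subset_closure ⟨_, act_mem_of_inv hKA hg ha, _, act_mem_of_inv hKA hg hb, ?_⟩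
      rw [act_commutator g (hKA.1 ha) (hKA.1 hb)]
    · have hle : Subgroup.closure T ≤ F := by
        refine (Subgroup.closure_le _).2 ?_
        rintro _ ⟨a, ha, b, hb, rfl⟩
        obtain ⟨y, hy, hay⟩ := hcover a ha
        obtain ⟨y', hy', hby⟩ := hcover b hb
        have hayB : a * y ∈ P.B.E := mul_mem (hKB.1 ha) (hVB hy)
        have hbyB : b * y' ∈ P.B.E := mul_mem (hKB.1 hb) (hVB hy')
        rw [← comm_mul_central (hcK b hb y hy) (hcK a ha y' hy') (h.comm y hy y' hy')]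
        refine ⟨?_, by rw [act_commutator τ hayB hbyB, hay, hby]⟩
        rw [commutatorElement_def]
        exact mul_mem (mul_mem (mul_mem hayB hbyB) (inv_mem hayB)) (inv_mem hbyB)
      exact fun x hx => (hle hx).2
  have hKexp : ∀ c ∈ K, c ^ p = 1 := by
    intro c hc
    by_contra hcp
    let T : Set S := {y | ∃ a ∈ K, a ^ p = y}
    have hTE : T ⊆ P.A.E := by rintro _ ⟨a, ha, rfl⟩; exact hKA.1 (pow_mem ha p)
    refine hsmall (Subgroup.closure T) (TwoNonab.inv_closure hTE ?_)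
      (fun e => hcp (mem_bot.1 (e ▸ Subgroup.subset_closure ⟨c, hc, rfl⟩))) ?_
    · rintro g hg _ ⟨a, ha, rfl⟩
      refine Subgroup.subset_closure ⟨_, act_mem_of_inv hKA hg ha, ?_⟩
      rw [act_pow g (hKA.1 ha)]
    · have hle : Subgroup.closure T ≤ F := by
        refine (Subgroup.closure_le _).2 ?_
        rintro _ ⟨a, ha, rfl⟩
        obtain ⟨y, hy, hay⟩ := hcover a ha
        have hayB : a * y ∈ P.B.E := mul_mem (hKB.1 ha) (hVB hy)
        have e : (a * y) ^ p = a ^ p := by rw [(hcK a ha y hy).symm.mul_pow, h.expV y hy, mul_one]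
        rw [← e]
        exact ⟨pow_mem hayB p, by rw [act_pow τ hayB, hay]⟩
      exact fun x hx => (hle hx).2
  have hKV : K = V := (eq_of_le_of_card_ge hVK (by rw [h.cardV]; exact card_le_cube hr hKcomm hKexp)).symm
  have hact : ∀ c ∈ P.B.E, c * act P.B τ c ∈ V := by
    intro c hc
    rw [← hKV]
    refine hmemK _ (mul_mem hc (act_mem τ hc)) fun x hx => commutatorElement_eq_one_iff_commute.1 ?_
    have hz := hinv x hx
    have hcx := hcomB c hc x hx
    have h1 : ⁅act P.B τ c, act P.B τ x⁆ = ⁅c, x⁆ := by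
      rw [← act_commutator τ hc (hVB hx), hτoz _ hcx]
    obtain ⟨z, hzdef⟩ : ∃ z, z = x * act P.B τ x := ⟨_, rfl⟩
    rw [← hzdef] at hz
    have hzc : ⁅act P.B τ c, z⁆ = 1 := commutatorElement_eq_one_iff_commute.2 (hcenW z hz _)
    rw [show act P.B τ x = x⁻¹ * z by rw [hzdef, inv_mul_cancel_left],
      RankThree.comm_mul_right (by rw [hzc]; exact Commute.one_right _), hzc, mul_one] at h1
    have h2 : ⁅act P.B τ c, x * x⁻¹⁆ = ⁅act P.B τ c, x⁆ * ⁅act P.B τ c, x⁻¹⁆ :=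
      RankThree.comm_mul_right (hcenW _ (hcomB _ (act_mem τ hc) _ (inv_mem hx)) x)
    rw [mul_inv_cancel, commutatorElement_one_right, h1] at h2
    rw [RankThree.comm_mul_left (hcenW _ (hcomB _ (act_mem τ hc) _ hx) c)]
    exact h2.symm
  have hpow : ∀ c ∈ P.B.E, ∀ x ∈ V, ⁅c ^ p, x⁆ = 1 := fun c hc x hx => by
    rw [RankThree.comm_pow_left (hcenW _ (hcomB c hc x hx) c) p,
      h.expV _ (h.le (h.ozle (hcomB c hc x hx)))]
  have hcd : ∀ c ∈ P.B.E, ∀ d ∈ P.B.E, ⁅c, d⁆ ∈ V := by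
    intro c hc d hd
    rw [← hKV]
    refine hmemK _ ?_ fun x hx => ?_
    · rw [commutatorElement_def]; exact mul_mem (mul_mem (mul_mem hc hd) (inv_mem hc)) (inv_mem hd)
    have hconj : ∀ e ∈ P.B.E, e * x * e⁻¹ = ⁅e, x⁆ * x := fun e _ => by
      simp only [commutatorElement_def]; group
    let φ : P.B.E →* center S :=
      { toFun := fun e => ⟨⁅(e : S), x⁆, (hcomB e e.2 x hx).1⟩
        map_one' := Subtype.ext (by simp)
        map_mul' := fun a b => Subtype.ext (by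
          show ⁅(a : S) * b, x⁆ = ⁅(a : S), x⁆ * ⁅(b : S), x⁆
          rw [RankThree.comm_mul_left (hcenW _ (hcomB b b.2 x hx) a)]
          exact (hcenW _ (hcomB a a.2 x hx) _).eq) }
    have h1 : φ ⁅(⟨c, hc⟩ : P.B.E), ⟨d, hd⟩⁆ = 1 := by
      rw [map_commutatorElement, commutatorElement_eq_one_iff_mul_comm]
      exact Subtype.ext (mem_center_iff.1 (φ ⟨c, hc⟩).2 _).symm
    exact commutatorElement_eq_one_iff_commute.1 (congrArg Subtype.val h1)
  have hcomm : ∀ c ∈ P.B.E, ∀ d ∈ P.B.E, ⁅c, d⁆ ∈ oz p S := by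
    intro c hc d hd
    have hu := hcd c hc d hd
    refine mem_of_sq_mem hp2 (h.expV _ hu) ?_
    set q := QuotientGroup.mk' (oz p S) with hq
    have hqV : ∀ v ∈ V, ∀ e ∈ P.B.E, Commute (q v) (q e) := fun v hv e he => by
      refine (commutatorElement_eq_one_iff_commute.1 ?_).symm
      rw [← map_commutatorElement, hq, QuotientGroup.mk'_apply, QuotientGroup.eq_one_iff]
      exact hcomB e he v hv
    have hqc : ∀ e ∈ P.B.E, q (act P.B τ e) = (q e)⁻¹ * q (e * act P.B τ e) := fun e _ => by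
      rw [map_mul, inv_mul_cancel_left]
    have h1 : q (act P.B τ ⁅c, d⁆) = q ⁅c, d⁆ := by
      rw [act_commutator τ hc hd, map_commutatorElement, hqc c hc, hqc d hd,
        comm_mul_central (hqV _ (hact c hc) d hd).inv_right (hqV _ (hact d hd) c hc).inv_right
          (hqV _ (hact c hc) _ (hVB (hact d hd))),
        map_commutatorElement]
      refine comm_inv_inv ?_ ?_
      · rw [← map_commutatorElement]; exact (hqV _ hu c hc).symm
      · rw [← map_commutatorElement]; exact (hqV _ hu d hd).symm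
    have h2 : q (⁅c, d⁆ * act P.B τ ⁅c, d⁆) = 1 := by
      rw [hq, QuotientGroup.mk'_apply, QuotientGroup.eq_one_iff]; exact hinv _ hu
    rw [map_mul, h1, ← map_mul, hq, QuotientGroup.mk'_apply, QuotientGroup.eq_one_iff] at h2
    exact h2
  refine h.absurd_index hS hr hKW hKne hVK hcomm fun c hc => ?_
  have hcV : c ^ p ∈ V := by
    rw [← hKV]
    exact hmemK _ (pow_mem hc p) fun x hx => commutatorElement_eq_one_iff_commute.1 (hpow c hc x hx)
  refine h.cent_B hS hA hcV fun e he => commutatorElement_eq_one_iff_commute.1 ?_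
  rw [RankThree.comm_pow_right (hcenW _ (hcomm e he c hc) c) p,
    h.expV _ (h.le (h.ozle (hcomm e he c hc)))]

end CfsgLib.RankThreePair.TwoAb

namespace CfsgLib.RankThreePair

universe u

/-- The moved `Ω₁(Z(S))` with commuting images is impossible. -/
theorem case_two_ab {S : Type u} [Group S] [Finite S] {p : ℕ} [Fact p.Prime] (hp2 : p ≠ 2)
    (hS : IsPGroup p S) (hr : Cfsg.SectionalPRankLE p 3 S) (hyp : Hyp.{u} p (Nat.card S)) (P : Pair p S)
    (hmv : ¬ P.A.Inv (oz p S)) (hle : P.A.orbit (oz p S) ≤ P.B.E)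
    (hc : ∀ g ∈ P.B.G, ∀ x y : P.B.E, (x : S) ∈ P.A.orbit (oz p S) → (y : S) ∈ P.A.orbit (oz p S) →
      Commute x (g y)) : False := by
  by_cases hB : P.B.Inv (P.A.orbit (oz p S))
  · exact TwoAb.false_of_inv hS hr hyp P hmv hle hB
  have h := TwoAb.setting_of_not_inv hS hr P hmv hle hc hB
  exact h.absurd_of_invA hp2 hS hr hyp (h.invA_V hp2 hS hr)

end CfsgLib.RankThreePair
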