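import Cfsg.Agent.Lib.RankThreePair.Tools
import Cfsg.Agent.Lib.RankThree.Basic
import Cfsg.Agent.Lib.Transfer.ClassTwo
import Cfsg.Agent.Lib.Invol.FrattiniKernel
import Cfsg.Agent.Lib.Invol.RankTwoSections
import Cfsg.Agent.Lib.Solvable.Nilpotent

/-!
Elementary lemmas for the case of a pair of automizers with abelian `V₂`.
-/

set_option autoImplicit false
set_option linter.unusedSectionVars false

namespace CfsgLib.RankThreePair.TwoAb

open Subgroup
open scoped commutatorElement

variable {S : Type*} [Group S] [Finite S] {p : ℕ} [hp : Fact p.Prime]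

instance oz_normal : (oz p S).Normal := ⟨fun x hx g => by
  rw [show g * x * g⁻¹ = x by rw [mem_center_iff.1 hx.1 g, mul_inv_cancel_right]]
  exact hx⟩

theorem oz_ne_bot [Nontrivial S] (hS : IsPGroup p S) : oz p S ≠ ⊥ := by
  haveI := hS.center_nontrivial
  obtain ⟨n, hn⟩ := IsPGroup.iff_card.1 (hS.to_subgroup (center S))
  rcases n with _ | n
  · exact absurd hn (by rw [pow_zero]; exact (Finite.one_lt_card (α := center S)).ne')
  obtain ⟨z, hz⟩ := exists_prime_orderOf_dvd_card' (G := center S) p (hn ▸ dvd_pow_self p n.succ_ne_zero)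
  intro hb
  have hzo : (z : S) ∈ oz p S := ⟨z.2, by rw [← SubgroupClass.coe_pow, ← hz, pow_orderOf_eq_one]; rfl⟩
  rw [hb, mem_bot] at hzo
  have : z = 1 := Subtype.ext hzo
  rw [this, orderOf_one] at hz
  exact hp.out.ne_one hz.symm

/-- A nontrivial normal subgroup contains a nontrivial central element of order `p`. -/
theorem exists_mem_oz (hS : IsPGroup p S) {N : Subgroup S} [N.Normal] (hN : N ≠ ⊥) :
    ∃ z ∈ N, z ∈ oz p S ∧ z ≠ 1 := by
  haveI := hS.isNilpotent
  have hne := CfsgLib.Solvable.normal_inf_center_ne_bot N hN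
  obtain ⟨n, hn⟩ := IsPGroup.iff_card.1 (hS.to_subgroup (N ⊓ center S))
  rcases n with _ | n
  · exact absurd (Subgroup.eq_bot_of_card_eq _ (by simpa using hn)) hne
  obtain ⟨z, hz⟩ := exists_prime_orderOf_dvd_card' (G := ↥(N ⊓ center S)) p (hn ▸ dvd_pow_self p n.succ_ne_zero)
  refine ⟨z, z.2.1, ⟨z.2.2, by rw [← SubgroupClass.coe_pow, ← hz, pow_orderOf_eq_one]; rfl⟩, fun h => ?_⟩
  rw [show z = 1 from Subtype.ext h, orderOf_one] at hz
  exact hp.out.ne_one hz.symm

/-- A normal section of prime order is central. -/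
theorem comm_mem_of_relIndex (hS : IsPGroup p S) {N L : Subgroup S} [N.Normal] [L.Normal] (hle : N ≤ L)
    (hi : N.relIndex L ≤ p) (s : S) {x : S} (hx : x ∈ L) : ⁅s, x⁆ ∈ N := by
  rcases eq_or_lt_of_le hle with rfl | hlt
  · rw [commutatorElement_def]
    exact mul_mem (Subgroup.Normal.conj_mem inferInstance x hx s) (inv_mem hx)
  obtain ⟨B, _, hNB, hBL, hBi, hc, -⟩ := RankThree.exists_chief_rel hS hlt
  have hm := relIndex_mul_relIndex N B L hNB hBL
  rw [hBi] at hm
  have h0 : N.relIndex B ≠ 0 := Subgroup.index_ne_zero_of_finite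
  have h1 : N.relIndex B = 1 := by
    rw [← hm] at hi
    have := hp.out.pos
    nlinarith [Nat.one_le_iff_ne_zero.2 h0]
  exact relIndex_eq_one.1 h1 (hc s x hx)

theorem card_mul_le (hS : IsPGroup p S) {A B : Subgroup S} (h : A < B) : p * Nat.card A ≤ Nat.card B := by
  obtain ⟨m, hm⟩ := IsPGroup.iff_card.1 (hS.to_subgroup A)
  obtain ⟨n, hn⟩ := IsPGroup.iff_card.1 (hS.to_subgroup B)
  have hlt : Nat.card A < Nat.card B := by
    refine lt_of_le_of_ne (Subgroup.card_le_of_le h.le) fun e => h.ne ?_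
    exact eq_of_le_of_card_ge h.le e.ge
  rw [hm, hn] at hlt ⊢
  have := (Nat.pow_lt_pow_iff_right hp.out.one_lt).1 hlt
  rw [← pow_succ']
  exact Nat.pow_le_pow_right hp.out.pos this

theorem relIndex_mul_le (hS : IsPGroup p S) {N A B : Subgroup S} (hNA : N ≤ A) (h : A < B) :
    p * N.relIndex A ≤ N.relIndex B := by
  have := card_mul_le hS h
  have h1 := N.relIndex_mul_relIndex A B hNA h.le
  have h2 := (A.subgroupOf B).card_mul_index
  rw [Nat.card_congr (Subgroup.subgroupOfEquivOfLe h.le).toEquiv] at h2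
  rw [← h1, mul_comm p]
  refine Nat.mul_le_mul_left _ ?_
  show p ≤ (A.subgroupOf B).index
  rw [← h2, mul_comm p] at this
  exact Nat.le_of_mul_le_mul_left this Nat.card_pos

theorem eq_of_index_lt {E K : Subgroup S} (h : E.index = p) (hlt : E < K) : K = ⊤ := by
  have h1 := relIndex_mul_index hlt.le
  rw [h] at h1
  rcases (Nat.dvd_prime hp.out).1 (Dvd.intro_left _ h1) with h2 | h2
  · exact index_eq_one.1 h2
  · rw [h2, Nat.mul_eq_right hp.out.ne_zero] at h1
    exact absurd (relIndex_eq_one.1 h1) hlt.not_ge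

theorem exists_pow_mul_index {E : Subgroup S} [E.Normal] (h : E.index = p) {a : S} (ha : a ∉ E) (y : S) :
    ∃ i : ℕ, ∃ e ∈ E, y = a ^ i * e := by
  obtain ⟨i, -, e, he, r⟩ := RankThree.exists_pow_mul (p := p) (A := E) (B := ⊤) (by rw [relIndex_top_right]; exact h)
    (mem_top a) ha (mem_top y)
  exact ⟨i, e, he, r⟩

variable {A : Side p S}

/-- A generated subgroup with invariant generators. -/
theorem inv_closure {T : Set S} (hT : T ⊆ (A.E : Set S))
    (h : ∀ g ∈ A.G, ∀ x : A.E, (x : S) ∈ T → ((g x : A.E) : S) ∈ Subgroup.closure T) :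
    A.Inv (Subgroup.closure T) := by
  refine ⟨(Subgroup.closure_le _).2 hT, fun g hg x hx => ?_⟩
  have hle : Subgroup.closure T ≤ (((Subgroup.closure T).comap A.E.subtype).comap g.toMonoidHom).map A.E.subtype := by
    refine (Subgroup.closure_le _).2 fun y hy => ?_
    exact ⟨⟨y, hT hy⟩, h g hg ⟨y, hT hy⟩ hy, rfl⟩
  obtain ⟨y, hy, e⟩ := hle hx
  obtain rfl : y = x := Subtype.ext e
  exact hy

theorem apply_coe_mul (g : MulAut A.E) (x y : A.E) :
    ((g (x * y) : A.E) : S) = (g x : A.E) * (g y : A.E) := by rw [map_mul]; rfl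

theorem apply_coe_comm (g : MulAut A.E) (x y : A.E) :
    ((g ⟨⁅(x : S), (y : S)⁆, by
      rw [commutatorElement_def]
      exact mul_mem (mul_mem (mul_mem x.2 y.2) (inv_mem x.2)) (inv_mem y.2)⟩ : A.E) : S) =
      ⁅((g x : A.E) : S), ((g y : A.E) : S)⁆ := by
  rw [show (⟨⁅(x : S), (y : S)⁆, _⟩ : A.E) = ⁅x, y⁆ from rfl, map_commutatorElement]
  rfl

/-- A module on which `S` acts through the maximal subgroup is fixed by the elements of order prime to `p`. -/
theorem fixes_central (hS : IsPGroup p S) {g : MulAut A.E} (hg : g ∈ A.M) (hgp : (orderOf g).Coprime p) :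
    ∀ n : ℕ, ∀ N : Subgroup S, Nat.card N = n → A.Inv N →
      (∀ s : S, ∀ x ∈ N, ∃ e ∈ A.E, ⁅s, x⁆ = ⁅e, x⁆) → A.Fixes g N ⊥ := by
  intro n
  induction n using Nat.strong_induction_on with
  | _ n ih =>
    intro N hn hN hc
    by_cases hbot : N = ⊥
    · intro x hx
      subst hbot
      have hx1 : x = 1 := Subtype.ext (mem_bot.1 hx)
      rw [hx1, map_one]; simp
    haveI := hN.normal
    haveI : (⊥ : Subgroup S).Normal := inferInstance
    obtain ⟨B0, -, -, hB0, hBi, hBc, -⟩ := RankThree.exists_chief_rel hS (bot_lt_iff_ne_bot.2 hbot)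
    let T : Set S := {y | ∃ e ∈ A.E, ∃ x ∈ N, ⁅e, x⁆ = y}
    have hT : T ⊆ (B0 : Set S) := by rintro _ ⟨e, -, x, hx, rfl⟩; exact hBc e x hx
    have hTE : T ⊆ (A.E : Set S) := fun y hy => hN.1 (hB0 (hT hy))
    have hD : A.Inv (Subgroup.closure T) := inv_closure hTE fun g' hg' y ⟨e, he, x, hx, r⟩ => by
      refine Subgroup.subset_closure ⟨_, (g' ⟨e, he⟩).2, _, hN.2 g' hg' ⟨x, hN.1 hx⟩ hx, ?_⟩
      rw [← apply_coe_comm]
      exact congrArg (fun w : A.E => ((g' w : A.E) : S)) (Subtype.ext r)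
    have hDB : Subgroup.closure T ≤ B0 := (Subgroup.closure_le _).2 hT
    have hlt : Nat.card (Subgroup.closure T) < n := by
      rw [← hn]
      refine lt_of_le_of_lt (Subgroup.card_le_of_le hDB) (lt_of_le_of_ne (Subgroup.card_le_of_le hB0) fun e => ?_)
      rw [eq_of_le_of_card_ge hB0 e.ge, relIndex_self] at hBi
      exact hp.out.ne_one hBi.symm
    have h1 : A.Fixes g N (Subgroup.closure T) := A.fixes_of_comm hN hD (fun s x hx => by
      obtain ⟨e, he, r⟩ := hc s x hx
      exact Subgroup.subset_closure ⟨e, he, x, hx, r.symm⟩) g hg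
    exact A.fixes_trans hS hgp h1
      (ih _ hlt _ rfl hD fun s x hx => hc s x (hB0 (hDB hx)))

/-- Fixed cosets contain fixed points, up to a central error. -/
theorem eq_one_of_fixed {g : MulAut A.E} (hgp : (orderOf g).Coprime p) {x z : A.E} (hz : g z = z)
    (hzp : z ^ p = 1) (h : g x = x * z) : z = 1 := by
  have hn : ∀ n : ℕ, (g ^ n) x = x * z ^ n := fun n => by
    induction n with
    | zero => simp
    | succ n ih => rw [pow_succ', MulAut.mul_apply, ih, map_mul, h, map_pow, hz, mul_assoc, ← pow_succ']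
  have := hn (orderOf g)
  rw [pow_orderOf_eq_one, MulAut.one_apply, left_eq_mul] at this
  have hd := Nat.dvd_gcd (orderOf_dvd_of_pow_eq_one this) (orderOf_dvd_of_pow_eq_one hzp)
  rw [Nat.Coprime.gcd_eq_one hgp] at hd
  exact orderOf_eq_one_iff.1 (Nat.dvd_one.1 hd)

/-- If the elements of order prime to `p` fix `E/Z₁` then it is cyclic. -/
theorem exists_cyclic_top (hS : IsPGroup p S) (hr : Cfsg.SectionalPRankLE p 3 S) (A : Side p S)
    {Z : Subgroup S} (hZ : A.Inv Z) (hne : Z ≠ A.E) {g : MulAut A.E} (hg : g ∈ A.M)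
    (hgp : (orderOf g).Coprime p) (hmv : ¬ A.Fixes g A.E ⊥) (hfix : A.Fixes g A.E Z) :
    ∃ b ∈ A.E, A.E ≤ Z ⊔ zpowers b := by
  haveI := A.normal
  haveI := hZ.normal
  have hE : IsPGroup p A.E := hS.to_subgroup _
  let F : Subgroup A.E := frattini A.E
  have hFinv : A.Inv (F.map A.E.subtype) :=
    A.inv_of_char F fun φ x hx => frattini_le_comap_frattini_of_surjective (φ := φ.toMonoidHom) φ.surjective hx
  haveI := hFinv.normal
  let L : Subgroup A.E := F ⊔ Z.subgroupOf A.E
  have hLinv : A.Inv (L.map A.E.subtype) := by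
    refine ⟨map_subtype_le _, fun h hh x hx => ?_⟩
    obtain ⟨y, hy, e⟩ := hx
    obtain rfl : y = x := Subtype.ext e
    refine ⟨h y, ?_, rfl⟩
    have hle : L ≤ L.comap h.toMonoidHom := by
      refine sup_le (fun u hu => mem_sup_left (?_ : h u ∈ F)) fun u hu => mem_sup_right (?_ : ((h u : A.E) : S) ∈ Z)
      · exact frattini_le_comap_frattini_of_surjective (φ := h.toMonoidHom) h.surjective hu
      · exact hZ.2 h hh u hu
    exact hle hy
  haveI := hLinv.normal
  have hFL : F.map A.E.subtype ≤ L.map A.E.subtype := map_mono le_sup_left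
  have hidx : ∀ K K' : Subgroup A.E, (K.map A.E.subtype).relIndex (K'.map A.E.subtype) = K.relIndex K' :=
    fun K K' => relIndex_map_map_of_injective K K' A.E.subtype_injective
  have hbig : p < F.relIndex L := by
    by_contra hle
    rw [not_lt, ← hidx] at hle
    have hf : A.Fixes g (L.map A.E.subtype) (F.map A.E.subtype) :=
      A.fixes_of_comm hLinv hFinv (fun s x hx => comm_mem_of_relIndex hS hFL hle s hx) g hg
    have hker : g ∈ CfsgLib.Invol.FrattiniKernel.frattiniKer A.E := by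
      rw [CfsgLib.Invol.FrattiniKernel.mem_frattiniKer]
      intro x
      have hc : x⁻¹ * g x ∈ L := mem_sup_right (hfix x x.2)
      obtain ⟨z, hz⟩ : ∃ z, z = x⁻¹ * g x := ⟨_, rfl⟩
      rw [← hz] at hc ⊢
      obtain ⟨y, hy, e⟩ := hf z ⟨z, hc, rfl⟩
      have hgz : z⁻¹ * g z ∈ F := by
        have : y = z⁻¹ * g z := Subtype.ext e
        exact this ▸ hy
      let π := QuotientGroup.mk' (frattini A.E)
      have hπz : π (g z) = π z := (QuotientGroup.eq.2 hgz).symm
      have hpow : ∀ n : ℕ, π ((g ^ n) x) = π x * π z ^ n := fun n => by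
        induction n with
        | zero => simp
        | succ n ih =>
          have hgF : ∀ u v : A.E, π u = π v → π (g u) = π (g v) := fun u v huv => by
            refine QuotientGroup.eq.2 ?_
            rw [← map_inv, ← map_mul]
            exact frattini_le_comap_frattini_of_surjective (φ := g.toMonoidHom) g.surjective (QuotientGroup.eq.1 huv)
          rw [pow_succ', MulAut.mul_apply, hgF ((g ^ n) x) (x * z ^ n) (by rw [map_mul, map_pow]; exact ih),
            map_mul, map_mul, map_pow, map_pow, hπz,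
            show g x = x * z by rw [hz, mul_inv_cancel_left], map_mul, mul_assoc, ← pow_succ']
      have h1 := hpow (orderOf g)
      rw [pow_orderOf_eq_one, MulAut.one_apply, left_eq_mul] at h1
      have h2 : π z ^ p = 1 := by
        rw [← map_pow]
        exact (QuotientGroup.eq_one_iff _).2 (CfsgLib.Transfer.pow_mem_frattini hE z)
      have hd := Nat.dvd_gcd (orderOf_dvd_of_pow_eq_one h1) (orderOf_dvd_of_pow_eq_one h2)
      rw [Nat.Coprime.gcd_eq_one hgp] at hd
      exact (QuotientGroup.eq_one_iff z).1 (orderOf_eq_one_iff.1 (Nat.dvd_one.1 hd))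
    obtain ⟨n, hn⟩ := (CfsgLib.Invol.FrattiniKernel.isPGroup_frattiniKer hE) ⟨g, hker⟩
    have hn' : g ^ p ^ n = 1 := congrArg Subtype.val hn
    have hd := Nat.dvd_gcd (dvd_refl (orderOf g)) (orderOf_dvd_of_pow_eq_one hn')
    rw [Nat.Coprime.gcd_eq_one (hgp.pow_right n)] at hd
    refine hmv fun x _ => ?_
    rw [orderOf_eq_one_iff.1 (Nat.dvd_one.1 hd)]
    simp
  have hrank : F.relIndex ⊤ ≤ p ^ 3 := by
    rw [← hidx, ← MonoidHom.range_eq_map, Subgroup.range_subtype]
    refine RankThree.relIndex_le hr (fun a ha b hb => ?_) fun a ha => ?_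
    · exact ⟨⁅⟨a, ha⟩, ⟨b, hb⟩⁆, RankThree.commutator_mem_frattini hE _ _, rfl⟩
    · exact ⟨⟨a, ha⟩ ^ p, CfsgLib.Transfer.pow_mem_frattini hE _, rfl⟩
  have hmul := relIndex_mul_relIndex F L ⊤ le_sup_left le_top
  have hLtop : L ≠ ⊤ := by
    intro e
    have : Z.subgroupOf A.E = ⊤ := frattini_nongenerating (K := Z.subgroupOf A.E) (sup_comm F _ ▸ e)
    exact hne (le_antisymm hZ.1 (subgroupOf_eq_top.1 this))
  obtain ⟨b, -, hb⟩ := SetLike.exists_of_lt (lt_top_iff_ne_top.2 hLtop)
  refine ⟨b, b.2, ?_⟩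
  have hLp : L.index = p := by
    rw [← relIndex_top_right]
    obtain ⟨m, hm⟩ := hE.index L
    obtain ⟨k, hk⟩ := (hE.to_subgroup L).index (F.subgroupOf L)
    rw [relIndex_top_right, hm]
    rcases m with _ | _ | m
    · exact absurd (index_eq_one.1 (by simpa using hm)) hLtop
    · simp
    exfalso
    have e1 : F.relIndex L = p ^ k := hk
    rw [relIndex_top_right L, hm] at hmul
    rw [← hmul, e1, ← pow_add] at hrank
    have h2 : 1 < k := (Nat.pow_lt_pow_iff_right hp.out.one_lt).1 (by rwa [pow_one, ← e1])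
    have := (Nat.pow_le_pow_iff_right hp.out.one_lt).1 hrank
    omega
  have htop : L ⊔ zpowers b = ⊤ :=
    eq_of_index_lt hLp (lt_of_le_of_ne le_sup_left fun e => hb (e ▸ mem_sup_right (mem_zpowers b)))
  have h2 : Z.subgroupOf A.E ⊔ zpowers b = ⊤ :=
    frattini_nongenerating (by rw [sup_comm, ← sup_assoc]; exact htop)
  intro x hx
  have hm : (x : S) ∈ (Z.subgroupOf A.E ⊔ zpowers b).map A.E.subtype := ⟨⟨x, hx⟩, h2 ▸ mem_top _, rfl⟩
  rw [Subgroup.map_sup, MonoidHom.map_zpowers] at hm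
  exact (sup_le_sup_right (map_subgroupOf_eq_of_le hZ.1).le _) hm

end CfsgLib.RankThreePair.TwoAb
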