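import Cfsg.Agent.Lib.RankThreePair.CaseTwoAbSetting

/-!
`V₂` is invariant on the first side.
-/

set_option autoImplicit false
set_option linter.unusedSectionVars false
set_option linter.style.haveILetI false

namespace CfsgLib.RankThreePair.TwoAb

open Subgroup
open TwoNonab (act act_coe act_mem act_mul act_one act_inv act_pow act_comp act_one' act_inv_act
  act_commutator act_mem_of_inv inv_of_act)
open scoped commutatorElement

universe u

variable {S : Type u} [Group S] [Finite S] {p : ℕ} [hp : Fact p.Prime]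

/-- Commutators of a generated subgroup. -/
theorem comm_mem_closure {N : Subgroup S} [N.Normal] {T : Set S}
    (h : ∀ a ∈ T, ∀ b ∈ T, ⁅a, b⁆ ∈ N) :
    ∀ u ∈ Subgroup.closure T, ∀ v ∈ Subgroup.closure T, ⁅u, v⁆ ∈ N := by
  have key : ∀ u v : S, ⁅u, v⁆ ∈ N ↔ Commute (QuotientGroup.mk' N u) (QuotientGroup.mk' N v) := fun u v => by
    rw [← QuotientGroup.eq_one_iff, ← commutatorElement_eq_one_iff_commute, ← map_commutatorElement]
    rfl
  intro u hu v hv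
  have h1 : ∀ b ∈ T, Commute (QuotientGroup.mk' N u) (QuotientGroup.mk' N b) := by
    induction hu using Subgroup.closure_induction with
    | mem u hu => exact fun b hb => (key u b).1 (h u hu b hb)
    | one => exact fun _ _ => by rw [map_one]; exact Commute.one_left _
    | mul x y _ _ ihx ihy => exact fun b hb => by rw [map_mul]; exact (ihx b hb).mul_left (ihy b hb)
    | inv x _ ihx => exact fun b hb => by rw [map_inv]; exact (ihx b hb).inv_left
  rw [key]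
  induction hv using Subgroup.closure_induction with
  | mem v hv => exact h1 v hv
  | one => rw [map_one]; exact Commute.one_right _
  | mul x y _ _ ihx ihy => rw [map_mul]; exact ihx.mul_right ihy
  | inv x _ ihx => rw [map_inv]; exact ihx.inv_right

/-- Two independent rows of an alternating map. -/
theorem exists_triple {U : Subgroup S}
    (hbil : ∀ x ∈ U, ∀ y ∈ U, ∀ z ∈ U, ⁅x * y, z⁆ = ⁅x, z⁆ * ⁅y, z⁆)
    (hpow : ∀ x ∈ U, ∀ y ∈ U, ⁅x, y⁆ ^ p = 1)
    (h1 : ∀ w, ¬ ∀ x ∈ U, ∀ y ∈ U, ⁅x, y⁆ ∈ zpowers w) :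
    ∃ y ∈ U, ∃ u ∈ U, ∃ v ∈ U, ⁅y, u⁆ ≠ 1 ∧ ⁅y, v⁆ ∉ zpowers ⁅y, u⁆ := by
  have hsym : ∀ {c d : S}, c ^ p = 1 → d ^ p = 1 → c ≠ 1 → d ∉ zpowers c → c ∉ zpowers d := by
    intro c d hc hd hc1 hdc hcd
    have hd1 : d ≠ 1 := fun e => hdc (e ▸ one_mem _)
    refine hdc (zpowers_le.1 (eq_of_le_of_card_ge (zpowers_le.2 hcd) ?_).ge)
    rw [Nat.card_zpowers, Nat.card_zpowers, orderOf_eq_prime hc hc1, orderOf_eq_prime hd hd1]
  obtain ⟨y0, hy0, u0, hu0, hc1⟩ : ∃ y ∈ U, ∃ u ∈ U, ⁅y, u⁆ ≠ 1 := by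
    by_contra hcon
    push Not at hcon
    exact h1 1 fun x hx y hy => by rw [hcon x hx y hy]; exact one_mem _
  obtain ⟨y1, hy1, u1, hu1, hc2⟩ : ∃ y ∈ U, ∃ u ∈ U, ⁅y, u⁆ ∉ zpowers ⁅y0, u0⁆ := by
    have := h1 ⁅y0, u0⁆
    push Not at this
    exact this
  have hc21 : ⁅y1, u1⁆ ≠ 1 := fun e => hc2 (e ▸ one_mem _)
  have hc12 : ⁅y0, u0⁆ ∉ zpowers ⁅y1, u1⁆ :=
    hsym (hpow _ hy0 _ hu0) (hpow _ hy1 _ hu1) hc1 hc2
  by_cases ha : ⁅y0, u1⁆ ∈ zpowers ⁅y0, u0⁆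
  swap
  · exact ⟨y0, hy0, u0, hu0, u1, hu1, hc1, ha⟩
  by_cases ha1 : ⁅y0, u1⁆ = 1
  swap
  · refine ⟨u1, hu1, y0, hy0, y1, hy1, ?_, fun hm => hc2 ?_⟩
    · rwa [← commutatorElement_inv, Ne, inv_eq_one]
    rw [← commutatorElement_inv u1 y1]
    refine inv_mem (zpowers_le.2 ?_ hm)
    rw [← commutatorElement_inv y0 u1]
    exact inv_mem ha
  by_cases hb : ⁅y1, u0⁆ ∈ zpowers ⁅y1, u1⁆
  swap
  · exact ⟨y1, hy1, u1, hu1, u0, hu0, hc21, hb⟩
  by_cases hb1 : ⁅y1, u0⁆ = 1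
  swap
  · refine ⟨u0, hu0, y1, hy1, y0, hy0, ?_, fun hm => hc12 ?_⟩
    · rwa [← commutatorElement_inv, Ne, inv_eq_one]
    rw [← commutatorElement_inv u0 y0]
    refine inv_mem (zpowers_le.2 ?_ hm)
    rw [← commutatorElement_inv y1 u0]
    exact inv_mem hb
  refine ⟨y0 * y1, mul_mem hy0 hy1, u0, hu0, u1, hu1, ?_, ?_⟩
  · rwa [hbil _ hy0 _ hy1 _ hu0, hb1, mul_one]
  · rwa [hbil _ hy0 _ hy1 _ hu0, hb1, mul_one, hbil _ hy0 _ hy1 _ hu1, ha1, one_mul]

variable {P : Pair p S} {Z V : Subgroup S}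

theorem Setting.invA_V (h : Setting P Z V) (hp2 : p ≠ 2) (hS : IsPGroup p S)
    (hr : Cfsg.SectionalPRankLE p 3 S) : P.A.Inv V := by
  have hVA : V ≤ P.A.E := h.leW.trans inf_le_left
  obtain ⟨hU, hVU, -⟩ := P.A.inv_orbit hVA
  haveI := h.invA.normal
  haveI := h.invB.normal
  haveI := hU.normal
  rcases eq_or_lt_of_le hVU with e | hlt
  · exact e ▸ hU
  exfalso
  have hgen : ∀ g ∈ P.A.G, ∀ k ∈ P.A.G, ∀ x ∈ V, ∀ y ∈ V, ⁅act P.A g x, act P.A k y⁆ ∈ Z := by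
    have hone : ∀ k ∈ P.A.G, ∀ x ∈ V, ∀ y ∈ V, ⁅x, act P.A k y⁆ ∈ Z := by
      intro k hk x hx y hy
      by_contra hcZ
      obtain ⟨c, hc⟩ : ∃ c, c = ⁅x, act P.A k y⁆ := ⟨_, rfl⟩
      rw [← hc] at hcZ
      have hcV : c ∈ V := by
        rw [hc, commutatorElement_def, mul_assoc x, mul_assoc x]
        exact mul_mem hx (h.invB.normal.conj_mem _ (inv_mem hx) _)
      have hky : act P.A k y ∈ P.A.E := act_mem k (hVA hy)
      have hkc : act P.A k⁻¹ c = ⁅act P.A k⁻¹ x, y⁆ := by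
        rw [hc, act_commutator k⁻¹ (hVA hx) hky, act_inv_act k (hVA hy)]
      let D : Subgroup S :=
        { carrier := {w | w ∈ V ∧ act P.A k⁻¹ w ∈ V}
          one_mem' := ⟨one_mem _, by rw [act_one]; exact one_mem _⟩
          mul_mem' := fun {a b} ha hb => ⟨mul_mem ha.1 hb.1, by
            rw [act_mul _ (hVA ha.1) (hVA hb.1)]; exact mul_mem ha.2 hb.2⟩
          inv_mem' := fun {a} ha => ⟨inv_mem ha.1, by rw [act_inv _ (hVA ha.1)]; exact inv_mem ha.2⟩ }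
      have hle : Z ⊔ zpowers c ≤ D := sup_le
        (fun z hz => ⟨h.le hz, h.le (act_mem_of_inv h.invA (inv_mem hk) hz)⟩)
        (zpowers_le.2 ⟨hcV, by
          rw [hkc, commutatorElement_def]
          exact mul_mem (h.invB.normal.conj_mem _ hy _) (inv_mem hy)⟩)
      have hD : Z ⊔ zpowers c = V := by
        refine eq_of_card_lt hS (hle.trans fun w hw => hw.1) ?_
        have h2 := card_mul_le hS (lt_sup_zpowers hcZ)
        rw [h.cardZ] at h2
        rw [h.cardV]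
        have := hp.out.two_le
        have : 0 < p ^ 2 := pow_pos hp.out.pos 2
        nlinarith
      have hx2 : act P.A k⁻¹ x ∈ V := (hle (hD.symm ▸ hx)).2
      rw [commutatorElement_eq_one_iff_commute.2 (h.comm _ hx2 y hy)] at hkc
      apply hcZ
      have h1 := congrArg (act P.A k) hkc
      rw [act_one, ← act_comp _ _ (hVA hcV), mul_inv_cancel, act_one' (hVA hcV)] at h1
      rw [h1]; exact one_mem _
    intro g hg k hk x hx y hy
    have h1 := act_mem_of_inv h.invA hg (hone (g⁻¹ * k) (mul_mem (inv_mem hg) hk) x hx y hy)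
    rwa [act_commutator g (hVA hx) (act_mem _ (hVA hy)), ← act_comp _ _ (hVA hy),
      mul_inv_cancel_left] at h1
  have hUc : ∀ u ∈ P.A.orbit V, ∀ v ∈ P.A.orbit V, ⁅u, v⁆ ∈ Z := by
    refine comm_mem_closure ?_
    rintro _ ⟨g, hg, x, hx, rfl⟩ _ ⟨k, hk, y, hy, rfl⟩
    rw [← act_coe, ← act_coe]
    exact hgen g hg k hk x hx y hy
  have hUA : P.A.orbit V ≤ P.A.E := hU.1
  have hzp : ∀ z ∈ Z, z ^ p = 1 := fun z hz => h.expV z (h.le hz)
  have hcz : ∀ z ∈ Z, ∀ u ∈ P.A.orbit V, Commute z u := fun z hz u hu => h.cen z hz u (hUA hu)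
  have hexp : ∀ u ∈ P.A.orbit V, u ^ p = 1 := by
    have hcl : ∀ x y : P.A.orbit V, ⁅x, y⁆ ∈ center (P.A.orbit V) := fun x y =>
      mem_center_iff.2 fun w => Subtype.ext (hcz _ (hUc x x.2 y y.2) w w.2).eq.symm
    intro u hu
    have : ∀ v : P.A.orbit V, (v : S) ∈ P.A.orbit V → v ^ p = 1 := by
      intro v hv
      have hm : v ∈ Subgroup.closure {w : P.A.orbit V | w ^ p = 1} := by
        have hle : P.A.orbit V ≤ (Subgroup.closure {w : P.A.orbit V | w ^ p = 1}).map (P.A.orbit V).subtype := by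
          refine (Subgroup.closure_le _).2 ?_
          rintro _ ⟨g, hg, x, hx, rfl⟩
          refine ⟨⟨((g x : P.A.E) : S), Subgroup.subset_closure ⟨g, hg, x, hx, rfl⟩⟩,
            Subgroup.subset_closure (Subtype.ext ?_), rfl⟩
          show ((g x : P.A.E) : S) ^ p = 1
          rw [← SubmonoidClass.coe_pow, ← map_pow, show x ^ p = 1 from Subtype.ext (h.expV x hx), map_one]
          rfl
        obtain ⟨w, hw, e⟩ := hle hv
        rwa [← show w = v from Subtype.ext e]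
      exact CfsgLib.Transfer.pow_eq_one_of_mem_closure_class_two hp.out hp2 hcl hm
    exact congrArg Subtype.val (this ⟨u, hu⟩ hu)
  have hnonab : ∃ u ∈ P.A.orbit V, ∃ v ∈ P.A.orbit V, ⁅u, v⁆ ≠ 1 := by
    by_contra hcon
    push Not at hcon
    have h2 := card_le_cube hr (fun a ha b hb => commutatorElement_eq_one_iff_commute.1 (hcon a ha b hb)) hexp
    have h3 := card_mul_le hS hlt
    rw [h.cardV] at h3
    have := hp.out.two_le
    have : 0 < p ^ 3 := pow_pos hp.out.pos 3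
    nlinarith
  have h1 : ∀ w, ¬ ∀ x ∈ P.A.orbit V, ∀ y ∈ P.A.orbit V, ⁅x, y⁆ ∈ zpowers w := by
    intro w hw
    obtain ⟨u, hu, v, hv, hne⟩ := hnonab
    have hcyc : ∀ x ∈ P.A.orbit V, ∀ y ∈ P.A.orbit V, ⁅x, y⁆ ∈ zpowers ⁅u, v⁆ := by
      intro x hx y hy
      obtain ⟨i, hi⟩ := mem_zpowers_iff.1 (hw x hx y hy)
      obtain ⟨j, hj⟩ := mem_zpowers_iff.1 (hw u hu v hv)
      have hle : zpowers ⁅u, v⁆ ≤ Z := zpowers_le.2 (hUc u hu v hv)
      by_contra hn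
      have hcl : IsCyclic (zpowers w) := inferInstance
      have e1 : zpowers ⁅u, v⁆ ≤ zpowers w := zpowers_le.2 (hw u hu v hv)
      have e2 : zpowers ⁅x, y⁆ ≤ zpowers w := zpowers_le.2 (hw x hx y hy)
      have o1 : orderOf ⁅u, v⁆ = p := orderOf_eq_prime (hzp _ (hUc u hu v hv)) hne
      have o2 : orderOf ⁅x, y⁆ = p := orderOf_eq_prime (hzp _ (hUc x hx y hy)) fun e => hn (e ▸ one_mem _)
      have := TwoNonab.subgroup_eq_of_card (S := zpowers w)
        (H := (zpowers ⁅u, v⁆).subgroupOf _) (K := (zpowers ⁅x, y⁆).subgroupOf _)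
        (by rw [Nat.card_congr (Subgroup.subgroupOfEquivOfLe e1).toEquiv,
          Nat.card_congr (Subgroup.subgroupOfEquivOfLe e2).toEquiv, Nat.card_zpowers, Nat.card_zpowers, o1, o2])
      have h4 : (⟨⁅x, y⁆, hw x hx y hy⟩ : zpowers w) ∈ (zpowers ⁅u, v⁆).subgroupOf _ := by
        rw [this]; exact mem_zpowers _
      exact hn h4
    let T : Set S := {c | ∃ x ∈ P.A.orbit V, ∃ y ∈ P.A.orbit V, ⁅x, y⁆ = c}
    have hT : T ⊆ P.A.E := by
      rintro _ ⟨x, hx, y, hy, rfl⟩; exact h.invA.1 (hUc x hx y hy)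
    have hTinv : P.A.Inv (Subgroup.closure T) := TwoNonab.inv_closure hT (by
      rintro g hg _ ⟨x, hx, y, hy, rfl⟩
      refine Subgroup.subset_closure ⟨_, act_mem_of_inv hU hg hx, _, act_mem_of_inv hU hg hy, ?_⟩
      rw [act_commutator g (hUA hx) (hUA hy)])
    haveI := hTinv.normal
    have hoz : oz p S ≤ Subgroup.closure T := h.oz_le_of_normal hS fun e =>
      hne (mem_bot.1 (e ▸ Subgroup.subset_closure ⟨u, hu, v, hv, rfl⟩))
    have hZle : Z ≤ zpowers ⁅u, v⁆ := (h.minA _ hTinv hoz).trans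
      ((Subgroup.closure_le _).2 (by rintro _ ⟨x, hx, y, hy, rfl⟩; exact hcyc x hx y hy))
    have := Subgroup.card_le_of_le hZle
    rw [Nat.card_zpowers, orderOf_eq_prime (hzp _ (hUc u hu v hv)) hne, h.cardZ, sq] at this
    have := hp.out.two_le
    nlinarith
  have hbil : ∀ x ∈ P.A.orbit V, ∀ y ∈ P.A.orbit V, ∀ z ∈ P.A.orbit V,
      ⁅x * y, z⁆ = ⁅x, z⁆ * ⁅y, z⁆ := fun x hx y hy z hz => by
    rw [RankThree.comm_mul_left (hcz _ (hUc y hy z hz) x hx).symm]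
    exact h.cen _ (hUc y hy z hz) _ (h.invA.1 (hUc x hx z hz))
  have hbilr : ∀ x ∈ P.A.orbit V, ∀ y ∈ P.A.orbit V, ∀ z ∈ P.A.orbit V,
      ⁅x, y * z⁆ = ⁅x, y⁆ * ⁅x, z⁆ := fun x hx y hy z hz =>
    RankThree.comm_mul_right (hcz _ (hUc x hx z hz) y hy).symm
  obtain ⟨y, hy, u, hu, v, hv, hne, hind⟩ := exists_triple (p := p) hbil
    (fun a ha b hb => hzp _ (hUc a ha b hb)) h1
  have hcm : ∀ {a b : S}, a ∈ Z → b ∈ Z → Commute a b := fun ha hb => h.comm _ (h.le ha) _ (h.le hb)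
  have hc1 := hUc y hy u hu
  have hc2 := hUc y hy v hv
  let D : Subgroup S :=
    { carrier := {x | ∃ i j : ℤ, x = ⁅y, u⁆ ^ i * ⁅y, v⁆ ^ j}
      one_mem' := ⟨0, 0, by simp⟩
      mul_mem' := by
        rintro _ _ ⟨i, j, rfl⟩ ⟨k, l, rfl⟩
        refine ⟨i + k, j + l, ?_⟩
        rw [zpow_add, zpow_add]
        exact (((hcm hc1 hc2).zpow_zpow k j).symm.mul_mul_mul_comm _ _)
      inv_mem' := by
        rintro _ ⟨i, j, rfl⟩
        refine ⟨-i, -j, ?_⟩
        rw [mul_inv_rev, zpow_neg, zpow_neg]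
        exact ((hcm hc1 hc2).zpow_zpow i j).symm.inv_inv.eq }
  have hsup : zpowers ⁅y, u⁆ ⊔ zpowers ⁅y, v⁆ = Z := by
    refine eq_of_card_lt hS (sup_le (zpowers_le.2 hc1) (zpowers_le.2 hc2)) ?_
    have h2 := card_mul_le hS (lt_sup_zpowers hind)
    rw [Nat.card_zpowers, orderOf_eq_prime (hzp _ hc1) hne] at h2
    rw [h.cardZ, sq]
    have := hp.out.two_le
    nlinarith
  have hZD : Z ≤ D := hsup ▸ sup_le (zpowers_le.2 ⟨1, 0, by simp⟩) (zpowers_le.2 ⟨0, 1, by simp⟩)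
  obtain ⟨i, j, hij⟩ := hZD (hUc u hu v hv)
  obtain ⟨a, ha⟩ : ⁅y, u⁆ ^ i ∈ Submonoid.powers ⁅y, u⁆ :=
    mem_powers_iff_mem_zpowers.2 (zpow_mem (mem_zpowers _) i)
  obtain ⟨b, hb⟩ : ⁅y, v⁆ ^ j ∈ Submonoid.powers ⁅y, v⁆ :=
    mem_powers_iff_mem_zpowers.2 (zpow_mem (mem_zpowers _) j)
  dsimp only at ha hb
  rw [← ha, ← hb] at hij
  have hyy : ∀ n : ℕ, ⁅y, y ^ n⁆ = 1 := fun n =>
    commutatorElement_eq_one_iff_commute.2 ((Commute.refl y).pow_right n)
  have hu' : u * y ^ ((p - 1) * b) ∈ P.A.orbit V := mul_mem hu (pow_mem hy _)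
  have hv' : v * y ^ a ∈ P.A.orbit V := mul_mem hv (pow_mem hy _)
  have hpw : ∀ w ∈ P.A.orbit V, ∀ n : ℕ, ⁅w, y ^ n⁆ = ⁅w, y⁆ ^ n := fun w hw n =>
    RankThree.comm_pow_right (hcz _ (hUc w hw y hy) y hy).symm n
  have hpw' : ∀ w ∈ P.A.orbit V, ∀ n : ℕ, ⁅y ^ n, w⁆ = ⁅y, w⁆ ^ n := fun w hw n =>
    RankThree.comm_pow_left (hcz _ (hUc y hy w hw) y hy).symm n
  have hcomm : ⁅u * y ^ ((p - 1) * b), v * y ^ a⁆ = 1 := by
    rw [hbilr _ hu' _ hv _ (pow_mem hy a), hbil _ hu _ (pow_mem hy _) _ hv,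
      hbil _ hu _ (pow_mem hy _) _ (pow_mem hy a),
      commutatorElement_eq_one_iff_commute.2 ((Commute.refl y).pow_pow _ a), mul_one,
      hpw u hu, hpw' v hv, ← commutatorElement_inv y u, inv_pow, hij,
      mul_assoc (⁅y, u⁆ ^ a) (⁅y, v⁆ ^ b), ← pow_add,
      show b + (p - 1) * b = p * b by
        rw [Nat.sub_mul, one_mul, Nat.add_sub_cancel' (Nat.le_mul_of_pos_left b hp.out.pos)],
      pow_mul, hzp _ hc2, one_pow, mul_one, mul_inv_cancel]
  have hyu : ⁅y, u * y ^ ((p - 1) * b)⁆ = ⁅y, u⁆ := by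
    rw [hbilr _ hy _ hu _ (pow_mem hy _), hyy, mul_one]
  have hyv : ⁅y, v * y ^ a⁆ = ⁅y, v⁆ := by rw [hbilr _ hy _ hv _ (pow_mem hy _), hyy, mul_one]
  generalize u * y ^ ((p - 1) * b) = u' at hu' hcomm hyu
  generalize v * y ^ a = v' at hv' hcomm hyv
  have hu'Z : u' ∉ Z := fun hz => hne (hyu ▸ commutatorElement_eq_one_iff_commute.2
    (show Commute y u' from (hcz u' hz y hy).symm))
  have hv'Z : v' ∉ Z ⊔ zpowers u' := by
    intro hm
    let C : Subgroup S :=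
      { carrier := {m | m ∈ P.A.orbit V ∧ ⁅y, m⁆ ∈ zpowers ⁅y, u⁆}
        one_mem' := ⟨one_mem _, by simp⟩
        mul_mem' := fun {x z} hx hz => ⟨mul_mem hx.1 hz.1, by
          rw [hbilr _ hy _ hx.1 _ hz.1]; exact mul_mem hx.2 hz.2⟩
        inv_mem' := fun {x} hx => ⟨inv_mem hx.1, by
          have e := hbilr _ hy _ hx.1 _ (inv_mem hx.1)
          rw [mul_inv_cancel, commutatorElement_one_right, eq_comm, mul_eq_one_iff_eq_inv'] at e
          rw [e]; exact inv_mem hx.2⟩ }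
    have hle : Z ⊔ zpowers u' ≤ C := sup_le (fun z hz => ⟨hVU (h.le hz), by
      rw [commutatorElement_eq_one_iff_commute.2 (hcz z hz y hy).symm]; exact one_mem _⟩)
      (zpowers_le.2 ⟨hu', by rw [hyu]; exact mem_zpowers _⟩)
    exact hind (hyv ▸ (hle hm).2)
  have hsup2 : Z ⊔ zpowers u' ⊔ zpowers v' ≤ P.A.orbit V :=
    sup_le (sup_le (h.le.trans hVU) (zpowers_le.2 hu')) (zpowers_le.2 hv')
  have hab : ∀ a ∈ Z ⊔ zpowers u' ⊔ zpowers v', ∀ b ∈ Z ⊔ zpowers u' ⊔ zpowers v', Commute a b := by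
    have hle : Z ⊔ zpowers u' ⊔ zpowers v' ≤ Subgroup.closure ((Z : Set S) ∪ {u', v'}) :=
      sup_le (sup_le (fun z hz => Subgroup.subset_closure (Or.inl hz))
        (zpowers_le.2 (Subgroup.subset_closure (Or.inr (Or.inl rfl)))))
        (zpowers_le.2 (Subgroup.subset_closure (Or.inr (Or.inr rfl))))
    intro a ha b hb
    refine commutatorElement_eq_one_iff_commute.1 (mem_bot.1 (comm_mem_closure ?_ a (hle ha) b (hle hb)))
    have k1 : ∀ a ∈ Z, ∀ b ∈ (Z : Set S) ∪ {u', v'}, Commute a b := by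
      intro x hx w hw
      rcases hw with hw | hw | hw
      · exact hcm hx hw
      · exact hw ▸ hcz x hx _ hu'
      · exact (show w = v' from hw) ▸ hcz x hx _ hv'
    intro x hx w hw
    rw [mem_bot, commutatorElement_eq_one_iff_commute]
    have hc := commutatorElement_eq_one_iff_commute.1 hcomm
    rcases hx with hx | hx | hx
    · exact k1 x hx w hw
    · rcases hw with hw | hw | hw
      · exact (k1 w hw x (Or.inr (Or.inl hx))).symm
      · rw [hx, hw]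
      · rw [hx, show w = v' from hw]; exact hc
    · rcases hw with hw | hw | hw
      · exact (k1 w hw x (Or.inr (Or.inr hx))).symm
      · rw [hw, show x = v' from hx]; exact hc.symm
      · rw [show x = v' from hx, show w = v' from hw]
  have h4 := card_le_cube hr hab fun a ha => hexp a (hsup2 ha)
  have h5 := card_mul_le hS (lt_sup_zpowers hu'Z)
  have h6 := card_mul_le hS (lt_sup_zpowers hv'Z)
  rw [h.cardZ] at h5
  have := hp.out.two_le
  have : 0 < p ^ 3 := pow_pos hp.out.pos 3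
  nlinarith [pow_succ' p 2]

end CfsgLib.RankThreePair.TwoAb
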