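import Cfsg.Agent.Lib.RankThreePair.Tools

/-!
Quotients of pairs.
-/

set_option autoImplicit false
set_option linter.style.haveILetI false
set_option linter.unusedSectionVars false

namespace CfsgLib.RankThreePair

open Subgroup
open scoped commutatorElement

variable {S T : Type*} [Group S] [Finite S] [Group T] [Finite T] {p : ℕ} [hp : Fact p.Prime]

theorem Side.exists_map (A : Side p S) (hpS : IsPGroup p S) (q : S →* T) (hq : Function.Surjective q)
    (hk : A.Inv q.ker) (hv : ∃ g ∈ A.M, (orderOf g).Coprime p ∧ ¬ A.Fixes g A.E q.ker) :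
    ∃ A' : Side p T, SideMap q A A' := by
  set E' := A.E.map q with hE'
  have hEn : E'.Normal := A.normal.map q hq
  let π : A.E →* E' := q.subgroupMap A.E
  have hπs : Function.Surjective π := q.subgroupMap_surjective A.E
  have hπ : ∀ x : A.E, π x = 1 ↔ (x : S) ∈ q.ker := fun x =>
    ⟨fun h => MonoidHom.mem_ker.2 (congrArg Subtype.val h), fun h => Subtype.ext (MonoidHom.mem_ker.1 h)⟩
  obtain ⟨ρ, hρ⟩ := exists_push π hπs A.G (fun g hg x hx => (hπ _).2 (hk.2 g hg x ((hπ x).1 hx)))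
  have hρ' : ∀ (g : A.G) (x : A.E) (x' : E'), q (x : S) = x' →
      q (((g : MulAut A.E) x : A.E) : S) = ((ρ g x' : E') : T) := by
    intro g x x' hx
    rw [← show π x = x' from Subtype.ext hx, hρ]
    rfl
  let t : S →* A.G := A.cj.codRestrict A.G A.cj_mem
  have hcj : ∀ s, ρ (t s) = conjOf E' hEn (q s) := fun s => MulEquiv.ext fun x' => by
    obtain ⟨x, rfl⟩ := hπs x'
    rw [hρ]
    refine Subtype.ext ?_
    rw [conjOf_apply]
    show q ((A.cj s x : A.E) : S) = _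
    rw [Side.cj_apply, map_mul, map_mul, map_inv]
    rfl
  have hrange : (conjOf E' hEn).range = t.range.map ρ := by
    ext m
    constructor
    · rintro ⟨τ, rfl⟩
      obtain ⟨s, rfl⟩ := hq τ
      exact ⟨t s, ⟨s, rfl⟩, hcj s⟩
    · rintro ⟨_, ⟨s, rfl⟩, rfl⟩
      exact ⟨q s, (hcj s).symm⟩
  have hle : (conjOf E' hEn).range ≤ ρ.range := by rw [hrange]; exact map_le_range _ _
  have hsyl : ¬ p ∣ (conjOf E' hEn).range.relIndex ρ.range := by
    intro hd
    refine A.sylow (hd.trans ?_)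
    rw [hrange, MonoidHom.range_eq_map ρ, Subgroup.relIndex_map_map, top_sup_eq, relIndex_top_right]
    refine (Subgroup.index_dvd_of_le le_sup_left).trans (dvd_of_eq ?_)
    show t.range.index = (A.cj.range.subgroupOf A.G).index
    congr 1
    ext y
    exact ⟨fun ⟨s, hs⟩ => ⟨s, congrArg Subtype.val hs⟩, fun ⟨s, hs⟩ => ⟨s, Subtype.ext hs⟩⟩
  have hnn : ¬ ((conjOf E' hEn).range.subgroupOf ρ.range).Normal := by
    intro hN
    obtain ⟨g, hg, hgp, hgf⟩ := hv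
    -- the preimage of the induced maps contains `M`
    set Y : Subgroup A.G := (conjOf E' hEn).range.comap ρ with hY
    have hYn : A.NormalIn (Y.map A.G.subtype) := by
      rintro a ha _ ⟨k, hk', rfl⟩
      refine ⟨⟨a, ha⟩ * k * ⟨a, ha⟩⁻¹, ?_, rfl⟩
      show ρ (⟨a, ha⟩ * k * ⟨a, ha⟩⁻¹) ∈ (conjOf E' hEn).range
      rw [map_mul, map_mul, map_inv]
      exact hN.conj_mem ⟨ρ k, ⟨k, rfl⟩⟩ hk' ⟨ρ ⟨a, ha⟩, ⟨⟨a, ha⟩, rfl⟩⟩
    obtain ⟨k, hk', hkg⟩ := A.M_le_of_normalIn hYn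
      (fun s => ⟨t s, ⟨q s, (hcj s).symm⟩, rfl⟩) hg
    obtain ⟨τ, hτ⟩ : ρ k ∈ (conjOf E' hEn).range := hk'
    obtain ⟨s, rfl⟩ := hq τ
    have hord : orderOf (ρ k) ∣ orderOf g := by
      rw [← hkg, Subgroup.coe_subtype, Subgroup.orderOf_coe]
      exact orderOf_map_dvd _ _
    refine hgf fun x hx => MonoidHom.mem_ker.2 ?_
    have h1 : ρ k = 1 := by
      -- a `p`-element of order prime to `p`
      by_contra hne
      obtain ⟨j, hj⟩ := (hpS.of_surjective q hq).of_surjective (conjOf E' hEn).rangeRestrict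
        (conjOf E' hEn).rangeRestrict_surjective ⟨ρ k, q s, hτ⟩
      have h2 : orderOf (ρ k) ∣ p ^ j := orderOf_dvd_of_pow_eq_one (congrArg Subtype.val hj)
      exact hne (orderOf_eq_one_iff.1
        (Nat.eq_one_of_dvd_coprimes (Nat.Coprime.pow_right j hgp) hord h2))
    rw [map_mul, map_inv, inv_mul_eq_one]
    have h3 := hρ' k x ⟨q x, ⟨x, hx, rfl⟩⟩ rfl
    rw [h1] at h3
    rw [show g = (k : MulAut A.E) from hkg.symm]
    exact h3.symm
  have hidx : E'.index = p := by rw [hE', Subgroup.index_map_eq _ hq hk.1, A.index]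
  have hcent : Subgroup.centralizer (E' : Set T) ≤ E' := by
    intro τ hτ
    by_contra hτE
    have htop : E' ⊔ Subgroup.zpowers τ = ⊤ := by
      have h1 := Subgroup.relIndex_mul_index (le_sup_left : E' ≤ E' ⊔ Subgroup.zpowers τ)
      rw [hidx] at h1
      rcases (Nat.dvd_prime hp.out).1 (Dvd.intro _ ((mul_comm _ _).trans h1)) with h | h
      · exact Subgroup.index_eq_one.1 h
      · rw [h, Nat.mul_eq_right hp.out.ne_zero, relIndex_eq_one] at h1
        exact absurd (h1 (Subgroup.mem_sup_right (Subgroup.mem_zpowers τ))) hτE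
    have hker : τ ∈ (conjOf E' hEn).ker := MonoidHom.mem_ker.2 (MulEquiv.ext fun x => Subtype.ext (by
      rw [conjOf_apply, ← hτ x x.2, mul_inv_cancel_right]; rfl))
    refine hnn ⟨fun m hm α => ?_⟩
    obtain ⟨σ, hσ⟩ := hm
    have hσ' : σ ∈ E' ⊔ Subgroup.zpowers τ := htop ▸ mem_top _
    haveI := hEn
    obtain ⟨e, he, z, hz, rfl⟩ := Subgroup.mem_sup_of_normal_left.1 hσ'
    have hz1 : conjOf E' hEn z = 1 := MonoidHom.mem_ker.1 ((Subgroup.zpowers_le.2 hker) hz)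
    rw [map_mul, hz1, mul_one] at hσ
    refine ⟨((α : MulAut E') ⟨e, he⟩ : E'), MulEquiv.ext fun x => Subtype.ext ?_⟩
    rw [conjOf_apply]
    show _ = (((α : MulAut E') * m * (α : MulAut E')⁻¹) x : T)
    rw [show (m : MulAut E') = conjOf E' hEn e from hσ.symm]
    have h2 : conjOf E' hEn e ((α : MulAut E')⁻¹ x) = ⟨e, he⟩ * (α : MulAut E')⁻¹ x * ⟨e, he⟩⁻¹ :=
      Subtype.ext (conjOf_apply hEn e _)
    rw [MulAut.mul_apply, MulAut.mul_apply, h2, map_mul, map_mul, map_inv, MulAut.apply_inv_self]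
    rfl
  let A' : Side p T := ⟨E', hEn, hidx, hcent, ρ.range, hle, hsyl, hnn⟩
  refine ⟨A', rfl, fun g hg => ⟨ρ ⟨g, hg⟩, ⟨_, rfl⟩, hρ' ⟨g, hg⟩⟩, ?_, fun g hg hgp => ?_⟩
  · rintro _ ⟨g, rfl⟩
    exact ⟨g, g.2, hρ' g⟩
  · have hsub : A.M ≤ (A'.M.comap ρ).map A.G.subtype := A.M_le_of_normalIn (by
      rintro a ha _ ⟨k, hk', rfl⟩
      refine ⟨⟨a, ha⟩ * k * ⟨a, ha⟩⁻¹, ?_, rfl⟩
      show ρ (⟨a, ha⟩ * k * ⟨a, ha⟩⁻¹) ∈ A'.M
      rw [map_mul, map_mul, map_inv]
      exact A'.M_conj ⟨_, rfl⟩ hk') fun s => ⟨t s, by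
        show ρ (t s) ∈ A'.M
        rw [hcj]
        exact A'.cj_mem_M (q s), rfl⟩
    obtain ⟨k, hk', rfl⟩ := hsub hg
    refine ⟨ρ k, hk', ?_, hρ' k⟩
    rw [Subgroup.coe_subtype, Subgroup.orderOf_coe] at hgp
    exact hgp.coprime_dvd_left (orderOf_map_dvd _ _)

/-- The quotient pair. -/
theorem Pair.exists_quot (hS : IsPGroup p S) (P : Pair p S) (N : Subgroup S) [N.Normal] (hNW : N ≤ P.W)
    (hA : P.A.Inv N) (hB : P.B.Inv N)
    (hvA : ∃ g ∈ P.A.M, (orderOf g).Coprime p ∧ ¬ P.A.Fixes g P.A.E N)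
    (hvB : ∃ g ∈ P.B.M, (orderOf g).Coprime p ∧ ¬ P.B.Fixes g P.B.E N) :
    ∃ P' : Pair p (S ⧸ N), SideMap (QuotientGroup.mk' N) P.A P'.A ∧
      SideMap (QuotientGroup.mk' N) P.B P'.B := by
  have hk : (QuotientGroup.mk' N).ker = N := QuotientGroup.ker_mk' N
  obtain ⟨A', hA'⟩ := P.A.exists_map hS (QuotientGroup.mk' N) (QuotientGroup.mk'_surjective N)
    (by rw [hk]; exact hA) (by rw [hk]; exact hvA)
  obtain ⟨B', hB'⟩ := P.B.exists_map hS (QuotientGroup.mk' N) (QuotientGroup.mk'_surjective N)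
    (by rw [hk]; exact hB) (by rw [hk]; exact hvB)
  refine ⟨⟨A', B', fun h => P.ne ?_⟩, hA', hB'⟩
  have h1 : ∀ {E : Subgroup S}, N ≤ E → (E.map (QuotientGroup.mk' N)).comap (QuotientGroup.mk' N) = E :=
    fun hE => by rw [Subgroup.comap_map_eq, hk, sup_eq_left.2 hE]
  rw [← h1 (hNW.trans inf_le_left), ← h1 (hNW.trans inf_le_right), hA'.map_E, hB'.map_E, h]

end CfsgLib.RankThreePair
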