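import Cfsg.Agent.Lib.RankThreePair.CaseTwoAbBase
import Cfsg.Agent.Lib.RankThreePair.Quot

/-!
The moved `Ω₁(Z(S))` generates a subgroup invariant on both sides: impossible.
-/

set_option autoImplicit false
set_option linter.unusedSectionVars false
set_option linter.style.haveILetI false

namespace CfsgLib.RankThreePair.TwoAb

open Subgroup
open scoped commutatorElement

universe u

variable {S : Type u} [Group S] [Finite S] {p : ℕ} [hp : Fact p.Prime]

/-- Only the maximal subgroup centralises the moved subgroup. -/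
theorem mem_of_cent (A : Side p S) (hmv : ¬ A.Inv (oz p S)) {s : S}
    (h : ∀ x ∈ A.orbit (oz p S), x * s = s * x) : s ∈ A.E := by
  by_contra hs
  obtain ⟨-, hcen, hfix, -⟩ := A.z1_facts hmv
  obtain ⟨hO, hle, -⟩ := A.inv_orbit A.oz_le
  haveI := A.normal
  refine hmv ?_
  have : A.orbit (oz p S) = oz p S := le_antisymm (fun x hx => hfix x hx fun y => by
    obtain ⟨i, e, he, rfl⟩ := exists_pow_mul_index A.index hs y
    exact ((show Commute x s from h x hx).pow_right i).mul_right (hcen x hx e he)) hle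
  rwa [this] at hO

theorem W_relIndex (P : Pair p S) : P.W.relIndex P.B.E ≤ p := by
  haveI := P.A.normal
  rw [Pair.W, inf_relIndex_right]
  have h := relIndex_dvd_index_of_normal P.A.E P.B.E
  rw [P.A.index] at h
  exact Nat.le_of_dvd hp.out.pos h

theorem exists_outside (P : Pair p S) : ∃ a ∈ P.B.E, a ∉ P.A.E := by
  by_contra h
  push Not at h
  refine P.ne ?_
  by_contra hne
  exact P.A.ne_top (eq_of_index_lt P.B.index (lt_of_le_of_ne h (Ne.symm hne)))

/-- The intersection in a quotient. -/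
theorem W_quot {P : Pair p S} {N : Subgroup S} [N.Normal] (hN : N ≤ P.W) {P' : Pair p (S ⧸ N)}
    (hA : SideMap (QuotientGroup.mk' N) P.A P'.A) (hB : SideMap (QuotientGroup.mk' N) P.B P'.B) :
    P'.W = P.W.map (QuotientGroup.mk' N) := by
  refine le_antisymm (fun y hy => ?_) (le_inf ?_ ?_)
  · have h1 : y ∈ P'.A.E := hy.1
    have h2 : y ∈ P'.B.E := hy.2
    rw [← hA.map_E] at h1
    rw [← hB.map_E] at h2
    obtain ⟨a, ha, rfl⟩ := h1
    obtain ⟨b, hb, e⟩ := h2
    have hd : b⁻¹ * a ∈ N := QuotientGroup.eq.1 e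
    refine ⟨a, ⟨ha, ?_⟩, rfl⟩
    have := mul_mem hb ((hN hd).2)
    rwa [mul_inv_cancel_left] at this
  · rw [← hA.map_E]; exact map_mono inf_le_left
  · rw [← hB.map_E]; exact map_mono inf_le_right

theorem card_quot_lt {N : Subgroup S} [N.Normal] (hN : N ≠ ⊥) : Nat.card (S ⧸ N) < Nat.card S := by
  rw [Subgroup.card_eq_card_quotient_mul_card_subgroup N]
  exact lt_mul_of_one_lt_right Nat.card_pos ((Subgroup.one_lt_card_iff_ne_bot N).2 hN)

theorem good_quot (hS : IsPGroup p S) (hr : Cfsg.SectionalPRankLE p 3 S) (hyp : Hyp.{u} p (Nat.card S))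
    {N : Subgroup S} [N.Normal] (hN : N ≠ ⊥) (P' : Pair p (S ⧸ N)) : P'.Good :=
  hyp (S ⧸ N) (hS.to_quotient N) (CfsgLib.Invol.sectional_quotient N hr) (card_quot_lt hN) P'

/-- The images of invariant subgroups are invariant. -/
theorem inv_map {A : Side p S} {N : Subgroup S} [N.Normal] {A' : Side p (S ⧸ N)}
    (hA : SideMap (QuotientGroup.mk' N) A A') {K : Subgroup S} (hK : A.Inv K) :
    A'.Inv (K.map (QuotientGroup.mk' N)) := by
  refine ⟨hA.map_E ▸ map_mono hK.1, fun g' hg' x' hx' => ?_⟩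
  obtain ⟨x, hx, e⟩ := hx'
  obtain ⟨g, hg, hgx⟩ := hA.pull g' hg'
  exact ⟨_, hK.2 g hg ⟨x, hK.1 hx⟩ hx, hgx ⟨x, hK.1 hx⟩ x' e⟩

/-- **The first case.** -/
theorem false_of_inv (hS : IsPGroup p S) (hr : Cfsg.SectionalPRankLE p 3 S)
    (hyp : Hyp.{u} p (Nat.card S)) (P : Pair p S) (hmv : ¬ P.A.Inv (oz p S))
    (hle : P.A.orbit (oz p S) ≤ P.B.E) (hB : P.B.Inv (P.A.orbit (oz p S))) : False := by
  obtain ⟨-, hcen, hfix, -⟩ := P.A.z1_facts hmv
  obtain ⟨hO, hozle, -⟩ := P.A.inv_orbit P.A.oz_le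
  have hcent : ∀ s, (∀ x ∈ P.A.orbit (oz p S), x * s = s * x) → s ∈ P.A.E := fun s => mem_of_cent P.A hmv
  generalize hZ : P.A.orbit (oz p S) = Z at *
  haveI := hO.normal
  haveI := P.A.normal
  have hZW : Z ≤ P.W := le_inf hO.1 hle
  have hWeq : P.W = P.B.E ⊓ centralizer (Z : Set S) := by
    refine le_antisymm (fun x hx => ⟨hx.2, fun z hz => hcen z hz x hx.1⟩) fun x hx => ⟨hcent x fun z hz => hx.2 z hz, hx.1⟩
  have hWB : P.B.Inv P.W := hWeq ▸ Side.inv_centralizer hB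
  obtain ⟨a, haB, haA⟩ := exists_outside P
  have hfixZ : ∀ g ∈ P.B.M, (orderOf g).Coprime p → P.B.Fixes g Z ⊥ := fun g hg hgp =>
    fixes_central hS hg hgp _ Z rfl hB fun s x hx => by
      obtain ⟨i, e, he, rfl⟩ := exists_pow_mul_index P.A.index haA s
      refine ⟨a ^ i, pow_mem haB i, ?_⟩
      simp only [commutatorElement_def, mul_inv_rev]
      calc a ^ i * e * x * (e⁻¹ * (a ^ i)⁻¹) * x⁻¹ = a ^ i * (e * x) * e⁻¹ * (a ^ i)⁻¹ * x⁻¹ := by group
        _ = _ := by rw [← hcen x hx e he]; group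
  have hne : Z ≠ P.A.E := fun e => P.B.ne_top <| by
    refine absurd ?_ P.ne
    by_contra hne'
    exact P.B.ne_top (eq_of_index_lt P.A.index (lt_of_le_of_ne ((e.ge.trans hZW).trans inf_le_right) hne'))
  by_cases hvA : ∃ g ∈ P.A.M, (orderOf g).Coprime p ∧ ¬ P.A.Fixes g P.A.E Z
  swap
  · push Not at hvA
    obtain ⟨g, hg, hgp, hg1⟩ := P.A.exists_coprime_M
    obtain ⟨b, hb, hEb⟩ := exists_cyclic_top hS hr P.A hO hne hg hgp (fun h => hg1 (P.A.eq_one_of_fixes h))
      (hvA g hg hgp)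
    have hab : ∀ x ∈ P.W, ∀ y ∈ P.W, Commute x y := by
      have hd : ∀ x ∈ P.A.E, ∃ z ∈ Z, ∃ j : ℤ, x = z * b ^ j := fun x hx => by
        obtain ⟨z, hz, c, hc, rfl⟩ := mem_sup_of_normal_left.1 (hEb hx)
        obtain ⟨j, rfl⟩ := mem_zpowers_iff.1 hc
        exact ⟨z, hz, j, rfl⟩
      intro x hx y hy
      obtain ⟨z, hz, i, rfl⟩ := hd x hx.1
      obtain ⟨w, hw, j, rfl⟩ := hd y hy.1
      have hzb : Commute z b := hcen z hz b hb
      have hwb : Commute w b := hcen w hw b hb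
      have hzw : Commute z w := hcen z hz w (hO.1 hw)
      exact Commute.mul_left (hzw.mul_right (hzb.zpow_right j))
        ((hwb.zpow_right i).symm.mul_right ((Commute.refl b).zpow_zpow i j))
    let Wk : ℕ → Subgroup S := fun k =>
      { carrier := {x | x ∈ P.W ∧ x ^ p ^ k ∈ Z}
        one_mem' := ⟨one_mem _, by rw [one_pow]; exact one_mem _⟩
        mul_mem' := fun {x y} hx hy => ⟨mul_mem hx.1 hy.1, by
          rw [(hab x hx.1 y hy.1).mul_pow]; exact mul_mem hx.2 hy.2⟩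
        inv_mem' := fun {x} hx => ⟨inv_mem hx.1, by rw [inv_pow]; exact inv_mem hx.2⟩ }
    have hWk : ∀ k, P.B.Inv (Wk k) := fun k => ⟨fun x hx => hx.1.2, fun g hg x hx =>
      ⟨hWB.2 g hg x hx.1, by
        have := hB.2 g hg (x ^ p ^ k) hx.2
        rwa [map_pow, SubmonoidClass.coe_pow] at this⟩⟩
    have hstep : ∀ k, ∀ s : S, ∀ x ∈ Wk (k + 1), ⁅s, x⁆ ∈ Wk k := by
      intro k s x hx
      haveI := (hWk k).normal
      haveI := (hWk (k + 1)).normal
      have hmono : Wk k ≤ Wk (k + 1) := fun y hy => ⟨hy.1, by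
        rw [pow_succ, pow_mul]; exact pow_mem hy.2 p⟩
      rcases eq_or_lt_of_le hmono with e | hlt
      · rw [e, commutatorElement_def]
        exact mul_mem (Subgroup.Normal.conj_mem inferInstance x hx s) (inv_mem hx)
      obtain ⟨B0, _, hkB, hB1, hBi, hBc, -⟩ := RankThree.exists_chief_rel hS hlt
      have hB0 : B0 ≤ Wk k := by
        intro y hy
        obtain ⟨c, hc⟩ := (Subgroup.isCyclic_iff_exists_zpowers_eq_top _).1
          (Subgroup.isCyclic_of_le (inf_le_left : zpowers b ⊓ Wk (k + 1) ≤ zpowers b))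
        have hcm : c ∈ Wk (k + 1) := (hc.le (mem_zpowers c)).2
        have hsplit : ∀ u ∈ Wk (k + 1), ∃ w ∈ Wk k, ∃ i : ℕ, u = w * c ^ i := by
          intro u hu
          obtain ⟨z, hz, v, hv, rfl⟩ := mem_sup_of_normal_left.1 (hEb hu.1.1)
          have hzk : z ∈ Wk k := ⟨hZW hz, pow_mem hz _⟩
          have hv' : v ∈ zpowers b ⊓ Wk (k + 1) := ⟨hv, by simpa using mul_mem (inv_mem (hmono hzk)) hu⟩
          rw [← hc, ← mem_powers_iff_mem_zpowers] at hv'
          obtain ⟨i, rfl⟩ := hv'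
          exact ⟨z, hzk, i, rfl⟩
        have hcp : c ^ p ∈ Wk k := ⟨pow_mem hcm.1 p, by
          rw [← pow_mul, ← pow_succ']; exact hcm.2⟩
        by_cases hcB : c ∈ B0
        · exfalso
          have hge : Wk (k + 1) ≤ B0 := fun u hu => by
            obtain ⟨w, hw, i, rfl⟩ := hsplit u hu
            exact mul_mem (hkB hw) (pow_mem hcB i)
          rw [le_antisymm hB1 hge, relIndex_self] at hBi
          exact hp.out.ne_one hBi.symm
        obtain ⟨w, hw, i, rfl⟩ := hsplit y (hB1 hy)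
        obtain ⟨j, rfl⟩ := RankThree.dvd_of_pow_mem (hkB hcp) hcB (by
          simpa using mul_mem (inv_mem (hkB hw)) hy : c ^ i ∈ B0)
        rw [pow_mul]
        exact mul_mem hw (pow_mem hcp j)
      exact hB0 (hBc s x hx)
    obtain ⟨n, hn⟩ := IsPGroup.iff_card.1 hS
    obtain ⟨g, hg, hgp, hg1⟩ := P.B.exists_coprime_M
    have hk : ∀ k, P.B.Fixes g (Wk k) ⊥ := by
      intro k
      induction k with
      | zero => exact fun x hx => hfixZ g hg hgp x (by simpa using hx.2)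
      | succ k ih =>
        exact P.B.fixes_trans hS hgp (Side.fixes_of_comm (hWk (k + 1)) (hWk k) (hstep k) g hg) ih
    haveI := hWB.normal
    haveI := P.B.normal
    have hE : P.B.Fixes g P.B.E P.W := Side.fixes_of_comm P.B.inv_E hWB
      (fun s x hx => comm_mem_of_relIndex hS inf_le_right (W_relIndex P) s hx) g hg
    refine hg1 (P.B.eq_one_of_fixes (P.B.fixes_trans hS hgp hE fun x hx => hk n x ⟨hx, ?_⟩))
    rw [← hn, pow_card_eq_one']
    exact one_mem _
  have hvB : ∃ g ∈ P.B.M, (orderOf g).Coprime p ∧ ¬ P.B.Fixes g P.B.E Z := by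
    obtain ⟨g, hg, hgp, hg1⟩ := P.B.exists_coprime_M
    exact ⟨g, hg, hgp, fun h => hg1 (P.B.eq_one_of_fixes (P.B.fixes_trans hS hgp h (hfixZ g hg hgp)))⟩
  have hZne : Z ≠ ⊥ := by
    intro e
    refine hmv ?_
    rw [le_bot_iff.1 (e ▸ hozle : oz p S ≤ ⊥)]
    exact P.A.inv_bot
  obtain ⟨P', hA', hB'⟩ := P.exists_quot hS Z hZW hO hB hvA hvB
  refine (good_quot hS hr hyp hZne P').ni_B ?_
  rw [W_quot hZW hA' hB']
  exact inv_map hB' hWB

end CfsgLib.RankThreePair.TwoAb
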