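import Cfsg.Agent.Lib.RankThreePair.Defs
import Cfsg.Agent.Lib.RankThree.Basic
import Cfsg.Agent.Lib.StructC.SectionalFour
import Mathlib.GroupTheory.SpecificGroups.Cyclic

/-!
Generic lemmas for the case of two sides with non-commuting images.
-/

set_option autoImplicit false
set_option linter.style.haveILetI false
set_option linter.unusedSectionVars false

namespace CfsgLib.RankThreePair.TwoNonab

open Subgroup
open scoped commutatorElement

section PGroup

variable {S : Type*} [Group S] [Finite S] {p : ℕ} [hp : Fact p.Prime]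

theorem relIndex_prime_of_not_mem (hS : IsPGroup p S) {N H : Subgroup S} {x : S}
    (hx : x ∈ H) (hxN : x ∉ N) : p ∣ N.relIndex H := by
  obtain ⟨n, hn⟩ := IsPGroup.iff_card.1 (hS.to_subgroup H)
  have hd : N.relIndex H ∣ p ^ n := hn ▸ Subgroup.index_dvd_card _
  obtain ⟨k, -, hk⟩ := (Nat.dvd_prime_pow hp.out).1 hd
  have hk0 : k ≠ 0 := fun h => hxN (Subgroup.relIndex_eq_one.1 (by rw [hk, h, pow_zero]) hx)
  rw [hk]
  exact dvd_pow_self p hk0

/-- A cyclic step of prime order is centralised. -/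
theorem comm_mem_of_step (hS : IsPGroup p S) {D A : Subgroup S} [D.Normal] [A.Normal] (hle : D ≤ A)
    {x : S} (hx : x ∈ A) (hxp : x ^ p ∈ D) (hgen : ∀ y ∈ A, ∃ i : ℕ, ∃ e ∈ D, y = x ^ i * e)
    (s : S) {y : S} (hy : y ∈ A) : ⁅s, y⁆ ∈ D := by
  rcases eq_or_lt_of_le hle with h | h
  · subst h
    rw [commutatorElement_def]
    exact mul_mem (‹D.Normal›.conj_mem y hy s) (inv_mem hy)
  obtain ⟨B, hB, hDB, hBA, hidx, hcomm, -⟩ := CfsgLib.RankThree.exists_chief_rel hS h
  have hxB : x ∉ B := fun hxB => by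
    refine hp.out.ne_one (hidx.symm.trans (Subgroup.relIndex_eq_one.2 fun z hz => ?_))
    obtain ⟨i, e, he, rfl⟩ := hgen z hz
    exact mul_mem (pow_mem hxB i) (hDB he)
  obtain ⟨i, e, he, hie⟩ := hgen _ (hBA (hcomm s y hy))
  have hmem := hcomm s y hy
  rw [hie] at hmem ⊢
  have hxi : x ^ i ∈ B := by simpa using mul_mem hmem (inv_mem (hDB he))
  obtain ⟨j, rfl⟩ := CfsgLib.RankThree.dvd_of_pow_mem (hDB hxp) hxB hxi
  rw [pow_mul]
  exact mul_mem (pow_mem hxp j) he

/-- A normal subgroup of index `p` of a `p`-group. -/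
theorem exists_pow_mul_of_index {E : Subgroup S} [E.Normal] (h : E.index = p) {x : S} (hx : x ∉ E)
    (y : S) : ∃ i : ℕ, ∃ e ∈ E, y = x ^ i * e := by
  obtain ⟨i, -, e, he, hy⟩ := CfsgLib.RankThree.exists_pow_mul (B := ⊤)
    (by rw [Subgroup.relIndex_top_right, h]) (mem_top x) hx (mem_top y)
  exact ⟨i, e, he, hy⟩

/-- Joining an element of prime order modulo a normal subgroup. -/
theorem relIndex_sup_zpowers {N : Subgroup S} [N.Normal] {x : S} (hx : x ∉ N) (hxp : x ^ p ∈ N) :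
    N.relIndex (N ⊔ zpowers x) = p := by
  have h := Subgroup.relIndex_ker (K := N ⊔ zpowers x) (QuotientGroup.mk' N)
  rw [QuotientGroup.ker_mk'] at h
  have hmap : (N ⊔ zpowers x).map (QuotientGroup.mk' N) = zpowers (QuotientGroup.mk' N x) := by
    rw [Subgroup.map_sup, MonoidHom.map_zpowers, (Subgroup.map_eq_bot_iff _).2
      (by rw [QuotientGroup.ker_mk']), bot_sup_eq]
  have hord : orderOf (QuotientGroup.mk' N x) = p := orderOf_eq_prime
    (by rw [← map_pow]; exact (QuotientGroup.eq_one_iff _).2 hxp)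
    (fun e => hx ((QuotientGroup.eq_one_iff _).1 e))
  rw [h, hmap, Nat.card_zpowers, hord]

/-- A section `H/K` with commuting generators of order `p`. -/
theorem relIndex_le_of_comm {k : ℕ} (hr : Cfsg.SectionalPRankLE p k S) {H K : Subgroup S}
    (hn : ∀ h ∈ H, ∀ x ∈ K, h * x * h⁻¹ ∈ K) {T : Set S}
    (hT : H ≤ closure T) (hTH : T ⊆ H)
    (hc : ∀ a ∈ T, ∀ b ∈ T, ⁅a, b⁆ ∈ K) (hpow : ∀ a ∈ T, a ^ p ∈ K) :
    K.relIndex H ≤ p ^ k := by
  haveI : (K.subgroupOf H).Normal :=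
    ⟨fun x hx h => mem_subgroupOf.2 (hn h h.2 x (mem_subgroupOf.1 hx))⟩
  show (K.subgroupOf H).index ≤ p ^ k
  rw [Subgroup.index_eq_card]
  set q := QuotientGroup.mk' (K.subgroupOf H) with hq
  have hcl : ∀ a : H, (a : S) ∈ closure T → ∀ b ∈ T, ∀ hb : b ∈ H, q a * q ⟨b, hb⟩ = q ⟨b, hb⟩ * q a := by
    intro a ha b hb hbH
    obtain ⟨a, haH⟩ := a
    have ha' : a ∈ closure T := ha
    have hkey : a ∈ H ∧ ∀ haH : a ∈ H, q ⟨a, haH⟩ * q ⟨b, hbH⟩ = q ⟨b, hbH⟩ * q ⟨a, haH⟩ := by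
      clear ha haH
      induction ha' using closure_induction with
      | mem x hx =>
        refine ⟨hTH hx, fun hxH => ?_⟩
        rw [← commutatorElement_eq_one_iff_mul_comm, ← map_commutatorElement, hq,
          QuotientGroup.mk'_apply, QuotientGroup.eq_one_iff]
        exact mem_subgroupOf.2 (hc x hx b hb)
      | one => exact ⟨one_mem H, fun h1 => by rw [show (⟨1, h1⟩ : H) = 1 from rfl, map_one, one_mul, mul_one]⟩
      | mul x y _ _ h1 h2 =>
        refine ⟨mul_mem h1.1 h2.1, fun hxy => ?_⟩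
        rw [show (⟨x * y, hxy⟩ : H) = ⟨x, h1.1⟩ * ⟨y, h2.1⟩ from rfl, map_mul]
        exact Commute.mul_left (h1.2 h1.1) (h2.2 h2.1)
      | inv x _ h1 =>
        refine ⟨inv_mem h1.1, fun hx => ?_⟩
        rw [show (⟨x⁻¹, hx⟩ : H) = (⟨x, h1.1⟩)⁻¹ from rfl, map_inv]
        exact Commute.inv_left (h1.2 h1.1)
    exact hkey.2 haH
  have hcomm : ∀ u v : H ⧸ K.subgroupOf H, u * v = v * u := by
    intro u v
    obtain ⟨a, rfl⟩ := QuotientGroup.mk'_surjective _ u
    obtain ⟨⟨b, hbH⟩, rfl⟩ := QuotientGroup.mk'_surjective _ v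
    have hb' := hT hbH
    have hkey : b ∈ H ∧ ∀ hbH : b ∈ H, q a * q ⟨b, hbH⟩ = q ⟨b, hbH⟩ * q a := by
      clear hbH
      induction hb' using closure_induction with
      | mem x hx => exact ⟨hTH hx, fun hxH => hcl a (hT a.2) x hx hxH⟩
      | one => exact ⟨one_mem H, fun h1 => by rw [show (⟨1, h1⟩ : H) = 1 from rfl, map_one, one_mul, mul_one]⟩
      | mul x y _ _ h1 h2 =>
        refine ⟨mul_mem h1.1 h2.1, fun hxy => ?_⟩
        rw [show (⟨x * y, hxy⟩ : H) = ⟨x, h1.1⟩ * ⟨y, h2.1⟩ from rfl, map_mul]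
        exact Commute.mul_right (h1.2 h1.1) (h2.2 h2.1)
      | inv x _ h1 =>
        refine ⟨inv_mem h1.1, fun hx => ?_⟩
        rw [show (⟨x⁻¹, hx⟩ : H) = (⟨x, h1.1⟩)⁻¹ from rfl, map_inv]
        exact Commute.inv_right (h1.2 h1.1)
    exact hkey.2 hbH
  refine CfsgLib.StructC.SectionalFour.card_le_of_hom hr H.subtype q
    (QuotientGroup.mk'_surjective _) ?_ hcomm ?_
  · rw [(MonoidHom.ker_eq_bot_iff _).2 H.subtype_injective]
    exact bot_le
  · intro u
    obtain ⟨⟨a, haH⟩, rfl⟩ := QuotientGroup.mk'_surjective _ u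
    have ha' := hT haH
    have hkey : a ∈ H ∧ ∀ haH : a ∈ H, q ⟨a, haH⟩ ^ p = 1 := by
      clear haH
      induction ha' using closure_induction with
      | mem x hx =>
        refine ⟨hTH hx, fun hxH => ?_⟩
        rw [← map_pow, hq, QuotientGroup.mk'_apply, QuotientGroup.eq_one_iff]
        exact mem_subgroupOf.2 (hpow x hx)
      | one => exact ⟨one_mem H, fun h1 => by rw [show (⟨1, h1⟩ : H) = 1 from rfl, map_one, one_pow]⟩
      | mul x y _ _ h1 h2 =>
        refine ⟨mul_mem h1.1 h2.1, fun hxy => ?_⟩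
        rw [show (⟨x * y, hxy⟩ : H) = ⟨x, h1.1⟩ * ⟨y, h2.1⟩ from rfl, map_mul,
          Commute.mul_pow (hcomm _ _), h1.2 h1.1, h2.2 h2.1, one_mul]
      | inv x _ h1 =>
        refine ⟨inv_mem h1.1, fun hx => ?_⟩
        rw [show (⟨x⁻¹, hx⟩ : H) = (⟨x, h1.1⟩)⁻¹ from rfl, map_inv, inv_pow, h1.2 h1.1, inv_one]
    exact hkey.2 haH

/-- An element with central powers and a twist. -/
theorem pow_eq_one_of_conj (hp2 : p ≠ 2) {a b u d : S} {k : ℕ} (ha : a ^ p = 1) (hd : d ^ p = 1)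
    (hdu : Commute d u) (hda : Commute a d) (hau : a * u * a⁻¹ = d ^ k * u)
    (hab : a * b * a⁻¹ = u * b) : u ^ p = 1 := by
  have h : ∀ i : ℕ, a ^ i * b * (a ^ i)⁻¹ = u ^ i * d ^ (k * i.choose 2) * b := by
    intro i
    induction i with
    | zero => simp
    | succ i ih =>
      have e : a ^ (i + 1) * b * (a ^ (i + 1))⁻¹
          = (a * u * a⁻¹) ^ i * (a * d ^ (k * i.choose 2) * a⁻¹) * (a * b * a⁻¹) := by
        rw [conj_pow, show a ^ (i + 1) * b * (a ^ (i + 1))⁻¹ = a * (a ^ i * b * (a ^ i)⁻¹) * a⁻¹ by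
          rw [pow_succ']; group, ih]
        group
      rw [e, hau, hab, (hda.pow_right _).eq, mul_inv_cancel_right, (hdu.pow_left k).mul_pow, ← pow_mul,
        show d ^ (k * i) * u ^ i * d ^ (k * i.choose 2) * (u * b)
          = d ^ (k * i) * (u ^ i * d ^ (k * i.choose 2)) * u * b by group,
        ← (hdu.pow_pow (k * i.choose 2) i).eq, ← mul_assoc, ← pow_add,
        mul_assoc (d ^ _) (u ^ i) u, ← pow_succ, (hdu.pow_pow _ (i + 1)).eq,
        Nat.choose_succ_succ', Nat.choose_one_right, mul_add]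
  have h1 := h p
  rw [ha, one_mul, inv_one, mul_one] at h1
  obtain ⟨j, hj⟩ := hp.out.dvd_choose_self two_ne_zero (lt_of_le_of_ne hp.out.two_le hp2.symm)
  rw [hj, show k * (p * j) = p * (k * j) by ring, pow_mul, hd, one_pow, mul_one] at h1
  exact mul_eq_right.1 h1.symm

omit hp in
/-- A finite cyclic group has one subgroup of each order. -/
theorem subgroup_eq_of_card [IsCyclic S] {H K : Subgroup S} (h : Nat.card H = Nat.card K) :
    H = K := by
  let _ : CommGroup S := IsCyclic.commGroup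
  have key : ∀ L : Subgroup S, L = (powMonoidHom (Nat.card L) : S →* S).ker := by
    intro L
    refine eq_of_le_of_card_ge (fun x hx => ?_) ?_
    · exact congrArg Subtype.val (pow_card_eq_one' (x := (⟨x, hx⟩ : L)))
    · rw [IsCyclic.card_powMonoidHom_ker, Nat.gcd_eq_right (card_subgroup_dvd_card L)]
  rw [key H, key K, h]

end PGroup

section SideLemmas

variable {S : Type*} [Group S] [Finite S] {p : ℕ} [hp : Fact p.Prime] (A : Side p S)

open Classical in
/-- An automorphism as a function on the group. -/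
noncomputable def act (g : MulAut A.E) (x : S) : S := if h : x ∈ A.E then ((g ⟨x, h⟩ : A.E) : S) else x

variable {A}

theorem act_coe (g : MulAut A.E) (x : A.E) : act A g x = ((g x : A.E) : S) := by
  rw [act, dif_pos x.2]

theorem act_mem (g : MulAut A.E) {x : S} (hx : x ∈ A.E) : act A g x ∈ A.E := by
  rw [act_coe g ⟨x, hx⟩]
  exact SetLike.coe_mem _

theorem act_mul (g : MulAut A.E) {x y : S} (hx : x ∈ A.E) (hy : y ∈ A.E) :
    act A g (x * y) = act A g x * act A g y := by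
  rw [act_coe g ⟨x, hx⟩, act_coe g ⟨y, hy⟩, act_coe g ⟨x * y, mul_mem hx hy⟩, ← Subgroup.coe_mul,
    ← map_mul]
  rfl

theorem act_one (g : MulAut A.E) : act A g 1 = 1 := by
  have := act_coe (A := A) g 1
  rwa [map_one] at this

theorem act_inv (g : MulAut A.E) {x : S} (hx : x ∈ A.E) : act A g x⁻¹ = (act A g x)⁻¹ := by
  rw [eq_inv_iff_mul_eq_one, ← act_mul g (inv_mem hx) hx, inv_mul_cancel, act_one]

theorem act_pow (g : MulAut A.E) {x : S} (hx : x ∈ A.E) (n : ℕ) :
    act A g (x ^ n) = act A g x ^ n := by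
  induction n with
  | zero => rw [pow_zero, pow_zero, act_one]
  | succ n ih => rw [pow_succ, pow_succ, act_mul g (pow_mem hx n) hx, ih]

theorem act_comp (g h : MulAut A.E) {x : S} (hx : x ∈ A.E) : act A (g * h) x = act A g (act A h x) := by
  rw [act_coe (g * h) ⟨x, hx⟩, act_coe h ⟨x, hx⟩, act_coe g]
  rfl

theorem act_cj (s : S) {x : S} (hx : x ∈ A.E) : act A (A.cj s) x = s * x * s⁻¹ := by
  rw [act_coe (A.cj s) ⟨x, hx⟩, A.cj_apply]

theorem act_one' {x : S} (hx : x ∈ A.E) : act A 1 x = x := act_coe 1 ⟨x, hx⟩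

theorem act_inv_act (g : MulAut A.E) {x : S} (hx : x ∈ A.E) : act A g⁻¹ (act A g x) = x := by
  rw [← act_comp _ _ hx, inv_mul_cancel, act_one' hx]

theorem act_commutator (g : MulAut A.E) {x y : S} (hx : x ∈ A.E) (hy : y ∈ A.E) :
    act A g ⁅x, y⁆ = ⁅act A g x, act A g y⁆ := by
  rw [commutatorElement_def, commutatorElement_def,
    act_mul g (mul_mem (mul_mem hx hy) (inv_mem hx)) (inv_mem hy),
    act_mul g (mul_mem hx hy) (inv_mem hx), act_mul g hx hy, act_inv g hx, act_inv g hy]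

theorem act_mem_of_inv {N : Subgroup S} (hN : A.Inv N) {g : MulAut A.E} (hg : g ∈ A.G) {x : S}
    (hx : x ∈ N) : act A g x ∈ N := by
  rw [act_coe g ⟨x, hN.1 hx⟩]
  exact hN.2 g hg ⟨x, hN.1 hx⟩ hx

theorem inv_of_act {N : Subgroup S} (hle : N ≤ A.E) (h : ∀ g ∈ A.G, ∀ x ∈ N, act A g x ∈ N) :
    A.Inv N := ⟨hle, fun g hg x hx => act_coe g x ▸ h g hg x hx⟩

/-- The subgroup generated by an invariant set. -/
theorem inv_closure {T : Set S} (hT : T ⊆ A.E) (h : ∀ g ∈ A.G, ∀ x ∈ T, act A g x ∈ closure T) :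
    A.Inv (closure T) := by
  refine inv_of_act ((closure_le _).2 hT) fun g hg x hx => ?_
  have hkey : x ∈ A.E ∧ act A g x ∈ closure T := by
    induction hx using closure_induction with
    | mem x hx => exact ⟨hT hx, h g hg x hx⟩
    | one => exact ⟨one_mem _, by rw [act_one]; exact one_mem _⟩
    | mul x y _ _ h1 h2 =>
      exact ⟨mul_mem h1.1 h2.1, by rw [act_mul g h1.1 h2.1]; exact mul_mem h1.2 h2.2⟩
    | inv x _ h1 => exact ⟨inv_mem h1.1, by rw [act_inv g h1.1]; exact inv_mem h1.2⟩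
  exact hkey.2

theorem cj_range_le_M : A.cj.range ≤ A.M := by
  rintro _ ⟨s, rfl⟩
  exact subset_closure ⟨1, one_mem _, s, by rw [one_mul, inv_one, mul_one]⟩

theorem M_le_G : A.M ≤ A.G := by
  rw [Side.M, closure_le]
  rintro _ ⟨g, hg, s, rfl⟩
  exact mul_mem (mul_mem hg (A.cj_mem s)) (inv_mem hg)

theorem M_conj {g m : MulAut A.E} (hg : g ∈ A.G) (hm : m ∈ A.M) : g * m * g⁻¹ ∈ A.M := by
  induction hm using closure_induction with
  | mem x hx =>
    obtain ⟨h, hh, s, rfl⟩ := hx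
    exact subset_closure ⟨g * h, mul_mem hg hh, s, by group⟩
  | one => rw [mul_one, mul_inv_cancel]; exact one_mem _
  | mul x y _ _ h1 h2 => exact conj_mul (a := x) (b := g) (c := y) ▸ mul_mem h1 h2
  | inv x _ h1 => exact conj_inv (a := x) (b := g) ▸ inv_mem h1

/-- The Frattini argument. -/
theorem exists_norm (hS : IsPGroup p S) {g : MulAut A.E} (hg : g ∈ A.G) :
    ∃ h ∈ A.M, ∃ n ∈ A.G, g = h * n ∧ ∀ s : S, ∃ s' : S, A.cj s * n = n * A.cj s' := by
  set T : Subgroup A.G := A.cj.range.subgroupOf A.G with hTdef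
  set N : Subgroup A.G := A.M.subgroupOf A.G with hNdef
  haveI hN : N.Normal := ⟨fun x hx y => mem_subgroupOf.2 (M_conj y.2 (mem_subgroupOf.1 hx))⟩
  have hTp : IsPGroup p T :=
    (hS.of_surjective A.cj.rangeRestrict A.cj.rangeRestrict_surjective).comap_subtype
  let P : Sylow p A.G := hTp.toSylow (show ¬ p ∣ T.index from A.sylow)
  have hPT : (P : Subgroup A.G) = T := rfl
  have htop := P.normalizer_sup_eq_top' (N := N)
    (fun x hx => mem_subgroupOf.2 (cj_range_le_M (mem_subgroupOf.1 hx)))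
  obtain ⟨y, hy, z, hz, hyz⟩ := Subgroup.mem_sup_of_normal_right.1
    (htop.ge (mem_top (⟨g, hg⟩ : A.G)))
  refine ⟨(y : MulAut A.E) * z * (y : MulAut A.E)⁻¹, M_conj y.2 (mem_subgroupOf.1 hz), y, y.2, ?_,
    fun s => ?_⟩
  · rw [inv_mul_cancel_right]
    exact (congrArg Subtype.val hyz).symm
  · have hy' : y ∈ normalizer ((T : Subgroup A.G) : Set A.G) := hy
    have hmem : (⟨A.cj s, A.cj_mem s⟩ : A.G) ∈ T := mem_subgroupOf.2 ⟨s, rfl⟩
    have h1 := ((mem_normalizer_iff (H := T)).1 (inv_mem hy') _).1 hmem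
    obtain ⟨s', hs'⟩ := mem_subgroupOf.1 h1
    refine ⟨s', ?_⟩
    rw [hs']
    simp [mul_assoc]

end SideLemmas

end CfsgLib.RankThreePair.TwoNonab
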