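import Cfsg.Agent.Lib.RankThreePair.CaseTwoAbOne
import Cfsg.Agent.Lib.RankThreePair.TwoNonabBasic

/-!
The situation where `V₂` is abelian and larger than `Z₁`.
-/

set_option autoImplicit false
set_option linter.unusedSectionVars false
set_option linter.style.haveILetI false

namespace CfsgLib.RankThreePair.TwoAb

open Subgroup
open TwoNonab (act act_coe act_mem act_mul act_one act_inv act_pow act_comp act_one' act_inv_act
  act_commutator act_mem_of_inv inv_of_act)
open scoped commutatorElement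

universe u

variable {S : Type u} [Group S] [Finite S] {p : ℕ} [hp : Fact p.Prime]

theorem card_le_cube (hr : Cfsg.SectionalPRankLE p 3 S) {H : Subgroup S}
    (hc : ∀ a ∈ H, ∀ b ∈ H, Commute a b) (hexp : ∀ a ∈ H, a ^ p = 1) : Nat.card H ≤ p ^ 3 := by
  have h := RankThree.relIndex_le (K := (⊥ : Subgroup S)) hr
    (fun a ha b hb => mem_bot.2 (commutatorElement_eq_one_iff_commute.2 (hc a ha b hb)))
    (fun a ha => mem_bot.2 (hexp a ha))
  rwa [relIndex_bot_left] at h

theorem lt_sup_zpowers {H : Subgroup S} {x : S} (hx : x ∉ H) : H < H ⊔ zpowers x :=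
  lt_of_le_of_ne le_sup_left fun e => hx (e ▸ mem_sup_right (mem_zpowers x))

theorem le_zpowers_of_card {N : Subgroup S} (hN : Nat.card N = p) {w : S} (hw : w ∈ N) (hne : w ≠ 1) :
    N ≤ zpowers w := by
  have h : orderOf w = p := by
    have hd : orderOf (⟨w, hw⟩ : N) ∣ p := hN ▸ orderOf_dvd_natCard _
    rw [Subgroup.orderOf_mk] at hd
    exact ((Nat.dvd_prime hp.out).1 hd).resolve_left fun e => hne (orderOf_eq_one_iff.1 e)
  exact (eq_of_le_of_card_ge (zpowers_le.2 hw) (by rw [Nat.card_zpowers, h, hN])).ge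

theorem eq_of_card_lt (hS : IsPGroup p S) {L V : Subgroup S} (h : L ≤ V)
    (hcard : Nat.card V < p * Nat.card L) : L = V := by
  rcases eq_or_lt_of_le h with e | hlt
  · exact e
  · exact absurd (card_mul_le hS hlt) hcard.not_ge

theorem relIndex_mul_card {N L : Subgroup S} (h : N ≤ L) :
    N.relIndex L * Nat.card N = Nat.card L := by
  rw [mul_comm, ← Nat.card_congr (Subgroup.subgroupOfEquivOfLe h).toEquiv]
  exact (N.subgroupOf L).card_mul_index

theorem fixes_act {A : Side p S} {g : MulAut A.E} {N N' : Subgroup S} (h : A.Fixes g N N')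
    {x : S} (hx : x ∈ N) (hxE : x ∈ A.E) : x⁻¹ * act A g x ∈ N' := by
  rw [act_coe g ⟨x, hxE⟩]; exact h ⟨x, hxE⟩ hx

theorem act_fixed {A : Side p S} {g : MulAut A.E} {N : Subgroup S} (h : A.Fixes g N ⊥)
    {x : S} (hx : x ∈ N) (hxE : x ∈ A.E) : act A g x = x :=
  (inv_mul_eq_one.1 (mem_bot.1 (fixes_act h hx hxE))).symm

/-- The situation after the first case. -/
structure Setting (P : Pair p S) (Z V : Subgroup S) : Prop where
  moves : ¬ P.A.Inv (oz p S)
  invA : P.A.Inv Z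
  minA : ∀ L, P.A.Inv L → oz p S ≤ L → Z ≤ L
  cen : ∀ x ∈ Z, ∀ y ∈ P.A.E, x * y = y * x
  fix : ∀ x ∈ Z, (∀ s : S, x * s = s * x) → x ∈ oz p S
  cent : ∀ s : S, (∀ x ∈ Z, x * s = s * x) → s ∈ P.A.E
  ozle : oz p S ≤ Z
  le : Z ≤ V
  invB : P.B.Inv V
  minB : ∀ L, P.B.Inv L → Z ≤ L → V ≤ L
  notB : ¬ P.B.Inv Z
  leW : V ≤ P.W
  comm : ∀ x ∈ V, ∀ y ∈ V, Commute x y
  expV : ∀ x ∈ V, x ^ p = 1
  card_oz : Nat.card (oz p S) = p
  cardZ : Nat.card Z = p ^ 2
  cardV : Nat.card V = p ^ 3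

/-- The orbit of `Z₁` on the other side. -/
theorem setting_of_not_inv (hS : IsPGroup p S) (hr : Cfsg.SectionalPRankLE p 3 S) (P : Pair p S)
    (hmv : ¬ P.A.Inv (oz p S)) (hle : P.A.orbit (oz p S) ≤ P.B.E)
    (hc : ∀ g ∈ P.B.G, ∀ x y : P.B.E, (x : S) ∈ P.A.orbit (oz p S) → (y : S) ∈ P.A.orbit (oz p S) →
      Commute x (g y))
    (hB : ¬ P.B.Inv (P.A.orbit (oz p S))) :
    Setting P (P.A.orbit (oz p S)) (P.B.orbit (P.A.orbit (oz p S))) := by
  obtain ⟨hexp, hcen, hfix, a, ha, x, hx, hxa⟩ := P.A.z1_facts hmv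
  obtain ⟨hO, hozle, hmin⟩ := P.A.inv_orbit P.A.oz_le
  have hcent : ∀ s, (∀ x ∈ P.A.orbit (oz p S), x * s = s * x) → s ∈ P.A.E := fun s => mem_of_cent P.A hmv
  generalize hZ : P.A.orbit (oz p S) = Z at *
  obtain ⟨hV, hZV, hminB⟩ := P.B.inv_orbit hle
  have hcomm : ∀ y ∈ P.B.orbit Z, ∀ w ∈ P.B.orbit Z, Commute y w := by
    have hgen : ∀ g ∈ P.B.G, ∀ h ∈ P.B.G, ∀ y w : P.B.E, (y : S) ∈ Z → (w : S) ∈ Z →
        Commute ((g y : P.B.E) : S) ((h w : P.B.E) : S) := fun g hg h hh y w hy hw => by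
      have h1 := (hc (g⁻¹ * h) (mul_mem (inv_mem hg) hh) y w hy hw).map g.toMonoidHom
      have h2 : g ((g⁻¹ * h) w) = h w := by rw [← MulAut.mul_apply, mul_inv_cancel_left]
      have h3 : Commute (g y) (h w) := by
        rw [← h2]; exact h1
      exact h3.map P.B.E.subtype
    intro y hy
    have key : ∀ g ∈ P.B.G, ∀ w : P.B.E, (w : S) ∈ Z → Commute y ((g w : P.B.E) : S) := by
      unfold Side.orbit at hy
      induction hy using Subgroup.closure_induction with
      | mem y hy =>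
        obtain ⟨g, hg, w, hw, rfl⟩ := hy
        exact fun h hh v hv => hgen g hg h hh w v hw hv
      | one => exact fun _ _ _ _ => Commute.one_left _
      | mul y z _ _ ihy ihz => exact fun g hg w hw => (ihy g hg w hw).mul_left (ihz g hg w hw)
      | inv y _ ihy => exact fun g hg w hw => (ihy g hg w hw).inv_left
    intro w hw
    unfold Side.orbit at hw
    induction hw using Subgroup.closure_induction with
    | mem w hw =>
      obtain ⟨g, hg, v, hv, rfl⟩ := hw
      exact key g hg v hv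
    | one => exact Commute.one_right _
    | mul _ _ _ _ ihy ihz => exact ihy.mul_right ihz
    | inv _ _ ihy => exact ihy.inv_right
  have hexpV : ∀ y ∈ P.B.orbit Z, y ^ p = 1 := by
    intro y hy
    have : y ∈ P.B.orbit Z ∧ y ^ p = 1 := by
      unfold Side.orbit at hy
      induction hy using Subgroup.closure_induction with
      | mem y hy =>
        refine ⟨Subgroup.subset_closure hy, ?_⟩
        obtain ⟨g, -, w, hw, rfl⟩ := hy
        rw [← SubmonoidClass.coe_pow, ← map_pow, show w ^ p = 1 from Subtype.ext (hexp w hw), map_one]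
        rfl
      | one => exact ⟨one_mem _, one_pow _⟩
      | mul y z _ _ ihy ihz =>
        exact ⟨mul_mem ihy.1 ihz.1, by rw [(hcomm y ihy.1 z ihz.1).mul_pow, ihy.2, ihz.2, one_mul]⟩
      | inv y _ ihy => exact ⟨inv_mem ihy.1, by rw [inv_pow, ihy.2, inv_one]⟩
    exact this.2
  haveI : Nontrivial S := ⟨⟨⁅x, a⁆, 1, hxa⟩⟩
  have h1 : p ≤ Nat.card (oz p S) := by
    have := card_mul_le hS (bot_lt_iff_ne_bot.2 (oz_ne_bot hS))
    rwa [card_bot, mul_one] at this
  have hlt1 : oz p S < Z := lt_of_le_of_ne hozle fun e => hmv (e ▸ hO)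
  have hlt2 : Z < P.B.orbit Z := lt_of_le_of_ne hZV fun e => hB (by rw [e]; exact hV)
  have h2 := card_mul_le hS hlt1
  have h3 := card_mul_le hS hlt2
  have h4 := card_le_cube hr hcomm hexpV
  have h5 : p * p ≤ Nat.card Z := le_trans (Nat.mul_le_mul_left p h1) h2
  have h6 : p * Nat.card Z ≤ p * p ^ 2 := by rw [← pow_succ']; exact h3.trans h4
  have h7 : Nat.card Z = p ^ 2 := le_antisymm (Nat.le_of_mul_le_mul_left h6 hp.out.pos) (by rwa [sq])
  refine ⟨hmv, hO, hmin, hcen, hfix, hcent, hozle, hZV, hV, hminB, hB, ?_, hcomm, hexpV, ?_, h7, ?_⟩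
  · exact le_inf (fun y hy => hcent y fun z hz => hcomm z (hZV hz) y hy) hV.1
  · refine le_antisymm (Nat.le_of_mul_le_mul_left ?_ hp.out.pos) h1
    rw [← sq, ← h7]; exact h2
  · refine le_antisymm h4 ?_
    rw [pow_succ', ← h7]; exact h3

variable {P : Pair p S} {Z V : Subgroup S}

theorem Setting.relIndex_oz (h : Setting P Z V) : (oz p S).relIndex Z = p := by
  have := relIndex_mul_card h.ozle
  rw [h.card_oz, h.cardZ, sq] at this
  exact Nat.eq_of_mul_eq_mul_right hp.out.pos this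

theorem Setting.relIndex_Z (h : Setting P Z V) : Z.relIndex V = p := by
  have := relIndex_mul_card h.le
  rw [h.cardV, h.cardZ, pow_succ' p 2] at this
  exact Nat.eq_of_mul_eq_mul_right (pow_pos hp.out.pos 2) this

theorem Setting.comm_Z (h : Setting P Z V) (hS : IsPGroup p S) (s : S) {x : S} (hx : x ∈ Z) :
    ⁅s, x⁆ ∈ oz p S := by
  haveI := h.invA.normal
  exact comm_mem_of_relIndex hS h.ozle h.relIndex_oz.le s hx

/-- A generator of `Ω₁(Z(S))` as a commutator. -/
theorem Setting.exists_gen (h : Setting P Z V) :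
    ∃ a ∈ P.B.E, a ∉ P.A.E ∧ ∃ x ∈ Z, ⁅a, x⁆ ≠ 1 := by
  obtain ⟨a, haB, haA⟩ := exists_outside P
  refine ⟨a, haB, haA, ?_⟩
  by_contra hcon
  push Not at hcon
  exact haA (h.cent a fun x hx => (commutatorElement_eq_one_iff_mul_comm.1 (hcon x hx)).symm)

theorem Setting.oz_le_of_normal (h : Setting P Z V) (hS : IsPGroup p S) {N : Subgroup S} [N.Normal]
    (hN : N ≠ ⊥) : oz p S ≤ N := by
  obtain ⟨z, hzN, hz, hz1⟩ := exists_mem_oz hS hN
  exact (le_zpowers_of_card h.card_oz hz hz1).trans (zpowers_le.2 hzN)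

theorem Setting.Z_not_le_oz (h : Setting P Z V) : ¬ Z ≤ oz p S := fun hle => by
  have := Subgroup.card_le_of_le hle
  rw [h.card_oz, h.cardZ, sq] at this
  have := hp.out.two_le
  nlinarith

/-- `Ω₁(Z(S))` is invariant on the second side and contains the commutators. -/
theorem Setting.comm_V (h : Setting P Z V) (hS : IsPGroup p S) :
    P.B.Inv (oz p S) ∧ ∀ e ∈ P.B.E, ∀ x ∈ V, ⁅e, x⁆ ∈ oz p S := by
  obtain ⟨a, haB, haA, x0, hx0, hne⟩ := h.exists_gen
  have hx0B : x0 ∈ P.B.E := (h.leW (h.le hx0)).2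
  haveI := h.invA.normal
  haveI := P.A.normal
  haveI := P.B.normal
  have hQinv : P.B.Inv (V ⊓ (P.B.E ⊓ centralizer (P.B.E : Set S))) :=
    Side.inv_inf h.invB (Side.inv_centralizer P.B.inv_E)
  have hozB : P.B.Inv (oz p S) := by
    by_cases hQ : V ⊓ (P.B.E ⊓ centralizer (P.B.E : Set S)) ≤ Z
    · suffices e : V ⊓ (P.B.E ⊓ centralizer (P.B.E : Set S)) = oz p S by rwa [e] at hQinv
      refine le_antisymm (fun x hx => h.fix x (hQ hx) fun s => ?_) fun x hx => ?_
      · obtain ⟨i, e, he, rfl⟩ := exists_pow_mul_index P.A.index haA s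
        exact ((show Commute x a from (hx.2.2 a haB).symm).pow_right i).mul_right (h.cen x (hQ hx) e he)
      · refine ⟨h.le (h.ozle hx), P.B.oz_le hx, fun y _ => ?_⟩
        exact mem_center_iff.1 hx.1 y
    · have hV : Z ⊔ (V ⊓ (P.B.E ⊓ centralizer (P.B.E : Set S))) = V := by
        refine eq_of_card_lt hS (sup_le h.le inf_le_left) ?_
        have h2 := card_mul_le hS (lt_of_le_of_ne le_sup_left fun e => hQ (le_sup_right.trans e.ge) :
          Z < Z ⊔ (V ⊓ (P.B.E ⊓ centralizer (P.B.E : Set S))))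
        rw [h.cardZ] at h2
        rw [h.cardV]
        have := hp.out.two_le
        have : 0 < p ^ 2 := pow_pos hp.out.pos 2
        nlinarith
      have hall : ∀ e ∈ P.B.E, ∀ x ∈ V, ⁅e, x⁆ ∈ oz p S := by
        intro e he x hx
        rw [← hV] at hx
        obtain ⟨z, hz, q, hq, rfl⟩ := mem_sup_of_normal_left.1 hx
        have hq1 : ⁅e, q⁆ = 1 := commutatorElement_eq_one_iff_mul_comm.2 (hq.2.2 e he)
        rw [RankThree.comm_mul_right (by rw [hq1]; exact Commute.one_right _), hq1, mul_one]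
        exact h.comm_Z hS e hz
      refine inv_of_act P.B.oz_le fun g hg x hx => ?_
      have hw := h.comm_Z hS a hx0
      have hx' := le_zpowers_of_card h.card_oz hw hne hx
      rw [← mem_powers_iff_mem_zpowers] at hx'
      obtain ⟨i, rfl⟩ := hx'
      dsimp only
      rw [act_pow g (P.B.oz_le hw), act_commutator g haB hx0B]
      exact pow_mem (hall _ (act_mem g haB) _ (act_mem_of_inv h.invB hg (h.le hx0))) i
  refine ⟨hozB, ?_⟩
  let L : Subgroup S :=
    { carrier := {x | x ∈ V ∧ ∀ e ∈ P.B.E, ⁅e, x⁆ ∈ oz p S}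
      one_mem' := ⟨one_mem _, fun e _ => by simp⟩
      mul_mem' := fun {x y} hx hy => ⟨mul_mem hx.1 hy.1, fun e he => by
        rw [show ⁅e, x * y⁆ = ⁅e, x⁆ * (x * ⁅e, y⁆ * x⁻¹) by simp only [commutatorElement_def]; group]
        exact mul_mem (hx.2 e he) (oz_normal.conj_mem _ (hy.2 e he) x)⟩
      inv_mem' := fun {x} hx => ⟨inv_mem hx.1, fun e he => by
        rw [show ⁅e, x⁻¹⁆ = x⁻¹ * ⁅e, x⁆⁻¹ * x⁻¹⁻¹ by simp only [commutatorElement_def]; group]
        exact oz_normal.conj_mem _ (inv_mem (hx.2 e he)) _⟩ }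
  have hL : P.B.Inv L := inv_of_act (fun x hx => h.invB.1 hx.1) fun g hg x hx =>
    ⟨act_mem_of_inv h.invB hg hx.1, fun e he => by
      have h1 := act_mem_of_inv hozB hg (hx.2 _ (act_mem g⁻¹ he))
      rwa [act_commutator g (act_mem g⁻¹ he) (h.invB.1 hx.1), ← act_comp _ _ he, mul_inv_cancel,
        act_one' he] at h1⟩
  have hle := h.minB L hL fun x hx => ⟨h.le hx, fun e _ => h.comm_Z hS e hx⟩
  exact fun e he x hx => (hle hx).2 e he

end CfsgLib.RankThreePair.TwoAb
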