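import Cfsg.Agent.Lib.RankThreePair.TwoNonabCore
import Cfsg.Agent.Lib.Solvable.MinNormal

/-!
A side moving `Ω₁(Z(S))` whose orbit is not commutative under the other side: no such pair.
-/

set_option autoImplicit false
set_option linter.style.haveILetI false
set_option linter.unusedSectionVars false

namespace CfsgLib.RankThreePair.TwoNonab

open Subgroup
open scoped commutatorElement

variable {S : Type*} [Group S] [Finite S] {p : ℕ} [hp : Fact p.Prime] {P : Pair p S}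

/-- The power subgroup of `E_A`. -/
def powA (P : Pair p S) : Subgroup S := closure {z | ∃ x ∈ P.A.E, x ^ p = z}

theorem powA_inv : P.A.Inv (powA P) := by
  refine inv_closure ?_ ?_
  · rintro _ ⟨x, hx, rfl⟩
    exact pow_mem hx p
  · rintro g _ _ ⟨x, hx, rfl⟩
    rw [act_pow g hx]
    exact subset_closure ⟨_, act_mem g hx, rfl⟩

theorem powA_le_W : powA P ≤ P.W := by
  haveI := P.A.normal
  haveI := P.B.normal
  refine (closure_le _).2 ?_
  rintro _ ⟨x, hx, rfl⟩
  exact mem_inf.2 ⟨pow_mem hx p, by simpa [P.B.index] using Subgroup.pow_index_mem P.B.E x⟩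

namespace Data

variable (D : Data P)
include D

theorem W_invariant (hS : IsPGroup p S) (hp2 : p ≠ 2) (hmv : ¬ P.A.Inv (oz p S)) :
    P.A.Inv P.W := by
  by_contra hni
  obtain ⟨hzp, hzc, hzf, -⟩ := P.A.z1_facts hmv
  have hozA : oz p S ≤ P.A.E := fun x hx => P.A.center_le hx.1
  obtain ⟨hiz, hozle, -⟩ := P.A.inv_orbit hozA
  obtain ⟨I, hI⟩ : ∃ I, I = P.A.orbit (oz p S) ⊔ powA P := ⟨_, rfl⟩
  have hIinv : P.A.Inv I := hI ▸ P.A.inv_sup hiz powA_inv
  haveI hIn : I.Normal := hIinv.normal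
  haveI := W_normal P
  haveI := P.A.normal
  haveI := P.B.normal
  have hIW : I ≤ P.W := hI ▸ sup_le D.z1_le powA_le_W
  obtain ⟨b, hb, hbB⟩ := exists_b (P := P)
  -- a second image of `W`
  obtain ⟨g, hg, x0, hx0, hgx⟩ : ∃ g ∈ P.A.G, ∃ x ∈ P.W, act P.A g x ∉ P.W := by
    by_contra h
    push Not at h
    exact hni (inv_of_act (W_le_left P) h)
  have hIc : ∀ z ∈ I, ∀ e ∈ P.A.E, Commute z e := by
    intro z hz e he
    have hzW := hIW hz
    obtain ⟨hgB, hgA⟩ : act P.A g x0 ∉ P.B.E ∧ act P.A g x0 ∈ P.A.E :=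
      ⟨fun h => hgx (mem_inf.2 ⟨act_mem g (W_le_left P hx0), h⟩), act_mem g (W_le_left P hx0)⟩
    obtain ⟨i, v, hv, rfl⟩ := A_dec hgA hgB he
    refine (Commute.pow_right ?_ i).mul_right (D.comm_W hS hmv hzW hv)
    have hz' : act P.A g⁻¹ z ∈ P.W := hIW (act_mem_of_inv hIinv (inv_mem hg) hz)
    have h1 := D.comm_W hS hmv hz' hx0
    have e1 : act P.A g (act P.A g⁻¹ z) = z := by
      have := act_inv_act (A := P.A) g⁻¹ (W_le_left P hzW)
      rwa [inv_inv] at this
    rw [← e1]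
    show _ * _ = _ * _
    rw [← act_mul g (W_le_left P hz') (W_le_left P hx0), ← act_mul g (W_le_left P hx0) (W_le_left P hz'),
      h1.eq]
  have hwI : D.w ∈ I := hI ▸ mem_sup_left D.w_mem
  have hdI : D.d ∈ I := hI ▸ mem_sup_left (hozle D.d_oz)
  have hcp : D.c1 ^ p ∈ I := hI ▸ mem_sup_right
    (subset_closure ⟨D.c1, W_le_left P (D.C_le D.c1_mem), rfl⟩)
  have hgen : ∀ y ∈ P.W, ∃ i : ℕ, ∃ e ∈ I, y = D.c1 ^ i * e := by
    intro y hy
    obtain ⟨j, r, hr, rfl⟩ := D.W_dec y hy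
    obtain ⟨i, k, rfl⟩ := D.C_gen r hr
    refine ⟨i, D.w ^ j * D.d ^ k, mul_mem (pow_mem hwI j) (pow_mem hdI k), ?_⟩
    rw [← mul_assoc, ((D.comm_w hS hmv (W_le_left P (D.C_le D.c1_mem))).pow_pow j i).eq, mul_assoc]
  have hstep : ∀ s : S, ∀ y ∈ P.W, ⁅s, y⁆ ∈ I := fun s y hy =>
    comm_mem_of_step hS hIW (D.C_le D.c1_mem) hcp hgen s hy
  -- commutators with `W` inside `E_A` lie in `Ω₁(Z(S))`
  have hEW : ∀ e ∈ P.A.E, ∀ v ∈ P.W, ⁅e, v⁆ ∈ oz p S := by
    intro e he v hv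
    have hc := D.comm_left_mem hS hmv he (W_le_left P hv)
    have hcI := hstep e v hv
    have hcen : ∀ s : S, Commute ⁅e, v⁆ s := by
      intro s
      obtain ⟨i, e', he', rfl⟩ := D.S_dec s
      exact ((D.comm_a hc).symm.pow_right i).mul_right (hIc _ hcI e' he')
    refine ⟨Subgroup.mem_center_iff.2 fun s => (hcen s).eq.symm, ?_⟩
    rw [← CfsgLib.RankThree.comm_pow_right (hcen v).symm, commutatorElement_eq_one_iff_mul_comm]
    obtain ⟨i, e', he', hv'⟩ := hgen v hv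
    exact (hIc _ (hI ▸ mem_sup_right (subset_closure ⟨v, W_le_left P hv, rfl⟩)) e he).eq.symm
  obtain ⟨u, hu⟩ : ∃ u, u = ⁅D.a, b⁆ := ⟨_, rfl⟩
  have huW : u ∈ P.W := hu ▸ D.comm_ab_mem_W hb
  have huC : u ∉ D.C := hu ▸ D.comm_ab_not_mem hS hmv hb hbB
  have hup : u ^ p = 1 := hu ▸ D.comm_ab_pow hS hp2 hmv hb
  obtain ⟨k, r, hr, hkr⟩ := D.W_dec u huW
  by_cases hrI : r ∈ I
  · -- `S` acts trivially on `E_A / I`
    set q := QuotientGroup.mk' I with hq
    have hI1 : ∀ z ∈ I, q z = 1 := fun z hz => (QuotientGroup.eq_one_iff z).2 hz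
    have hqW : ∀ s : S, ∀ v ∈ P.W, Commute (q s) (q v) := fun s v hv => by
      show _ * _ = _ * _
      rw [← commutatorElement_eq_one_iff_mul_comm, ← map_commutatorElement, hI1 _ (hstep s v hv)]
    have hqab : Commute (q D.a) (q b) := by
      show _ * _ = _ * _
      rw [← commutatorElement_eq_one_iff_mul_comm, ← map_commutatorElement, ← hu,
        hI1 _ (hkr ▸ mul_mem (pow_mem hwI k) hrI)]
    have hS' : ∀ s : S, ∀ y ∈ P.A.E, ⁅s, y⁆ ∈ I := by
      intro s y hy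
      obtain ⟨i, v, hv, rfl⟩ := A_dec hb hbB hy
      obtain ⟨t, e, he, rfl⟩ := D.S_dec s
      obtain ⟨j, v', hv', rfl⟩ := A_dec hb hbB he
      rw [← QuotientGroup.eq_one_iff]
      show q ⁅_, _⁆ = 1
      rw [map_commutatorElement, commutatorElement_eq_one_iff_mul_comm, map_mul q (b ^ i), map_pow]
      refine (Commute.mul_right ?_ (hqW _ v hv)).eq
      simp only [map_mul, map_pow]
      exact ((hqab.pow_pow t i)).mul_left
        (((Commute.refl (q b)).pow_pow j i).mul_left ((hqW b v' hv').symm.pow_right i))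
    have hMW : ∀ h ∈ P.A.M, ∀ y ∈ P.W, act P.A h y ∈ P.W := by
      intro h hh y hy
      have h1 := P.A.fixes_of_comm P.A.inv_E hIinv hS' h hh ⟨y, W_le_left P hy⟩ (W_le_left P hy)
      rw [← act_coe h ⟨y, W_le_left P hy⟩] at h1
      simpa using mul_mem hy (hIW h1)
    have hWZ : ∀ y ∈ P.W, ∀ s : S, ⁅s, y⁆ ∈ oz p S := by
      intro y hy s
      obtain ⟨t, e, he, rfl⟩ := D.S_dec s
      have h1 := hEW e he y hy
      obtain ⟨n, hn⟩ := exists_nat_pow (D.comm_a_W hy)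
      rw [show ⁅D.a ^ t * e, y⁆ = D.a ^ t * ⁅e, y⁆ * (D.a ^ t)⁻¹ * ⁅D.a ^ t, y⁆ by
          simp only [commutatorElement_def]; group,
        Subgroup.mem_center_iff.1 h1.1 (D.a ^ t), mul_inv_cancel_right,
        CfsgLib.RankThree.comm_pow_left (by rw [hn]; exact ((D.d_central _).pow_left n).symm) t, hn]
      exact mul_mem h1 (pow_mem (pow_mem D.d_oz n) t)
    haveI := D.C_normal hS hmv
    have hWconv : ∀ y ∈ P.A.E, (∀ s : S, ⁅s, y⁆ ∈ oz p S) → y ∈ P.W := by
      intro y hy hall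
      obtain ⟨i, v, hv, rfl⟩ := A_dec hb hbB hy
      set qC := QuotientGroup.mk' D.C with hqC
      have hC1 : ∀ z ∈ D.C, qC z = 1 := fun z hz => (QuotientGroup.eq_one_iff z).2 hz
      have h2 : ⁅qC D.a, qC b⁆ = qC u := by rw [← map_commutatorElement, hu]
      have h3 : Commute (qC b) (qC u) := by
        rw [hkr, map_mul, hC1 r hr, mul_one, map_pow]
        exact (((D.comm_w hS hmv hb).symm).map qC).pow_right k
      have h4 : qC ⁅D.a, b ^ i * v⁆ = 1 := hC1 _ (D.oz_le (hall D.a))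
      have h5 : qC v * qC D.a = qC D.a * qC v := by
        refine (commutatorElement_eq_one_iff_mul_comm.1 ?_).symm
        rw [← map_commutatorElement]
        obtain ⟨n, hn⟩ := exists_nat_pow (D.comm_a_W hv)
        exact hC1 _ (hn ▸ pow_mem D.d_mem n)
      rw [map_commutatorElement, map_mul, map_pow, commutatorElement_eq_one_iff_mul_comm] at h4
      have h7 : Commute (qC D.a) (qC b ^ i) := by
        have h8 : Commute (qC D.a) (qC b ^ i * qC v) := h4
        simpa using h8.mul_right (show Commute (qC D.a) (qC v) from h5.symm).inv_right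
      have h9 : qC u ^ i = 1 := by
        rw [← h2, ← CfsgLib.RankThree.comm_pow_right (by rw [h2]; exact h3),
          commutatorElement_eq_one_iff_mul_comm]
        exact h7.eq
      rw [← map_pow] at h9
      obtain ⟨l, rfl⟩ := CfsgLib.RankThree.dvd_of_pow_mem (A := D.C) (hup ▸ one_mem _) huC
        ((QuotientGroup.eq_one_iff _).1 h9)
      rw [pow_mul]
      exact mul_mem (pow_mem (powA_le_W (subset_closure ⟨b, hb, rfl⟩)) l) hv
    obtain ⟨h, hh, n, hn, rfl, hcj⟩ := exists_norm hS hg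
    rw [act_comp h n (W_le_left P hx0)] at hgx
    refine hgx (hMW h hh _ (hWconv _ (act_mem n (W_le_left P hx0)) fun s => ?_))
    obtain ⟨s', hs'⟩ := hcj s
    have hxA := W_le_left P hx0
    have h1 := act_cj (A := P.A) s (act_mem n hxA)
    rw [← act_comp _ _ hxA, hs', act_comp _ _ hxA, act_cj s' hxA] at h1
    have h2 : ⁅s, act P.A n x0⁆ = act P.A n ⁅s', x0⁆ := by
      rw [commutatorElement_def, ← h1, commutatorElement_def,
        act_mul n (‹P.A.E.Normal›.conj_mem x0 hxA s') (inv_mem hxA), act_inv n hxA]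
    rw [h2]
    have hz := hWZ x0 hx0 s'
    refine hzf _ (act_mem_of_inv hiz hn (hozle hz)) fun t => ?_
    obtain ⟨t', ht'⟩ := hcj t
    have h3 := act_cj (A := P.A) t (act_mem n (hozA hz))
    rw [← act_comp _ _ (hozA hz), ht', act_comp _ _ (hozA hz), act_cj t' (hozA hz),
      Subgroup.mem_center_iff.1 hz.1 t', mul_inv_cancel_right] at h3
    exact eq_mul_inv_iff_mul_eq.1 h3
  · -- otherwise `r` would be central
    have hz1I : P.A.orbit (oz p S) ≤ I := hI ▸ le_sup_left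
    have hc1I : D.c1 ∉ I := fun h => by
      obtain ⟨i, j, rfl⟩ := D.C_gen r hr
      exact hrI (mul_mem (pow_mem h i) (pow_mem hdI j))
    have hrp : r ^ p = 1 := by
      have e := hup
      rwa [hkr, ((D.comm_w hS hmv (W_le_left P (D.C_le hr))).pow_left k).mul_pow, ← pow_mul,
        mul_comm k, pow_mul, D.z1_pow hS hmv, one_pow, one_mul] at e
    have hoz : ∀ z ∈ oz p S, z ∈ zpowers D.d := by
      intro z hz
      obtain ⟨i, j, rfl⟩ := D.C_gen z (D.oz_le hz)
      have hci : D.c1 ^ i ∈ oz p S := by simpa using mul_mem hz (inv_mem (pow_mem D.d_oz j))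
      by_cases hi : p ∣ i
      · obtain ⟨l, rfl⟩ := hi
        have h1 : D.c1 ^ (p * l) = 1 := by
          have hc : D.c1 ^ p = 1 := by
            obtain ⟨i', j', hij⟩ := D.C_gen r hr
            have hi' : ¬ p ∣ i' := fun ⟨t, ht⟩ => hrI (by
              rw [hij, ht, pow_mul]; exact mul_mem (pow_mem hcp t) (pow_mem hdI j'))
            have e := hrp
            rw [hij, ((D.d_central _).symm.pow_pow i' j').mul_pow, ← pow_mul, ← pow_mul, mul_comm j',
              pow_mul D.d, D.d_pow, one_pow, mul_one, mul_comm, pow_mul] at e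
            obtain ⟨m, hm⟩ := hS D.c1
            have hco : (orderOf (D.c1 ^ p)).Coprime i' := Nat.Coprime.coprime_dvd_left
              (orderOf_dvd_of_pow_eq_one (n := p ^ m)
                (by rw [← pow_mul, mul_comm, pow_mul, hm, one_pow]))
              (Nat.Coprime.pow_left m (hp.out.coprime_iff_not_dvd.2 hi'))
            exact orderOf_eq_one_iff.1 (hco.eq_one_of_dvd (orderOf_dvd_of_pow_eq_one e))
          rw [pow_mul, hc, one_pow]
        rw [h1, one_mul]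
        exact pow_mem (mem_zpowers _) j
      · exfalso
        obtain ⟨m, hm⟩ := hS D.c1
        have hord : orderOf D.c1 ∣ p ^ m := orderOf_dvd_of_pow_eq_one hm
        have hco : (orderOf D.c1).Coprime i :=
          Nat.Coprime.coprime_dvd_left hord (Nat.Coprime.pow_left m (hp.out.coprime_iff_not_dvd.2 hi))
        obtain ⟨n, hn⟩ := exists_pow_eq_self_of_coprime hco.symm
        exact hc1I (hz1I (hozle (hn ▸ pow_mem hci n)))
    have hbr : ⁅b, r⁆ = 1 := by
      obtain ⟨n, hn⟩ := exists_nat_pow (hoz _ (hEW b hb r (D.C_le hr)))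
      by_contra h1
      refine D.d_not_mem hS hmv der_inv (D.der_le hS hmv) ?_
      have h2 : D.d ^ n ∈ der P := hn ▸ Subgroup.commutator_mem_commutator hb (W_le_left P (D.C_le hr))
      have hnd : ¬ p ∣ n := fun ⟨t, ht⟩ => h1 (by rw [hn, ht, pow_mul, D.d_pow, one_pow])
      have hco : (orderOf D.d).Coprime n := Nat.Coprime.coprime_dvd_left
        (orderOf_dvd_of_pow_eq_one D.d_pow) (hp.out.coprime_iff_not_dvd.2 hnd)
      obtain ⟨t, ht⟩ := exists_pow_eq_self_of_coprime hco.symm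
      exact ht ▸ pow_mem h2 t
    have hrc : ∀ s : S, Commute r s := by
      intro s
      obtain ⟨t, e, he, rfl⟩ := D.S_dec s
      obtain ⟨i, v, hv, rfl⟩ := A_dec hb hbB he
      exact ((D.comm_a hr).symm.pow_right t).mul_right
        ((Commute.pow_right (show Commute r b from
          (commutatorElement_eq_one_iff_mul_comm.1 hbr).symm) i).mul_right
          (D.comm_W hS hmv (D.C_le hr) hv))
    exact hrI (hz1I (hozle ⟨Subgroup.mem_center_iff.2 fun s => (hrc s).eq.symm, hrp⟩))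

theorem comm_a_pow (hS : IsPGroup p S) (hp2 : p ≠ 2) (hmv : ¬ P.A.Inv (oz p S))
    (hab : ∀ x ∈ P.A.E, ∀ y ∈ P.A.E, Commute x y) {x : S} (hx : x ∈ P.A.E) : x ^ p ∈ D.C := by
  haveI := P.A.normal
  refine D.mem_C_of_mem_W (powA_le_W (subset_closure ⟨x, hx, rfl⟩)) ?_
  obtain ⟨b, hb, hbB⟩ := exists_b (P := P)
  have hcx : ∀ y ∈ P.A.E, ⁅D.a, y⁆ ∈ P.A.E := fun y hy => by
    rw [commutatorElement_def]; exact mul_mem (‹P.A.E.Normal›.conj_mem y hy D.a) (inv_mem hy)
  rw [CfsgLib.RankThree.comm_pow_right (hab x hx _ (hcx x hx))]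
  obtain ⟨i, v, hv, rfl⟩ := A_dec hb hbB hx
  have hW := hab (b ^ i) (pow_mem hb i) _ (hcx v (W_le_left P hv))
  rw [CfsgLib.RankThree.comm_mul_right hW,
    CfsgLib.RankThree.comm_pow_right (hab b hb _ (hcx b hb))]
  obtain ⟨n, hn⟩ := exists_nat_pow (D.comm_a_W hv)
  rw [hn, ((D.d_central _).symm.pow_right n).mul_pow, ← pow_mul _ i p, mul_comm i p, pow_mul,
    D.comm_ab_pow hS hp2 hmv hb, one_pow, one_mul, ← pow_mul, mul_comm, pow_mul, D.d_pow, one_pow]

/-- An invariant line and a subgroup of `C` containing the commutators of `E_A`. -/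
theorem exists_line (hS : IsPGroup p S) (hp2 : p ≠ 2) (hr : Cfsg.SectionalPRankLE p 3 S)
    (hmv : ¬ P.A.Inv (oz p S)) :
    ∃ L K : Subgroup S, P.A.Inv L ∧ P.A.Inv K ∧ L ≤ K ∧ L ≤ oz p S ∧ K ≤ D.C ∧ der P ≤ K ∧
      (∀ z ∈ oz p S, ∃ l ∈ L, ∃ j : ℕ, z = l * D.d ^ j) := by
  haveI := P.A.normal
  have hiz := P.A.inv_orbit (fun x (hx : x ∈ oz p S) => P.A.center_le hx.1)
  by_cases hsmall : ∀ z ∈ oz p S, z ∈ zpowers D.d
  · refine ⟨⊥, der P, P.A.inv_bot, der_inv, bot_le, bot_le, D.der_le hS hmv, le_rfl, fun z hz => ?_⟩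
    obtain ⟨j, hj⟩ := exists_nat_pow (hsmall z hz)
    exact ⟨1, one_mem _, j, by rw [one_mul, hj]⟩
  push Not at hsmall
  obtain ⟨z1, hz1, hz1d⟩ := hsmall
  -- a non-trivial invariant subgroup of `C`
  obtain ⟨K, hKi, hKC, hKd, hKne⟩ : ∃ K, P.A.Inv K ∧ K ≤ D.C ∧ der P ≤ K ∧ K ≠ ⊥ := by
    by_cases hd : der P = ⊥
    · have hab : ∀ x ∈ P.A.E, ∀ y ∈ P.A.E, Commute x y := fun x hx y hy =>
        commutatorElement_eq_one_iff_mul_comm.1
          (mem_bot.1 (hd ▸ Subgroup.commutator_mem_commutator hx hy))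
      refine ⟨powA P, powA_inv, (closure_le _).2 ?_, hd ▸ bot_le, fun hP => ?_⟩
      · rintro _ ⟨x, hx, rfl⟩
        exact D.comm_a_pow hS hp2 hmv hab hx
      have hexp : ∀ x ∈ P.A.E, x ^ p = 1 := fun x hx =>
        mem_bot.1 (hP ▸ subset_closure ⟨x, hx, rfl⟩)
      obtain ⟨b, hb, hbB⟩ := exists_b (P := P)
      -- four independent elements of order `p`
      have h3 := CfsgLib.RankThree.relIndex_le hr (H := P.A.E) (K := ⊥)
        (fun x hx y hy => mem_bot.2 (commutatorElement_eq_one_iff_mul_comm.2 (hab x hx y hy).eq))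
        (fun x hx => mem_bot.2 (hexp x hx))
      haveI : (oz p S).Normal := ⟨fun x hx s => by
        rwa [Subgroup.mem_center_iff.1 hx.1 s, mul_inv_cancel_right]⟩
      haveI := D.zpowers_d_normal
      haveI := W_normal P
      have hdle : zpowers D.d ≤ oz p S := zpowers_le.2 D.d_oz
      have hp0 : ∀ {N H : Subgroup S} {x : S}, x ∈ H → x ∉ N → p ≤ N.relIndex H := fun hxH hxN =>
        Nat.le_of_dvd (Nat.pos_of_ne_zero Subgroup.index_ne_zero_of_finite)
          (relIndex_prime_of_not_mem hS hxH hxN)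
      rw [← Subgroup.relIndex_mul_relIndex ⊥ (zpowers D.d) P.A.E bot_le
          (hdle.trans (fun x hx => P.A.center_le hx.1)),
        ← Subgroup.relIndex_mul_relIndex (zpowers D.d) (oz p S) P.A.E hdle
          (fun x hx => P.A.center_le hx.1),
        ← Subgroup.relIndex_mul_relIndex (oz p S) P.W P.A.E
          (D.oz_le.trans D.C_le) (W_le_left P)] at h3
      have e1 := hp0 (N := ⊥) (mem_zpowers D.d) (fun h => D.d_ne (mem_bot.1 h))
      have e2 := hp0 (N := zpowers D.d) hz1 hz1d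
      have e3 := hp0 (N := oz p S) D.w_mem_W (fun h => D.w_not_mem (D.oz_le h))
      have e4 := hp0 (N := P.W) hb (fun h => hbB (W_le_right P h))
      have h4 := (Nat.mul_le_mul e1 (Nat.mul_le_mul e2 (Nat.mul_le_mul e3 e4))).trans h3
      have h5 : p * (p * (p * p)) = p ^ 3 * p := by ring
      rw [h5] at h4
      exact absurd (Nat.le_of_mul_le_mul_left (by simpa using h4) (pow_pos hp.out.pos 3))
        (not_le.2 hp.out.one_lt)
    · exact ⟨der P, der_inv, D.der_le hS hmv, le_rfl, hd⟩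
  haveI : K.Normal := hKi.normal
  haveI : Group.IsNilpotent S := hS.isNilpotent
  obtain ⟨z0, hz0, hz01⟩ := Subgroup.ne_bot_iff_exists_ne_one.1
    (CfsgLib.Solvable.normal_inf_center_ne_bot K hKne) |> fun ⟨x, hx⟩ =>
      (⟨(x : S), x.2, fun e => hx (Subtype.ext e)⟩ : ∃ z, z ∈ K ⊓ center S ∧ z ≠ 1)
  obtain ⟨t, ht⟩ := exists_prime_orderOf_dvd_card' (G := zpowers z0) p (by
    obtain ⟨m, hm⟩ := IsPGroup.iff_card.1 (hS.to_subgroup (zpowers z0))
    rw [hm]
    refine dvd_pow_self p fun h => hz01 ?_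
    rw [h, pow_zero, Nat.card_zpowers] at hm
    exact orderOf_eq_one_iff.1 hm)
  have htp : (t : S) ^ p = 1 := by rw [← ht, ← Subgroup.orderOf_coe]; exact pow_orderOf_eq_one _
  have ht1 : (t : S) ≠ 1 := fun e => hp.out.ne_one (by
    rw [← ht, ← Subgroup.orderOf_coe, e, orderOf_one])
  have htoz : (t : S) ∈ oz p S := ⟨zpowers_le.2 hz0.2 t.2, htp⟩
  refine ⟨K ⊓ P.A.orbit (oz p S), K, P.A.inv_inf hKi hiz.1, hKi, inf_le_left,
    fun x hx => D.mem_oz hS hmv hx.2 (hKC hx.1), hKC, hKd, fun z hz => ?_⟩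
  have htL : (t : S) ∈ K ⊓ P.A.orbit (oz p S) := ⟨zpowers_le.2 hz0.1 t.2, hiz.2.1 htoz⟩
  have htd : (t : S) ∉ zpowers D.d := fun h => by
    obtain ⟨n, hn⟩ := exists_nat_pow h
    have hnd : ¬ p ∣ n := fun ⟨u, hu⟩ => ht1 (by rw [hn, hu, pow_mul, D.d_pow, one_pow])
    obtain ⟨u, hu⟩ := exists_pow_eq_self_of_coprime (x := D.d) (Nat.Coprime.coprime_dvd_left
      (orderOf_dvd_of_pow_eq_one D.d_pow) (hp.out.coprime_iff_not_dvd.2 hnd)).symm
    exact D.d_not_mem hS hmv hKi hKC (hu ▸ pow_mem (hn ▸ htL.1) u)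
  -- the subgroup `⟨t⟩⟨d⟩` is all of `Ω₁(Z(S))`
  haveI := D.zpowers_d_normal
  have hstep : (zpowers D.d).relIndex (zpowers D.d ⊔ zpowers (t : S)) = p :=
    relIndex_sup_zpowers htd (by rw [htp]; exact one_mem _)
  by_contra hno
  haveI : (zpowers D.d ⊔ zpowers (t : S)).Normal := ⟨fun x hx s => by
    have hxc : x ∈ oz p S := sup_le (zpowers_le.2 D.d_oz) (zpowers_le.2 htoz) hx
    rwa [Subgroup.mem_center_iff.1 hxc.1 s, mul_inv_cancel_right]⟩
  have hzno : z ∉ zpowers D.d ⊔ zpowers (t : S) := fun h => by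
    obtain ⟨u, hu, v, hv, rfl⟩ := Subgroup.mem_sup_of_normal_left.1 h
    obtain ⟨j, rfl⟩ := exists_nat_pow hu
    exact hno ⟨v, zpowers_le.2 htL hv, j, ((D.d_central v).pow_left j).eq⟩
  -- two elements of order `p` in the cyclic group `C / ⟨d⟩`
  obtain ⟨i, j, hij⟩ := D.C_gen _ (D.oz_le htoz)
  obtain ⟨i', j', hij'⟩ := D.C_gen _ (D.oz_le hz)
  set q := QuotientGroup.mk' (zpowers D.d) with hq
  have hd1 : q D.d = 1 := (QuotientGroup.eq_one_iff _).2 (mem_zpowers _)
  have hqt : q t = q D.c1 ^ i := by rw [hij, map_mul, map_pow, map_pow, hd1, one_pow, mul_one]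
  have hqz : q z = q D.c1 ^ i' := by rw [hij', map_mul, map_pow, map_pow, hd1, one_pow, mul_one]
  have hcyc : q z ∈ zpowers (q (t : S)) := by
    haveI : IsCyclic (zpowers (q D.c1)) := inferInstance
    have hmem : ∀ k : ℕ, q D.c1 ^ k ∈ zpowers (q D.c1) := fun k => pow_mem (mem_zpowers _) k
    have hcard : Nat.card (zpowers (q (t : S))) = p := by
      rw [Nat.card_zpowers]
      exact orderOf_eq_prime (by rw [← map_pow, htp, map_one])
        (fun e => htd ((QuotientGroup.eq_one_iff _).1 e))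
    have hle : zpowers (q (t : S)) ≤ zpowers (q D.c1) := zpowers_le.2 (hqt ▸ hmem i)
    have hzle : zpowers (q z) ≤ zpowers (q D.c1) := zpowers_le.2 (hqz ▸ hmem i')
    rcases eq_or_ne (q z) 1 with h | h
    · rw [h]; exact one_mem _
    have hcardz : Nat.card (zpowers (q z)) = p := by
      rw [Nat.card_zpowers]
      exact orderOf_eq_prime (by rw [← map_pow, hz.2, map_one]) h
    have := subgroup_eq_of_card (H := (zpowers (q (t : S))).subgroupOf (zpowers (q D.c1)))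
      (K := (zpowers (q z)).subgroupOf (zpowers (q D.c1))) (by
        rw [Nat.card_congr (subgroupOfEquivOfLe hle).toEquiv,
          Nat.card_congr (subgroupOfEquivOfLe hzle).toEquiv, hcard, hcardz])
    have h2 : (⟨q z, hzle (mem_zpowers _)⟩ : zpowers (q D.c1)) ∈
        (zpowers (q z)).subgroupOf (zpowers (q D.c1)) := mem_subgroupOf.2 (mem_zpowers _)
    rw [← this] at h2
    exact mem_subgroupOf.1 h2
  obtain ⟨n, hn⟩ := exists_nat_pow hcyc
  refine hzno ?_
  have h1 : ((t : S) ^ n)⁻¹ * z ∈ zpowers D.d := by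
    rw [← QuotientGroup.eq_one_iff]
    show q _ = 1
    rw [map_mul, map_inv, map_pow, ← hn, inv_mul_cancel]
  rw [show z = (t : S) ^ n * (((t : S) ^ n)⁻¹ * z) by group]
  exact mul_mem (mem_sup_right (pow_mem (mem_zpowers _) n)) (mem_sup_left h1)

theorem false_of_invariant (hS : IsPGroup p S) (hp2 : p ≠ 2) (hr : Cfsg.SectionalPRankLE p 3 S)
    (hmv : ¬ P.A.Inv (oz p S)) (hW : P.A.Inv P.W) : False := by
  obtain ⟨hzp, hzc, hzf, -⟩ := P.A.z1_facts hmv
  obtain ⟨L, K, hL, hK, hLK, hLZ, hKC, hder, hspan⟩ := D.exists_line hS hp2 hr hmv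
  obtain ⟨hiz, hozle, -⟩ := P.A.inv_orbit (fun x (hx : x ∈ oz p S) => P.A.center_le hx.1)
  haveI := P.A.normal
  haveI := P.B.normal
  haveI := W_normal P
  haveI hLn : L.Normal := hL.normal
  haveI hKn : K.Normal := hK.normal
  haveI hozn : (oz p S).Normal := ⟨fun x hx s => by
    rwa [Subgroup.mem_center_iff.1 hx.1 s, mul_inv_cancel_right]⟩
  have hdK : D.d ∉ K := D.d_not_mem hS hmv hK hKC
  have hz1dec : ∀ x ∈ P.A.orbit (oz p S), ∃ i : ℕ, ∃ z ∈ oz p S, x = D.w ^ i * z := by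
    intro x hx
    obtain ⟨i, r, hr', rfl⟩ := D.W_dec x (D.z1_le hx)
    exact ⟨i, r, D.mem_oz hS hmv (by simpa using mul_mem (inv_mem (pow_mem D.w_mem i)) hx) hr', rfl⟩
  have hle : L ≤ P.A.orbit (oz p S) := hLZ.trans hozle
  have hidx : L.relIndex (P.A.orbit (oz p S)) = p ^ 2 := by
    have h1 : L ⊔ zpowers D.d = oz p S := by
      refine le_antisymm (sup_le hLZ (zpowers_le.2 D.d_oz)) fun z hz => ?_
      obtain ⟨l, hl, j, rfl⟩ := hspan z hz
      exact mul_mem (mem_sup_left hl) (mem_sup_right (pow_mem (mem_zpowers _) j))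
    have h2 : oz p S ⊔ zpowers D.w = P.A.orbit (oz p S) := by
      refine le_antisymm (sup_le hozle (zpowers_le.2 D.w_mem)) fun x hx => ?_
      obtain ⟨i, z, hz, rfl⟩ := hz1dec x hx
      exact mul_mem (mem_sup_right (pow_mem (mem_zpowers _) i)) (mem_sup_left hz)
    rw [← Subgroup.relIndex_mul_relIndex L (oz p S) _ hLZ hozle]
    conv_lhs => rw [← h2]
    rw [relIndex_sup_zpowers (fun h => D.w_not_mem (D.oz_le h))
      (by rw [D.z1_pow hS hmv]; exact one_mem _)]
    conv_lhs => rw [← h1]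
    rw [relIndex_sup_zpowers (fun h => hdK (hLK h)) (by rw [D.d_pow]; exact one_mem _), pow_two]
  have hirr : ∀ N, P.A.Inv N → L ≤ N → N ≤ P.A.orbit (oz p S) → N = L ∨ N = P.A.orbit (oz p S) := by
    intro N hN hLN hNz
    haveI := hN.normal
    by_cases hNoz : N ≤ oz p S
    · left
      refine le_antisymm (fun x hx => ?_) hLN
      obtain ⟨l, hl, j, rfl⟩ := hspan x (hNoz hx)
      have hdj : D.d ^ j ∈ N := by simpa using mul_mem (inv_mem (hLN hl)) hx
      by_cases hj : p ∣ j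
      · obtain ⟨u, rfl⟩ := hj
        rwa [pow_mul, D.d_pow, one_pow, mul_one]
      · exfalso
        obtain ⟨u, hu⟩ := exists_pow_eq_self_of_coprime (x := D.d) (Nat.Coprime.coprime_dvd_left
          (orderOf_dvd_of_pow_eq_one D.d_pow) (hp.out.coprime_iff_not_dvd.2 hj)).symm
        refine D.d_not_mem hS hmv hN (fun y hy => D.oz_le (hNoz hy)) (hu ▸ pow_mem hdj u)
    · right
      obtain ⟨x, hx, hxZ⟩ := SetLike.not_le_iff_exists.1 hNoz
      obtain ⟨i, z, hz, rfl⟩ := hz1dec x (hNz hx)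
      have hi : ¬ p ∣ i := fun ⟨u, hu⟩ => hxZ (by
        rw [hu, pow_mul, D.z1_pow hS hmv, one_pow, one_mul]; exact hz)
      obtain ⟨u, hu⟩ := exists_pow_eq_self_of_coprime (x := D.w) (Nat.Coprime.coprime_dvd_left
        (orderOf_dvd_of_pow_eq_one (D.z1_pow hS hmv)) (hp.out.coprime_iff_not_dvd.2 hi)).symm
      have hdi : ⁅D.a, D.w ^ i * z⁆ ∈ N := by
        rw [commutatorElement_def]
        exact mul_mem (‹N.Normal›.conj_mem _ hx D.a) (inv_mem hx)
      rw [D.comm_a_dec i (D.oz_le hz)] at hdi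
      obtain ⟨v, hv⟩ := exists_pow_eq_self_of_coprime (x := D.d) (Nat.Coprime.coprime_dvd_left
        (orderOf_dvd_of_pow_eq_one D.d_pow) (hp.out.coprime_iff_not_dvd.2 hi)).symm
      have hdN : D.d ∈ N := hv ▸ pow_mem hdi v
      have hozN : oz p S ≤ N := fun z hz => by
        obtain ⟨l, hl, j, rfl⟩ := hspan z hz
        exact mul_mem (hLN hl) (pow_mem hdN j)
      have hwi : D.w ^ i ∈ N := by simpa using mul_mem hx (inv_mem (hozN hz))
      have hwN : D.w ∈ N := hu ▸ pow_mem hwi u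
      refine le_antisymm hNz fun x hx => ?_
      obtain ⟨j, y, hy, rfl⟩ := hz1dec x hx
      exact mul_mem (pow_mem hwN j) (hozN hy)
  obtain ⟨τ, hτ, -, hτn, hτi⟩ := P.A.exists_neg hS hp2 hiz hL hle hidx
    (fun x hx y hy => by
      rw [commutatorElement_eq_one_iff_mul_comm.2 (hzc x hx y (hiz.1 hy))]; exact one_mem _)
    (fun x hx => by rw [hzp x hx]; exact one_mem _) hirr
    ⟨D.a, D.w, D.w_mem, by rw [D.d_def]; exact fun h => hdK (hLK h)⟩
  -- the action modulo `K`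
  set q := QuotientGroup.mk' K with hq
  have hq1 : ∀ z ∈ K, q z = 1 := fun z hz => (QuotientGroup.eq_one_iff z).2 hz
  have hqc : ∀ x ∈ P.A.E, ∀ y ∈ P.A.E, Commute (q x) (q y) := fun x hx y hy => by
    show _ * _ = _ * _
    rw [← commutatorElement_eq_one_iff_mul_comm, ← map_commutatorElement,
      hq1 _ (hder (Subgroup.commutator_mem_commutator hx hy))]
  have hneg : ∀ x ∈ P.A.orbit (oz p S), q (act P.A τ x) = (q x)⁻¹ := fun x hx => by
    rw [eq_inv_iff_mul_eq_one, (hqc _ (act_mem τ (hiz.1 hx)) x (hiz.1 hx)).eq, ← map_mul,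
      act_coe τ ⟨x, hiz.1 hx⟩]
    exact hq1 _ (hLK (hτi ⟨x, hiz.1 hx⟩ hx))
  obtain ⟨s', hs'⟩ := hτn D.a
  obtain ⟨i, e, he, rfl⟩ := D.S_dec s'
  have hconj : ∀ x ∈ P.A.E, q (act P.A τ (D.a * x * D.a⁻¹))
      = q (D.a ^ i * act P.A τ x * (D.a ^ i)⁻¹) := by
    intro x hx
    have h1 : act P.A (τ * P.A.cj D.a) x = act P.A (P.A.cj (D.a ^ i * e) * τ) x := by
      rw [← hs', inv_mul_cancel_right]
    rw [act_comp _ _ hx, act_comp _ _ hx, act_cj _ hx, act_cj _ (act_mem τ hx)] at h1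
    rw [h1, show D.a ^ i * e * act P.A τ x * (D.a ^ i * e)⁻¹
      = D.a ^ i * (e * act P.A τ x * e⁻¹) * (D.a ^ i)⁻¹ by group]
    simp only [map_mul, map_inv, (hqc e he _ (act_mem τ hx)).eq, mul_inv_cancel_right]
  have hWtau : ∀ x ∈ P.W, act P.A τ x ∈ P.W := fun x hx => act_mem_of_inv hW (M_le_G hτ) hx
  have hqd : q D.d ≠ 1 := fun h => hdK ((QuotientGroup.eq_one_iff _).1 h)
  have hqdp : q D.d ^ p = 1 := by rw [← map_pow, D.d_pow, map_one]
  have hdz : D.d ∈ P.A.orbit (oz p S) := hozle D.d_oz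
  have hdA : D.d ∈ P.A.E := hiz.1 hdz
  -- conjugation by `a` on `W`, through `τ`
  have hmain : ∀ x ∈ P.W, ∀ n m : ℕ, ⁅D.a, x⁆ = D.d ^ n → ⁅D.a ^ i, act P.A τ x⁆ = D.d ^ m →
      q D.d ^ (n + m) = 1 := by
    intro x hx n m hn hm
    have h1 := hconj x (W_le_left P hx)
    rw [show D.a * x * D.a⁻¹ = D.d ^ n * x by rw [← hn, commutatorElement_def, inv_mul_cancel_right],
      show D.a ^ i * act P.A τ x * (D.a ^ i)⁻¹ = D.d ^ m * act P.A τ x by
        rw [← hm, commutatorElement_def, inv_mul_cancel_right],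
      act_mul τ (pow_mem hdA n) (W_le_left P hx), act_pow τ hdA, map_mul, map_mul, map_pow, map_pow,
      hneg _ hdz] at h1
    have h2 := mul_right_cancel h1
    rw [inv_pow, inv_eq_iff_mul_eq_one, ← pow_add] at h2
    exact h2
  have hn0 : ∀ x ∈ P.W, ∀ m : ℕ, ⁅D.a, x⁆ = D.d ^ m → ⁅D.a ^ i, x⁆ = D.d ^ (m * i) := by
    intro x _ m hm
    rw [CfsgLib.RankThree.comm_pow_left (by rw [hm]; exact ((D.d_central _).pow_left m).symm), hm,
      ← pow_mul]
  have hi1 : q D.d ^ i = q D.d := by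
    have hτw := hWtau _ D.w_mem_W
    obtain ⟨m, hm⟩ := exists_nat_pow (D.comm_a_W hτw)
    -- the commutator with `a` of `τ w` is `d⁻¹`
    have hm1 : q D.d ^ (1 + m) = 1 := by
      have h3 : ⁅q D.a, q (act P.A τ D.w)⁆ = q D.d ^ m := by rw [← map_commutatorElement, hm, map_pow]
      have h4 : ⁅q D.a, q D.w⁆ = q D.d := by rw [← map_commutatorElement, D.d_def]
      rw [hneg _ D.w_mem] at h3
      have h5 : Commute (q D.w) ⁅q D.a, (q D.w)⁻¹⁆ := by
        rw [← map_inv, ← map_commutatorElement]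
        exact hqc _ (W_le_left P D.w_mem_W) _ (mul_mem (‹P.A.E.Normal›.conj_mem _
          (inv_mem (W_le_left P D.w_mem_W)) _) (inv_mem (inv_mem (W_le_left P D.w_mem_W))))
      have h6 := CfsgLib.RankThree.comm_mul_right h5
      rw [mul_inv_cancel, commutatorElement_one_right, h3, h4, ← pow_succ', eq_comm] at h6
      rwa [add_comm]
    have h2 := hmain D.w D.w_mem_W 1 (m * i) (by rw [pow_one, D.d_def]) (hn0 _ hτw m hm)
    calc q D.d ^ i = q D.d ^ i * q D.d ^ (1 + m * i) := by rw [h2, mul_one]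
      _ = q D.d * (q D.d ^ (1 + m)) ^ i := by rw [← pow_mul, ← pow_succ', ← pow_add]; ring_nf
      _ = q D.d := by rw [hm1, one_pow, mul_one]
  have hai : D.a ^ i = D.a := by
    have hmod : i ≡ 1 [MOD p] := by
      have := pow_eq_pow_iff_modEq.1 (show q D.d ^ i = q D.d ^ 1 by rw [pow_one, hi1])
      rwa [orderOf_eq_prime hqdp hqd] at this
    rw [CfsgLib.RankThree.pow_eq_pow_zmod D.a_pow ((ZMod.natCast_eq_natCast_iff _ _ _).2 hmod),
      pow_one]
  rw [hai] at hconj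
  have hpair : ∀ x ∈ P.W, x * act P.A τ x ∈ D.C := by
    intro x hx
    have hτx := hWtau x hx
    obtain ⟨n, hn⟩ := exists_nat_pow (D.comm_a_W hx)
    obtain ⟨m, hm⟩ := exists_nat_pow (D.comm_a_W hτx)
    have h2 := hmain x hx n m hn (hai.symm ▸ hm)
    refine D.mem_C_of_mem_W (mul_mem hx hτx) ?_
    rw [CfsgLib.RankThree.comm_mul_right (by rw [hm]; exact ((D.d_central _).pow_left m).symm), hn, hm,
      ← pow_add]
    obtain ⟨u, hu⟩ := dvd_of_pow_eq_one (x := q D.d) hqdp hqd h2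
    rw [hu, pow_mul, D.d_pow, one_pow]
  -- the image of `b`
  obtain ⟨b, hb, hbB⟩ := exists_b (P := P)
  have hgenW : ∀ y ∈ P.A.E, ∃ j : ℕ, ∃ v ∈ P.W, y = b ^ j * v := fun y hy => A_dec hb hbB hy
  have hbp : b ^ p ∈ P.W := powA_le_W (subset_closure ⟨b, hb, rfl⟩)
  have hv : b⁻¹ * act P.A τ b ∈ P.W := by
    rw [act_coe τ ⟨b, hb⟩]
    exact P.A.fixes_of_comm P.A.inv_E hW
      (fun s y hy => comm_mem_of_step hS (W_le_left P) hb hbp hgenW s hy) τ hτ ⟨b, hb⟩ hb
  obtain ⟨v, hv', hvb⟩ : ∃ v, v ∈ P.W ∧ act P.A τ b = b * v := ⟨_, hv, by group⟩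
  obtain ⟨u, hu⟩ : ∃ u, u = ⁅D.a, b⁆ := ⟨_, rfl⟩
  have huW : u ∈ P.W := hu ▸ D.comm_ab_mem_W hb
  obtain ⟨n, hn⟩ := exists_nat_pow (D.comm_a_W hv')
  have hub : D.a * b * D.a⁻¹ = u * b := by rw [hu, commutatorElement_def, inv_mul_cancel_right]
  have hvv : D.a * v * D.a⁻¹ = D.d ^ n * v := by rw [← hn, commutatorElement_def, inv_mul_cancel_right]
  have h1 := hconj b hb
  rw [hub, act_mul τ (W_le_left P huW) hb, hvb,
    show D.a * (b * v) * D.a⁻¹ = (D.a * b * D.a⁻¹) * (D.a * v * D.a⁻¹) by group, hub, hvv,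
    show u * b * (D.d ^ n * v) = u * D.d ^ n * (b * v) by
      rw [← mul_assoc (u * b), mul_assoc u b, ← ((D.d_central b).pow_left n).eq]; group,
    map_mul q (act P.A τ u), map_mul q (u * D.d ^ n)] at h1
  have h2 : (act P.A τ u)⁻¹ * (u * D.d ^ n) ∈ K := QuotientGroup.eq.1 (mul_right_cancel h1)
  have hτu : act P.A τ u ∈ P.W := hWtau u huW
  have h3 : u ^ 2 ∈ D.C := by
    have h4 := mul_mem (mul_mem (hpair u huW) (hKC h2)) (inv_mem (pow_mem D.d_mem n))
    rw [show u * act P.A τ u * ((act P.A τ u)⁻¹ * (u * D.d ^ n)) * (D.d ^ n)⁻¹ = u ^ 2 by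
      rw [pow_two]; group] at h4
    exact h4
  have huC : u ∉ D.C := hu ▸ D.comm_ab_not_mem hS hmv hb hbB
  have hup : u ^ p = 1 := hu ▸ D.comm_ab_pow hS hp2 hmv hb
  exact hp2 ((Nat.prime_dvd_prime_iff_eq hp.out Nat.prime_two).1
    (CfsgLib.RankThree.dvd_of_pow_mem (A := D.C) (hup ▸ one_mem _) huC h3))

end Data

end CfsgLib.RankThreePair.TwoNonab

namespace CfsgLib.RankThreePair

/-- The orbit of `Ω₁(Z(S))` under a side moving it does not generate a non-commutative set under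
the other side. -/
theorem case_two_nonab {S : Type*} [Group S] [Finite S] {p : ℕ} [Fact p.Prime] (hp2 : p ≠ 2)
    (hS : IsPGroup p S) (hr : Cfsg.SectionalPRankLE p 3 S) (P : Pair p S)
    (hmv : ¬ P.A.Inv (oz p S)) (hle : P.A.orbit (oz p S) ≤ P.B.E)
    (hnc : ∃ g ∈ P.B.G, ∃ x y : P.B.E, (x : S) ∈ P.A.orbit (oz p S) ∧ (y : S) ∈ P.A.orbit (oz p S) ∧
      ¬ Commute x (g y)) : False := by
  obtain ⟨D⟩ := TwoNonab.exists_data hS hr P hmv hle hnc
  exact D.false_of_invariant hS hp2 hr hmv (D.W_invariant hS hp2 hmv)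

end CfsgLib.RankThreePair
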