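import Cfsg.Prelude.Def_CaseTheorems
import Mathlib.GroupTheory.Sylow
import Mathlib.GroupTheory.Commutator.Basic

/-!
Two automizers of maximal subgroups of a common Sylow `p`-subgroup.
-/

set_option autoImplicit false
set_option linter.style.haveILetI false
set_option linter.unusedSectionVars false

namespace CfsgLib.RankThreePair

open Subgroup
open scoped commutatorElement

universe u

variable {S : Type*} [Group S]

/-- Conjugation on a normal subgroup. -/
def conjOf (E : Subgroup S) (h : E.Normal) : S →* MulAut E :=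
  haveI := h
  MulAut.conjNormal

theorem conjOf_apply {E : Subgroup S} (h : E.Normal) (s : S) (x : E) :
    ((conjOf E h s x : E) : S) = s * x * s⁻¹ := by
  haveI := h
  exact MulAut.conjNormal_apply s x

/-- A maximal subgroup with a group of automorphisms of which `S` induces a Sylow subgroup that is
not normal. -/
structure Side (p : ℕ) (S : Type*) [Group S] where
  E : Subgroup S
  normal : E.Normal
  index : E.index = p
  cent : Subgroup.centralizer (E : Set S) ≤ E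
  G : Subgroup (MulAut E)
  conj_le : (conjOf E normal).range ≤ G
  sylow : ¬ p ∣ (conjOf E normal).range.relIndex G
  not_normal : ¬ ((conjOf E normal).range.subgroupOf G).Normal

namespace Side

variable {p : ℕ} (A : Side p S)

/-- The automorphism induced by an element of `S`. -/
def cj : S →* MulAut A.E := conjOf A.E A.normal

theorem cj_apply (s : S) (x : A.E) : ((A.cj s x : A.E) : S) = s * x * s⁻¹ := conjOf_apply A.normal s x

theorem cj_mem (s : S) : A.cj s ∈ A.G := A.conj_le ⟨s, rfl⟩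

/-- The normal closure of the induced automorphisms. -/
def M : Subgroup (MulAut A.E) :=
  Subgroup.closure {m | ∃ g ∈ A.G, ∃ s : S, m = g * A.cj s * g⁻¹}

/-- An invariant subgroup. -/
def Inv (N : Subgroup S) : Prop :=
  N ≤ A.E ∧ ∀ g ∈ A.G, ∀ x : A.E, (x : S) ∈ N → ((g x : A.E) : S) ∈ N

/-- The automorphism acts trivially from `N` modulo `N'`. -/
def Fixes (g : MulAut A.E) (N N' : Subgroup S) : Prop :=
  ∀ x : A.E, (x : S) ∈ N → (x : S)⁻¹ * ((g x : A.E) : S) ∈ N'

/-- The subgroup generated by the images. -/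
def orbit (N : Subgroup S) : Subgroup S :=
  Subgroup.closure {y | ∃ g ∈ A.G, ∃ x : A.E, (x : S) ∈ N ∧ ((g x : A.E) : S) = y}

end Side

/-- `Ω₁(Z(S))`. -/
def oz (p : ℕ) (S : Type*) [Group S] : Subgroup S where
  carrier := {x | x ∈ Subgroup.center S ∧ x ^ p = 1}
  one_mem' := ⟨one_mem _, one_pow _⟩
  mul_mem' := fun {x y} hx hy => ⟨mul_mem hx.1 hy.1, by
    rw [(Commute.symm (Subgroup.mem_center_iff.1 hx.1 y)).mul_pow, hx.2, hy.2, one_mul]⟩
  inv_mem' := fun {x} hx => ⟨inv_mem hx.1, by rw [inv_pow, hx.2, inv_one]⟩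

theorem mem_oz {p : ℕ} {x : S} : x ∈ oz p S ↔ x ∈ Subgroup.center S ∧ x ^ p = 1 := Iff.rfl

/-- Two different sides. -/
structure Pair (p : ℕ) (S : Type*) [Group S] where
  A : Side p S
  B : Side p S
  ne : A.E ≠ B.E

namespace Pair

variable {p : ℕ} (P : Pair p S)

/-- The intersection. -/
def W : Subgroup S := P.A.E ⊓ P.B.E

/-- The two sides exchanged. -/
def swap : Pair p S := ⟨P.B, P.A, P.ne.symm⟩

theorem swap_W : P.swap.W = P.W := inf_comm _ _

/-- The inductive statement. -/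
structure Good : Prop where
  ni_A : ¬ P.A.Inv P.W
  ni_B : ¬ P.B.Inv P.W
  fix : ∀ K : Subgroup S, K ≤ P.W → K ≠ P.W → P.A.Inv K → P.B.Inv K →
    (∀ g ∈ P.A.M, (orderOf g).Coprime p → P.A.Fixes g K ⊥) ∧
      ∀ g ∈ P.B.M, (orderOf g).Coprime p → P.B.Fixes g K ⊥

end Pair

/-- The shape of a Sylow subgroup of `Sp₄(p)`: `A` elementary, `B` extraspecial. -/
structure OutSp {p : ℕ} (A B : Side p S) : Prop where
  card : Nat.card S = p ^ 4
  cardA : Nat.card A.E = p ^ 3
  cardB : Nat.card B.E = p ^ 3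
  commA : ∀ x ∈ A.E, ∀ y ∈ A.E, x * y = y * x
  expA : ∀ x ∈ A.E, x ^ p = 1
  nonabB : ∃ x ∈ B.E, ∃ y ∈ B.E, x * y ≠ y * x
  expB : ∀ x ∈ B.E, x ^ p = 1
  card_center : Nat.card (Subgroup.center S) = p
  moves : ¬ A.Inv (oz p S)

/-- The shape `p^(1+2) × C`, `C` cyclic. -/
def OutPC {p : ℕ} (P : Pair p S) : Prop :=
  ∃ (C : Subgroup S) (a b : S), IsCyclic C ∧ C ≤ Subgroup.center S ∧
    a ∈ P.B.E ∧ a ∉ P.A.E ∧ b ∈ P.A.E ∧ b ∉ P.B.E ∧ a ^ p = 1 ∧ b ^ p = 1 ∧
    ⁅b, a⁆ ∈ Subgroup.center S ∧ ⁅b, a⁆ ^ p = 1 ∧ ⁅b, a⁆ ∉ C ∧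
    P.W = Subgroup.center S ∧ P.W = C ⊔ Subgroup.zpowers ⁅b, a⁆

/-- The three shapes. -/
def Pair.Out {p : ℕ} (P : Pair p S) : Prop := OutSp P.A P.B ∨ OutSp P.B P.A ∨ OutPC P

/-- The induction hypothesis. -/
def Hyp (p n : ℕ) : Prop :=
  ∀ (T : Type u) [Group T] [Finite T], IsPGroup p T → Cfsg.SectionalPRankLE p 3 T → Nat.card T < n →
    ∀ P : Pair p T, P.Good

/-- The compatibility of a side with a side of an image. -/
structure SideMap {p : ℕ} {T : Type*} [Group T] (q : S →* T) (A : Side p S) (A' : Side p T) : Prop where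
  map_E : A.E.map q = A'.E
  push : ∀ g ∈ A.G, ∃ g' ∈ A'.G, ∀ (x : A.E) (x' : A'.E), q x = x' →
    q ((g x : A.E) : S) = ((g' x' : A'.E) : T)
  pull : ∀ g' ∈ A'.G, ∃ g ∈ A.G, ∀ (x : A.E) (x' : A'.E), q x = x' →
    q ((g x : A.E) : S) = ((g' x' : A'.E) : T)
  pushM : ∀ g ∈ A.M, (orderOf g).Coprime p → ∃ g' ∈ A'.M, (orderOf g').Coprime p ∧
    ∀ (x : A.E) (x' : A'.E), q x = x' → q ((g x : A.E) : S) = ((g' x' : A'.E) : T)

end CfsgLib.RankThreePair
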