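import Cfsg.Agent.Lib.RankThreePair.Defs

/-!
Extension of normalising automorphisms of a side.
-/

set_option autoImplicit false

namespace CfsgLib.RankThreePair

variable {S : Type*} [Group S] {p : ℕ}

/-- Normalising elements of the side extend to automorphisms preserving the other side. -/
def Side.Extends (A B : Side p S) : Prop :=
  ∀ τ ∈ A.G, (∀ s : S, ∃ s' : S, τ * A.cj s * τ⁻¹ = A.cj s') →
    ∃ φ : MulAut S, (∀ x : A.E, φ x = ((τ x : A.E) : S)) ∧ ∀ y ∈ B.E, φ y ∈ B.E

end CfsgLib.RankThreePair
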