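import Cfsg.Agent.Lib.RankThreePair.Quot
import Cfsg.Agent.Lib.RankThreePair.Ext

/-!
Extensions pass to quotients.
-/

set_option autoImplicit false
set_option linter.style.haveILetI false
set_option linter.unusedSectionVars false

namespace CfsgLib.RankThreePair

open Subgroup

variable {S T : Type*} [Group S] [Finite S] [Group T] [Finite T] {p : ℕ} [hp : Fact p.Prime]

namespace SideMap

variable {q : S →* T} {A : Side p S} {A' : Side p T}

/-- Normalising elements lift to normalising elements. -/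
theorem exists_lift (m : SideMap q A A') (hS : IsPGroup p S) (hq : Function.Surjective q)
    {τ : MulAut A'.E} (hτ : τ ∈ A'.G) (hτT : ∀ t : T, ∃ t' : T, τ * A'.cj t * τ⁻¹ = A'.cj t') :
    ∃ g ∈ A.G, (∀ s : S, ∃ s' : S, g * A.cj s * g⁻¹ = A.cj s') ∧
      ∀ (x : A.E) (x' : A'.E), q x = x' → q ((g x : A.E) : S) = ((τ x' : A'.E) : T) := by
  classical
  haveI : Finite (MulAut A.E) := Finite.of_injective _ MulEquiv.toEquiv_injective
  let π : A.E →* A'.E :=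
    (q.comp A.E.subtype).codRestrict A'.E fun x => m.map_E ▸ mem_map_of_mem q x.2
  have hπ : ∀ x : A.E, ((π x : A'.E) : T) = q x := fun x => rfl
  have hπs : Function.Surjective π := by
    intro x'
    obtain ⟨x, hx, hxx⟩ := (m.map_E.symm ▸ x'.2 : (x' : T) ∈ A.E.map q)
    exact ⟨⟨x, hx⟩, Subtype.ext hxx⟩
  have hinv : ∀ g ∈ A.G, ∀ x, π x = 1 → π (g x) = 1 := by
    intro g hg x hx
    obtain ⟨g', -, hgg⟩ := m.push g hg
    refine Subtype.ext ?_
    rw [hπ, hgg x 1 (congrArg Subtype.val hx), map_one]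
  obtain ⟨ρ, hρ⟩ := exists_push π hπs A.G hinv
  have hcompat : ∀ (g : A.G) (x : A.E) (x' : A'.E), q x = x' →
      q (((g : MulAut A.E) x : A.E) : S) = ((ρ g x' : A'.E) : T) := by
    intro g x x' hx
    rw [← show π x = x' from Subtype.ext hx, hρ, hπ]
  obtain ⟨g₀, hg₀, hgg₀⟩ := m.pull τ hτ
  have hρ₀ : ρ ⟨g₀, hg₀⟩ = τ := MulEquiv.ext fun x' => by
    obtain ⟨x, rfl⟩ := hπs x'
    refine Subtype.ext ?_
    rw [← hcompat ⟨g₀, hg₀⟩ x (π x) rfl]
    exact hgg₀ x (π x) rfl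
  let t : S →* A.G := A.cj.codRestrict A.G A.cj_mem
  have hρt : ∀ s, ρ (t s) = A'.cj (q s) := fun s => MulEquiv.ext fun x' => by
    obtain ⟨x, rfl⟩ := hπs x'
    refine Subtype.ext ?_
    rw [← hcompat (t s) x (π x) rfl, Side.cj_apply, hπ]
    show q ((A.cj s x : A.E) : S) = _
    rw [Side.cj_apply, map_mul, map_mul, map_inv]
  let Y : Subgroup A.G := A'.cj.range.comap ρ
  let NY : Subgroup A.G := Subgroup.normalizer (Y : Set A.G)
  have hfw : ∀ a : A.G, (∀ u : T, ∃ u', ρ a * A'.cj u * (ρ a)⁻¹ = A'.cj u') →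
      ∀ y ∈ Y, a * y * a⁻¹ ∈ Y := by
    intro a ha y hy
    obtain ⟨u, hu⟩ := hy
    obtain ⟨u', hu'⟩ := ha u
    exact ⟨u', by rw [map_mul, map_mul, map_inv, ← hu, hu']⟩
  have hm₀Y : (⟨g₀, hg₀⟩ : A.G) ∈ NY := by
    haveI : Finite (Y : Set A.G) := inferInstance
    refine Subgroup.mem_normalizer_fintype fun y hy => hfw _ (by rw [hρ₀]; exact hτT) y hy
  have hTY : t.range ≤ Y := by rintro _ ⟨s, rfl⟩; exact ⟨q s, (hρt s).symm⟩
  have hYN : Y ≤ NY := Subgroup.le_normalizer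
  haveI : (Y.subgroupOf NY).Normal := Subgroup.normal_in_normalizer
  have hTp : IsPGroup p ((t.range.subgroupOf NY).subgroupOf (Y.subgroupOf NY)) := by
    refine (IsPGroup.comap_of_injective ?_ _ (Subgroup.subtype_injective _))
    refine (IsPGroup.comap_of_injective ?_ _ (Subgroup.subtype_injective _))
    exact hS.of_surjective t.rangeRestrict t.rangeRestrict_surjective
  have hTidx : ¬ p ∣ ((t.range.subgroupOf NY).subgroupOf (Y.subgroupOf NY)).index := by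
    intro hd
    refine A.sylow (dvd_trans hd ?_)
    show (t.range.subgroupOf NY).relIndex (Y.subgroupOf NY) ∣ A.cj.range.relIndex A.G
    rw [Subgroup.relIndex_subgroupOf hYN]
    refine (Dvd.intro _ (Subgroup.relIndex_mul_index hTY)).trans (dvd_of_eq ?_)
    show t.range.index = (A.cj.range.subgroupOf A.G).index
    congr 1
    ext y
    exact ⟨fun ⟨s, hs⟩ => ⟨s, congrArg Subtype.val hs⟩, fun ⟨s, hs⟩ => ⟨s, Subtype.ext hs⟩⟩
  let TY : Sylow p (Y.subgroupOf NY) := hTp.toSylow hTidx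
  have htop := TY.normalizer_sup_eq_top
  have hm' : (⟨⟨g₀, hg₀⟩, hm₀Y⟩ : NY) ∈ (⊤ : Subgroup NY) := mem_top _
  rw [← htop] at hm'
  obtain ⟨n, hn, y, hy, hny⟩ := Subgroup.mem_sup_of_normal_right.1 hm'
  obtain ⟨u, hu⟩ : (y : A.G) ∈ Y := hy
  obtain ⟨s₁, rfl⟩ := hq u
  have hnT : ∀ s, ∃ s', (n : A.G) * t s * (n : A.G)⁻¹ = t s' := fun s => by
    have h1 : (⟨t s, hYN (hTY ⟨s, rfl⟩)⟩ : NY) ∈ (TY : Subgroup (Y.subgroupOf NY)).map (Y.subgroupOf NY).subtype :=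
      ⟨⟨⟨t s, hYN (hTY ⟨s, rfl⟩)⟩, hTY ⟨s, rfl⟩⟩, ⟨s, rfl⟩, rfl⟩
    obtain ⟨⟨⟨z, hz⟩, hzY⟩, ⟨s', hs'⟩, hzz⟩ := (hn _).1 h1
    exact ⟨s', (congrArg Subtype.val hzz).symm.trans hs'.symm⟩
  set g : A.G := (n : A.G) * t s₁ with hg
  have hρg : ρ g = τ := by
    have h1 : (n : A.G) * (y : A.G) = ⟨g₀, hg₀⟩ := congrArg Subtype.val hny
    rw [← hρ₀, ← h1, hg, map_mul, map_mul, hρt, hu]
  refine ⟨g, g.2, fun s => ?_, fun x x' hx => by rw [← hρg]; exact hcompat g x x' hx⟩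
  obtain ⟨s', hs'⟩ := hnT (s₁ * s * s₁⁻¹)
  refine ⟨s', congrArg Subtype.val (show g * t s * g⁻¹ = t s' from ?_)⟩
  rw [← hs', map_mul, map_mul, map_inv, hg]
  group

end SideMap

/-- Extensions pass to images. -/
theorem Side.Extends.map {q : S →* T} {A B : Side p S} {A' B' : Side p T} (h : A.Extends B)
    (hS : IsPGroup p S) (hq : Function.Surjective q) (hk : A.Inv q.ker) (mA : SideMap q A A')
    (mB : SideMap q B B') : A'.Extends B' := by
  classical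
  intro τ hτ hτT
  obtain ⟨g, hg, hgT, hgg⟩ := mA.exists_lift hS hq hτ hτT
  obtain ⟨φ, hφA, hφB⟩ := h g hg hgT
  haveI : Finite (MulAut S) := Finite.of_injective _ MulEquiv.toEquiv_injective
  have hkφ : ∀ x, q x = 1 → q (φ x) = 1 := by
    intro x hx
    have h1 : φ x = ((g ⟨x, hk.1 hx⟩ : A.E) : S) := hφA ⟨x, hk.1 hx⟩
    rw [h1]
    exact hk.2 g hg ⟨x, hk.1 hx⟩ hx
  have hall : ∀ f ∈ Subgroup.zpowers φ, ∀ x, q x = 1 → q (f x) = 1 := by
    intro f hf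
    obtain ⟨n, rfl⟩ := (Submonoid.mem_powers_iff _ _).1 (mem_powers_iff_mem_zpowers.2 hf)
    intro x hx
    induction n with
    | zero => simpa using hx
    | succ n ih => rw [pow_succ', MulAut.mul_apply]; exact hkφ _ (ih (pow_mem (Subgroup.mem_zpowers φ) n))
  obtain ⟨ρ, hρ⟩ := exists_push q hq (Subgroup.zpowers φ) hall
  refine ⟨ρ ⟨φ, Subgroup.mem_zpowers φ⟩, fun x' => ?_, fun y' hy' => ?_⟩
  · obtain ⟨x, hx, hxx⟩ := (mA.map_E.symm ▸ x'.2 : (x' : T) ∈ A.E.map q)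
    rw [← hgg ⟨x, hx⟩ x' hxx, ← hxx, hρ]
    exact congrArg q (hφA ⟨x, hx⟩)
  · obtain ⟨y, hy, rfl⟩ := (mB.map_E.symm ▸ hy' : y' ∈ B.E.map q)
    rw [hρ, ← mB.map_E]
    exact mem_map_of_mem q (hφB y hy)

end CfsgLib.RankThreePair
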