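import Cfsg.Agent.Lib.RankThreePair.Defs
import Cfsg.Agent.Lib.RankThree.Frame
import Cfsg.Agent.Lib.Fusion.SpFour.Model

/-!
The shape with an elementary and an extraspecial maximal subgroup is the Sylow subgroup of `Sp₄(p)`.
-/

set_option autoImplicit false
set_option linter.style.haveILetI false
set_option linter.unusedSectionVars false

namespace CfsgLib.RankThreePair

open Subgroup CfsgLib.RankThree CfsgLib.Fusion.SpFour
open scoped commutatorElement

section Model

variable {S : Type*} [Group S] [Finite S] {p : ℕ} [hp : Fact p.Prime]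

/-- The product of powers of three elements. -/
def tri (b c d : S) (β γ δ : ZMod p) : S := pw b β * pw c γ * pw d δ

theorem tri_add {b c d : S} (hb : b ^ p = 1) (hc : c ^ p = 1) (hd : d ^ p = 1) (hbc : Commute b c)
    (hbd : Commute b d) (hcd : Commute c d) (β γ δ β' γ' δ' : ZMod p) :
    tri b c d (β + β') (γ + γ') (δ + δ') = tri b c d β γ δ * tri b c d β' γ' δ' := by
  have h1 : Commute (pw c γ * pw d δ) (pw b β') :=
    ((hbc.symm.pow_pow _ _).mul_left (hbd.symm.pow_pow _ _))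
  have h2 : Commute (pw d δ) (pw c γ') := hcd.symm.pow_pow _ _
  simp only [tri, pw_add hb, pw_add hc, pw_add hd]
  simp only [mul_assoc]
  congr 1
  calc pw b β' * (pw c γ * (pw c γ' * (pw d δ * pw d δ')))
      = pw b β' * (pw c γ * (pw d δ * (pw c γ' * pw d δ'))) := by
        rw [← mul_assoc (pw c γ') (pw d δ), ← h2.eq, mul_assoc]
    _ = (pw c γ * pw d δ) * pw b β' * (pw c γ' * pw d δ') := by
        rw [h1.eq]; simp only [mul_assoc]
    _ = _ := by simp only [mul_assoc]

variable {a b c d : S} (hb : b ^ p = 1) (hc : c ^ p = 1) (hd : d ^ p = 1) (hbc : Commute b c)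
  (hbd : Commute b d) (hcd : Commute c d) (e1 : a * b * a⁻¹ = tri b c d (1 : ZMod p) 1 1)
  (e2 : a * c * a⁻¹ = tri b c d (0 : ZMod p) 1 2) (e3 : a * d * a⁻¹ = d)

include hb hc hd hbc hbd hcd e1 e2 e3

theorem conj_tri_one (β γ δ : ZMod p) :
    a * tri b c d β γ δ * a⁻¹ = tri b c d β (γ + β) (δ + β + 2 * γ) := by
  have hcd2 : Commute c (pw d (2 : ZMod p)) := hcd.pow_right _
  have h0 : a * tri b c d β γ δ * a⁻¹ =
      pw (tri b c d (1 : ZMod p) 1 1) β * pw (tri b c d (0 : ZMod p) 1 2) γ * pw d δ := by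
    rw [← e1, ← e2]
    conv_rhs => rw [← e3]
    simp only [← MulAut.conj_apply, ← map_pw, ← map_mul]
    rfl
  have h1 : pw (tri b c d (1 : ZMod p) 1 1) β = tri b c d β β β := by
    simp only [tri, pw_one]
    rw [mul_pw (hbd.mul_left hcd), mul_pw hbc]
  have h2 : pw (tri b c d (0 : ZMod p) 1 2) γ = tri b c d (0 : ZMod p) γ (2 * γ) := by
    simp only [tri, pw_one, pw_zero, one_mul]
    rw [mul_pw hcd2, pw_pw hd]
  have h3 : pw d δ = tri b c d (0 : ZMod p) 0 δ := by simp [tri]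
  rw [h0, h1, h2, h3, ← tri_add hb hc hd hbc hbd hcd, ← tri_add hb hc hd hbc hbd hcd]
  congr 1 <;> ring

theorem conj_tri (n : ℕ) (β γ δ : ZMod p) :
    a ^ n * tri b c d β γ δ * (a ^ n)⁻¹ =
      tri b c d β (γ + n * β) (δ + (n : ZMod p) ^ 2 * β + 2 * n * γ) := by
  induction n with
  | zero => simp
  | succ n ih =>
    have e : a ^ (n + 1) * tri b c d β γ δ * (a ^ (n + 1))⁻¹ =
        a * (a ^ n * tri b c d β γ δ * (a ^ n)⁻¹) * a⁻¹ := by
      rw [pow_succ', mul_inv_rev]
      simp only [mul_assoc]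
    rw [e, ih, conj_tri_one hb hc hd hbc hbd hcd e1 e2 e3]
    congr 1 <;> push_cast <;> ring

end Model

variable {S : Type*} [Group S] [Finite S] {p : ℕ} [hp : Fact p.Prime]

theorem exists_not_mem {A B : Side p S} (hne : A.E ≠ B.E) : ∃ a ∈ B.E, a ∉ A.E := by
  by_contra! hcon
  refine hne (Subgroup.eq_of_le_of_card_ge (fun x hx => hcon x hx) ?_).symm
  refine Nat.le_of_mul_le_mul_right ?_ hp.out.pos
  calc _ = Nat.card A.E * A.E.index := congrArg (Nat.card A.E * ·) A.index.symm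
    _ = Nat.card B.E * B.E.index := by rw [card_mul_index, card_mul_index]
    _ ≤ _ := (congrArg (Nat.card B.E * ·) B.index).le

theorem card_side (A : Side p S) : Nat.card S = Nat.card A.E * p := by
  exact (card_mul_index A.E).symm.trans (congrArg (Nat.card A.E * ·) A.index)

theorem Side.exists_pow (A : Side p S) {a : S} (ha : a ∉ A.E) (y : S) :
    ∃ i < p, ∃ e ∈ A.E, y = a ^ i * e := by
  haveI := A.normal
  exact exists_pow_mul (by rw [relIndex_top_right, A.index]) (mem_top a) ha (mem_top y)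

/-- The iterated commutator with an element outside is central. -/
theorem OutSp.commutator_central (hS : IsPGroup p S) {A B : Side p S} (h : OutSp A B) (g₁ g₂ : S)
    {x : S} (hx : x ∈ A.E) : ⁅g₁, ⁅g₂, x⁆⁆ ∈ Subgroup.center S := by
  haveI := A.normal
  have hZA : Subgroup.center S ≤ A.E :=
    le_trans (fun z hz => Subgroup.mem_centralizer_iff.2 fun e _ =>
      Subgroup.mem_center_iff.1 hz e) A.cent
  have hiA : (Subgroup.center S).index = p ^ 3 := by
    have h1 := card_mul_index (Subgroup.center S)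
    rw [h.card_center, h.card, pow_succ' p 3] at h1
    exact Nat.eq_of_mul_eq_mul_left hp.out.pos h1
  have hlt : Subgroup.center S < A.E := lt_of_le_of_ne hZA fun e => by
    have h1 := h.cardA
    rw [← e, h.card_center] at h1
    have h2 : p ^ 1 < p ^ 3 := Nat.pow_lt_pow_right hp.out.one_lt (by norm_num)
    rw [← h1, pow_one] at h2
    exact lt_irrefl _ h2
  obtain ⟨Y, hY, hZY, hYA, hrY, hcY, -⟩ := exists_chief_rel hS hlt
  have hiY : Y.index = p ^ 2 := by
    rw [← relIndex_mul_index hYA, hrY, A.index, pow_two]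
  have hlt2 : Subgroup.center S < Y := lt_of_le_of_ne hZY fun e => by
    rw [← e, hiA] at hiY
    have h2 : p ^ 2 < p ^ 3 := Nat.pow_lt_pow_right hp.out.one_lt (by norm_num)
    exact (lt_irrefl _ (hiY ▸ h2))
  haveI := hY
  obtain ⟨Z', hZ', hZZ', hZ'Y, hrZ, hcZ, -⟩ := exists_chief_rel hS hlt2
  have hiZ : Z'.index = p ^ 3 := by
    rw [← relIndex_mul_index hZ'Y, hrZ, hiY, ← pow_succ']
  have heq : Subgroup.center S = Z' := by
    refine Subgroup.eq_of_le_of_card_ge hZZ' ?_
    have h1 := card_mul_index Z'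
    have h2 := card_mul_index (Subgroup.center S)
    rw [hiZ] at h1
    rw [hiA, ← h1] at h2
    exact (Nat.eq_of_mul_eq_mul_right (pow_pos hp.out.pos 3) h2).ge
  rw [heq]
  exact hcZ g₁ _ (hcY g₂ x hx)

theorem OutSp.nonempty_equiv_U (hp2 : p ≠ 2) (hS : IsPGroup p S) {A B : Side p S}
    (hne : A.E ≠ B.E) (h : OutSp A B) : Nonempty (S ≃* U (ZMod p)) := by
  classical
  haveI := A.normal
  haveI : Fact (1 < p) := ⟨hp.out.one_lt⟩
  obtain ⟨a, haB, haA⟩ := exists_not_mem hne
  have hap := h.expB a haB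
  have hcen : ∀ x ∈ A.E, Commute a x → x ∈ Subgroup.center S := fun x hx hax =>
    Subgroup.mem_center_iff.2 fun y => by
      obtain ⟨i, -, e, he, rfl⟩ := A.exists_pow haA y
      exact ((hax.pow_left i).mul_left (h.commA e he x hx)).eq
  obtain ⟨b, hb, hb2⟩ : ∃ b ∈ A.E, ⁅a, ⁅a, b⁆⁆ ≠ 1 := by
    by_contra! hcon
    have hmem : ∀ x : A.E, ⁅a, (x : S)⁆ ∈ Subgroup.center S := fun x =>
      hcen _ (mul_mem (A.normal.conj_mem _ x.2 a) (inv_mem x.2))
        (commutatorElement_eq_one_iff_mul_comm.1 (hcon x x.2))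
    let φ : A.E →* Subgroup.center S := MonoidHom.mk' (fun x => ⟨⁅a, (x : S)⁆, hmem x⟩)
      fun x y => Subtype.ext (by
        show ⁅a, (x : S) * y⁆ = ⁅a, (x : S)⁆ * ⁅a, (y : S)⁆
        exact comm_mul_right ((Subgroup.mem_center_iff.1 (hmem y) (x : S))))
    have h1 := card_mul_index φ.ker
    rw [Subgroup.index_ker, h.cardA] at h1
    have h2 : Nat.card φ.ker ≤ p := by
      rw [← card_map_of_injective A.E.subtype_injective]
      refine (Subgroup.card_le_of_le ?_).trans h.card_center.le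
      rintro _ ⟨x, hx, rfl⟩
      have h3 : ⁅a, (x : S)⁆ = 1 := congrArg Subtype.val (MonoidHom.mem_ker.1 hx)
      exact hcen _ x.2 (commutatorElement_eq_one_iff_mul_comm.1 h3)
    have h3 : Nat.card φ.range ≤ p := by
      exact (Nat.card_le_card_of_injective _ φ.range.subtype_injective).trans h.card_center.le
    have h4 : p ^ 3 ≤ p ^ 2 := by
      rw [← h1, pow_two]
      exact Nat.mul_le_mul h2 h3
    exact absurd h4 (not_le.2 (Nat.pow_lt_pow_right hp.out.one_lt (by norm_num)))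
  set c₀ := ⁅a, b⁆ with hc₀
  set z := ⁅a, c₀⁆ with hz
  have hc₀A : c₀ ∈ A.E := mul_mem (A.normal.conj_mem _ hb a) (inv_mem hb)
  have hzc : z ∈ Subgroup.center S := h.commutator_central hS a a hb
  have hzA : z ∈ A.E := mul_mem (A.normal.conj_mem _ hc₀A a) (inv_mem hc₀A)
  have hzp : z ^ p = 1 := h.expA z hzA
  set d := pw z ((2 : ZMod p)⁻¹) with hd'
  have hdA : d ∈ A.E := pow_mem hzA _
  have hd : d ^ p = 1 := h.expA d hdA
  have h2 : (2 : ZMod p) ≠ 0 := by
    intro e
    have h' : ((2 : ℕ) : ZMod p) = 0 := by exact_mod_cast e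
    exact hp2 ((Nat.prime_dvd_prime_iff_eq hp.out Nat.prime_two).1
      ((ZMod.natCast_eq_zero_iff 2 p).1 h'))
  have hdd : pw d (2 : ZMod p) = z := by
    rw [hd', pw_pw hzp, inv_mul_cancel₀ h2, pw_one]
  have hdc : d ∈ Subgroup.center S := pow_mem hzc _
  have hd1 : d ≠ 1 := fun e => hb2 (by rw [← hdd, e, one_pw])
  set c := c₀ * d⁻¹ with hc'
  have hcA : c ∈ A.E := mul_mem hc₀A (inv_mem hdA)
  have hc : c ^ p = 1 := h.expA c hcA
  have hbp : b ^ p = 1 := h.expA b hb
  have hbc : Commute b c := h.commA b hb c hcA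
  have hbd : Commute b d := h.commA b hb d hdA
  have hcd : Commute c d := h.commA c hcA d hdA
  have e3 : a * d * a⁻¹ = d := by
    rw [Subgroup.mem_center_iff.1 hdc a, mul_inv_cancel_right]
  have e1 : a * b * a⁻¹ = tri b c d (1 : ZMod p) 1 1 := by
    rw [tri, pw_one, pw_one, pw_one, mul_assoc b c d, (hbc.mul_right hbd).eq, hc',
      inv_mul_cancel_right, hc₀, commutatorElement_def, inv_mul_cancel_right]
  have e2 : a * c * a⁻¹ = tri b c d (0 : ZMod p) 1 2 := by
    rw [tri, pw_zero, pw_one, one_mul, hdd,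
      show c * z = z * c from Subgroup.mem_center_iff.1 hzc c, hz, hc', commutatorElement_def]
    have h' : a * d⁻¹ * a⁻¹ = d⁻¹ := by
      rw [Subgroup.mem_center_iff.1 (inv_mem hdc) a, mul_inv_cancel_right]
    calc a * (c₀ * d⁻¹) * a⁻¹ = a * c₀ * a⁻¹ * (a * d⁻¹ * a⁻¹) := by group
      _ = _ := by rw [h']; group
  let f : U (ZMod p) →* S := MonoidHom.mk' (fun x => tri b c d x.b x.c x.d * pw a x.a) fun x y => by
    show tri b c d (x * y).b (x * y).c (x * y).d * pw a (x * y).a =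
      (tri b c d x.b x.c x.d * pw a x.a) * (tri b c d y.b y.c y.d * pw a y.a)
    have h5 := conj_tri hbp hc hd hbc hbd hcd e1 e2 e3 x.a.val y.b y.c y.d
    rw [ZMod.natCast_zmod_val] at h5
    rw [U.mul_def]
    dsimp only
    rw [show x.c + y.c + x.a * y.b = x.c + (y.c + x.a * y.b) by ring,
      show x.d + y.d + x.a ^ 2 * y.b + 2 * x.a * y.c =
        x.d + (y.d + x.a ^ 2 * y.b + 2 * x.a * y.c) by ring,
      tri_add hbp hc hd hbc hbd hcd, ← h5, pw_add hap]
    simp only [pw, mul_assoc]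
    rw [inv_mul_cancel_left]
  have hinj : Function.Injective f := by
    rw [injective_iff_map_eq_one]
    intro x hx
    have hx' : tri b c d x.b x.c x.d * pw a x.a = 1 := hx
    have htA : ∀ β γ δ : ZMod p, tri b c d β γ δ ∈ A.E := fun β γ δ =>
      mul_mem (mul_mem (pow_mem hb _) (pow_mem hcA _)) (pow_mem hdA _)
    have ha0 : x.a = 0 := by
      have h5 : a ^ x.a.val ∈ A.E := by
        rw [show a ^ x.a.val = (tri b c d x.b x.c x.d)⁻¹ from eq_inv_of_mul_eq_one_right hx']
        exact inv_mem (htA _ _ _)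
      have h6 := dvd_of_pow_mem (p := p) (by rw [hap]; exact one_mem _) haA h5
      rw [← ZMod.natCast_zmod_val x.a, (ZMod.natCast_eq_zero_iff _ p).2 h6]
    rw [ha0, pw_zero, mul_one] at hx'
    have hsub : ∀ {β γ δ β' γ' δ' : ZMod p}, tri b c d β γ δ = 1 → tri b c d β' γ' δ' = 1 →
        tri b c d (β' - β) (γ' - γ) (δ' - δ) = 1 := by
      intro β γ δ β' γ' δ' u v
      have h5 := tri_add hbp hc hd hbc hbd hcd (β' - β) (γ' - γ) (δ' - δ) β γ δ
      rw [sub_add_cancel, sub_add_cancel, sub_add_cancel, u, v, mul_one] at h5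
      exact h5.symm
    have hconj : ∀ {β γ δ : ZMod p}, tri b c d β γ δ = 1 →
        tri b c d (0 : ZMod p) β (β + 2 * γ) = 1 := by
      intro β γ δ u
      have h5 := conj_tri_one hbp hc hd hbc hbd hcd e1 e2 e3 β γ δ
      rw [u, mul_one, mul_inv_cancel] at h5
      have h6 := hsub u h5.symm
      rw [sub_self, add_sub_cancel_left, show δ + β + 2 * γ - δ = β + 2 * γ by ring] at h6
      exact h6
    have h5 := hconj hx'
    have h6 := hconj h5
    have hd0 : ∀ {t : ZMod p}, tri b c d (0 : ZMod p) 0 t = 1 → t = 0 := fun {t} ht => by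
      rw [tri, pw_zero, pw_zero, one_mul, one_mul] at ht
      exact eq_zero_of_pw_eq_one hd hd1 ht
    rw [zero_add] at h6
    have hb0 : x.b = 0 := (mul_eq_zero.1 (hd0 h6)).resolve_left h2
    rw [hb0, zero_add] at h5
    have hc0 : x.c = 0 := (mul_eq_zero.1 (hd0 h5)).resolve_left h2
    rw [hb0, hc0] at hx'
    exact U.ext ha0 hb0 hc0 (hd0 hx')
  refine ⟨(MulEquiv.ofBijective f (hinj.bijective_of_nat_card_le ?_)).symm⟩
  rw [h.card, card_U, Nat.card_zmod]

/-- The model. -/
theorem nonempty_equiv_sp (hp2 : p ≠ 2) {A B : Side p S} (hne : A.E ≠ B.E) (h : OutSp A B) :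
    ∃ T : Sylow p ↥(Matrix.symplecticGroup (Fin 2) (ZMod p)),
      Nonempty (S ≃* ↥(T : Subgroup ↥(Matrix.symplecticGroup (Fin 2) (ZMod p)))) := by
  obtain ⟨e⟩ := h.nonempty_equiv_U hp2 (IsPGroup.of_card h.card) hne
  obtain ⟨e'⟩ := CfsgLib.Fusion.SpFour.nonempty_equiv (K := ZMod p)
    (default : Sylow p ↥(Matrix.symplecticGroup (Fin 2) (ZMod p)))
  exact ⟨default, ⟨e.trans e'.symm⟩⟩

end CfsgLib.RankThreePair
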