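import Cfsg.Agent.Lib.RankThreePair.Fusion.Center
import Cfsg.Agent.Lib.RankThreePair.SpIso

/-!
Rank three: all essential subgroups normal forces a Sylow subgroup of `Sp₄(p)`, given the shapes of
pairs of sides.
-/

set_option autoImplicit false
set_option linter.style.haveILetI false
set_option linter.unusedSectionVars false

namespace CfsgLib.RankThreePair.Fus

open Cfsg Cfsg.FusionSystem Subgroup CfsgLib.Fusion

theorem sectional_two_of_sq {T : Type*} [Group T] [Finite T] {p : ℕ} (h : Nat.card T ≤ p ^ 2) :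
    Cfsg.SectionalPRankLE p 2 T := by
  intro H N _ A _ _
  refine le_trans ?_ h
  refine le_trans (Nat.le_of_dvd Nat.card_pos (Subgroup.card_subgroup_dvd_card A)) ?_
  refine le_trans (Nat.le_of_dvd Nat.card_pos (Subgroup.card_quotient_dvd_card N)) ?_
  exact Nat.le_of_dvd Nat.card_pos (Subgroup.card_subgroup_dvd_card H)

variable {Ω : Type*} [Group Ω] {S : Subgroup Ω} [Finite S] {p : ℕ} [hp : Fact p.Prime]
  {F : FusionSystem S}

/-- The image of an essential subgroup under an automorphism of `S` is essential. -/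
theorem essential_img_aut (hS : IsPGroup p S) (hF : F.IsSaturated p) {E : Subgroup Ω}
    (hE : F.IsEssential p E) (hn : S ≤ Subgroup.normalizer (E : Set Ω)) {α : MulAut S}
    (hα : α ∈ F.autGroup S) :
    F.IsEssential p (img E (toFun (S.subtype.comp α.toMonoidHom))) := by
  have hm := isMap_of_autGroup le_rfl hα
  have hmE := hm.mono hE.1.1
  set f := toFun (S.subtype.comp α.toMonoidHom)
  refine RankThree.Top.essential_img hS hF hE hmE ⟨hmE.img_le, fun Q _ => ?_⟩
  have hle : S ≤ Subgroup.normalizer (img E f : Set Ω) := by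
    intro s hs
    haveI : Finite (img E f : Set Ω) := (finite_of_le hmE.img_le : Finite (img E f))
    refine Subgroup.mem_normalizer_fintype fun y hy => ?_
    obtain ⟨x, hx, rfl⟩ := hmE.mem_img.1 hy
    obtain ⟨t, ht, rfl⟩ := hm.mem_img.1 (show s ∈ img S f by rwa [img_toFun_aut])
    rw [← hm.map_conj ht (hE.1.1 hx)]
    exact hmE.apply_mem_img ((hn ht x).1 hx)
  rw [normalizerIn_eq hle]
  exact Nat.le_of_dvd Nat.card_pos (Subgroup.card_dvd_of_le inf_le_left)

theorem sp_of_out (hp2 : p ≠ 2) (hS : IsPGroup p S) (hr : Cfsg.SectionalPRankLE p 3 S)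
    (hr2 : ¬ Cfsg.SectionalPRankLE p 2 S) (hF : F.IsSaturated p) (hO : F.core = ⊥)
    (hall : ∀ E, F.IsEssential p E → S ≤ Subgroup.normalizer (E : Set Ω))
    (hout : ∀ P : Pair p ↥S, ¬ P.A.Inv (oz p ↥S) → P.Out) :
    ∃ T : Sylow p ↥(Matrix.symplecticGroup (Fin 2) (ZMod p)),
      Nonempty (S ≃* ↥(T : Subgroup ↥(Matrix.symplecticGroup (Fin 2) (ZMod p)))) := by
  classical
  have hnt : Nontrivial S := by
    by_contra h
    rw [not_nontrivial_iff_subsingleton] at h
    refine hr2 (sectional_two_of_sq ?_)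
    rw [Nat.card_of_subsingleton (1 : S)]
    exact Nat.one_le_pow _ _ hp.out.pos
  obtain ⟨z, hz, hz1, hzp⟩ : ∃ z : S, z ∈ center S ∧ z ≠ 1 ∧ z ^ p = 1 := by
    haveI := hS.center_nontrivial
    obtain ⟨k, hk, hcard⟩ := (hS.to_subgroup (center S)).nontrivial_iff_card.1 inferInstance
    obtain ⟨z, hz⟩ := exists_prime_orderOf_dvd_card' (G := center S) p
      (hcard ▸ dvd_pow_self p hk.ne')
    refine ⟨z, z.2, fun h => ?_, ?_⟩
    · rw [show z = 1 from Subtype.ext h, orderOf_one] at hz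
      exact hp.out.ne_one hz.symm
    · rw [← SubmonoidClass.coe_pow, ← hz, pow_orderOf_eq_one, OneMemClass.coe_one]
  obtain ⟨E₀, hE₀, A, hA, hAG, hmv⟩ : ∃ E, F.IsEssential p E ∧ ∃ A : Side p ↥S,
      A.E = E.subgroupOf S ∧ (∀ g : MulAut A.E, g ∈ A.G ↔
        ∃ f, IsMap F E f ∧ ∀ x : A.E, f ((x : S) : Ω) = (((g x : A.E) : S) : Ω)) ∧
      ¬ A.Inv (oz p ↥S) := by
    by_contra hcon
    push Not at hcon
    have hn : F.IsNormal ((oz p ↥S).map S.subtype) := by
      refine isNormal_of_alperin hS hF (Subgroup.map_subtype_le _) fun Q hQ => ?_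
      rcases hQ with rfl | hQ
      · refine ⟨Subgroup.map_subtype_le _, fun α _ x hx => ?_⟩
        obtain ⟨y, hy, hyx⟩ := hx
        obtain rfl : y = x := Subtype.ext hyx
        exact ⟨α y, ⟨aut_center α hy.1, by rw [← map_pow, hy.2, map_one]⟩, rfl⟩
      · refine ⟨?_, fun α hα x hx => ?_⟩
        · rintro _ ⟨y, hy, rfl⟩
          exact center_mem_centric hQ.1 hy.1
        obtain ⟨A, hA, hAG⟩ := exists_side hS hr hF hQ (hall Q hQ)
        obtain ⟨y, hy, hyx⟩ := hx
        have hi := hcon Q hQ A hA hAG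
        let e : A.E ≃* Q := (MulEquiv.subgroupCongr hA).trans
          (Subgroup.subgroupOfEquivOfLe hQ.1.1)
        have he : ∀ u : A.E, ((e u : Q) : Ω) = ((u : S) : Ω) := fun u => rfl
        have hes : ∀ u : Q, (((e.symm u : A.E) : S) : Ω) = u := fun u => by
          rw [← he, e.apply_symm_apply]
        let g : MulAut A.E := (e.trans α).trans e.symm
        have hg : g ∈ A.G := (hAG g).2 ⟨_, isMap_of_autGroup hQ.1.1 hα, fun u => by
          rw [← he, toFun_aut_apply α (e u).2]
          exact (hes _).symm⟩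
        have hyu : ((e.symm x : A.E) : S) = y := Subtype.ext ((hes x).trans hyx.symm)
        refine ⟨_, hi.2 g hg (e.symm x) (hyu ▸ hy), ?_⟩
        show (((e.symm (α (e (e.symm x))) : A.E) : S) : Ω) = _
        rw [e.apply_symm_apply, hes]
    have h1 := IsNormal.le_core hn ⟨z, ⟨hz, hzp⟩, rfl⟩
    rw [hO, Subgroup.mem_bot] at h1
    exact hz1 (Subtype.ext h1)
  obtain ⟨E₁, hE₁, hne⟩ : ∃ E, F.IsEssential p E ∧ E ≠ E₀ := by
    by_contra hcon
    push Not at hcon
    have hn : F.IsNormal E₀ := by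
      refine isNormal_of_alperin hS hF hE₀.1.1 fun Q hQ => ?_
      rcases hQ with rfl | hQ
      · refine ⟨hE₀.1.1, fun α hα x hx => ?_⟩
        have h1 := hcon _ (essential_img_aut hS hF hE₀ (hall E₀ hE₀) hα)
        rw [← toFun_aut_apply α x.2]
        exact h1.le ((isMap_of_autGroup le_rfl hα).mono hE₀.1.1 |>.apply_mem_img hx)
      · obtain rfl := hcon Q hQ
        exact ⟨le_rfl, fun α _ x _ => (α x).2⟩
    have h1 := IsNormal.le_core hn (center_mem_centric hE₀.1 hz)
    rw [hO, Subgroup.mem_bot] at h1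
    exact hz1 (Subtype.ext h1)
  obtain ⟨B, hB, -⟩ := exists_side hS hr hF hE₁ (hall E₁ hE₁)
  have hAB : A.E ≠ B.E := by
    rw [hA, hB]
    intro h
    refine hne ?_
    have h1 := congrArg (fun K : Subgroup S => K.map S.subtype) h
    simpa [Subgroup.subgroupOf_map_subtype, inf_eq_left.2 hE₀.1.1, inf_eq_left.2 hE₁.1.1] using
      h1.symm
  rcases hout ⟨A, B, hAB⟩ hmv with h | h | h
  · exact nonempty_equiv_sp hp2 hAB h
  · exact nonempty_equiv_sp hp2 hAB.symm h
  · exact (false_of_pc hp2 hS hr hr2 hF hO hall _ h).elim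

end CfsgLib.RankThreePair.Fus
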