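import Cfsg.Agent.Lib.RankThreePair.OutGood
import Cfsg.Agent.Lib.RankThreePair.Quot
import Cfsg.Agent.Lib.RankThreePair.CaseOne
import Cfsg.Agent.Lib.RankThreePair.CaseTwoNonab
import Cfsg.Agent.Lib.RankThreePair.CaseTwoAb
import Cfsg.Agent.Lib.Invol.RankTwoSections

/-!
The inductive statement.
-/

set_option autoImplicit false
set_option linter.style.haveILetI false
set_option linter.unusedSectionVars false

namespace CfsgLib.RankThreePair

open Subgroup
open scoped commutatorElement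

universe u

variable {S : Type u} [Group S] [Finite S] {p : ℕ} [hp : Fact p.Prime]

theorem Out.symm {P : Pair p S} (h : P.swap.Out) : P.Out := by
  rcases h with h | h | ⟨C, a, b, h1, h2, h3, h4, h5, h6, h7, h8, h9, h10, h11, h12, h13⟩
  · exact Or.inr (Or.inl h)
  · exact Or.inl h
  · refine Or.inr (Or.inr ⟨C, b, a, h1, h2, h5, h6, h3, h4, h8, h7, ?_, ?_, ?_, ?_, ?_⟩)
    · rw [← commutatorElement_inv]; exact inv_mem h9
    · rw [← commutatorElement_inv, inv_pow, h10, inv_one]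
    · rw [← commutatorElement_inv]; exact fun h => h11 (inv_mem_iff.1 h)
    · rwa [← Pair.swap_W]
    · rw [← Pair.swap_W, ← commutatorElement_inv, Subgroup.zpowers_inv]; exact h13

theorem oz_ne_bot (hS : IsPGroup p S) [Nontrivial S] : oz p S ≠ ⊥ := by
  obtain ⟨z, -, hz1, hzc⟩ := CfsgLib.InvChar.exists_mem_center_of_normal hS (⊤ : Subgroup S)
    (top_ne_bot)
  obtain ⟨k, hk⟩ := hS z
  obtain ⟨i, -, hi⟩ := (Nat.dvd_prime_pow hp.out).1 (orderOf_dvd_of_pow_eq_one hk)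
  have hi0 : i ≠ 0 := fun h => hz1 (orderOf_eq_one_iff.1 (by rw [hi, h, pow_zero]))
  obtain ⟨j, rfl⟩ := Nat.exists_eq_succ_of_ne_zero hi0
  intro h
  have h1 : z ^ p ^ j ∈ oz p S := ⟨pow_mem hzc _, by
    rw [← pow_mul, ← pow_succ, ← hi, pow_orderOf_eq_one]⟩
  rw [h, mem_bot] at h1
  have h2 := Nat.le_of_dvd (pow_pos hp.out.pos j) (orderOf_dvd_of_pow_eq_one h1)
  rw [hi] at h2
  exact absurd h2 (not_le.2 (Nat.pow_lt_pow_right hp.out.one_lt (Nat.lt_succ_self j)))

theorem oz_normal : (oz p S).Normal := ⟨fun x hx g => by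
  rw [Subgroup.mem_center_iff.1 hx.1 g, mul_inv_cancel_right]; exact hx⟩

/-- Invariant subgroups correspond under a quotient. -/
theorem SideMap.inv_map {T : Type*} [Group T] {q : S →* T} {A : Side p S} {A' : Side p T}
    (m : SideMap q A A') {L : Subgroup S} (hL : A.Inv L) : A'.Inv (L.map q) := by
  refine ⟨m.map_E ▸ Subgroup.map_mono hL.1, fun g' hg' x' hx' => ?_⟩
  obtain ⟨g, hg, hgg⟩ := m.pull g' hg'
  obtain ⟨x, hx, hxx⟩ := hx'
  rw [← hgg ⟨x, hL.1 hx⟩ x' hxx]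
  exact mem_map_of_mem q (hL.2 g hg _ hx)

variable (hp2 : p ≠ 2) (hS : IsPGroup p S) (hr : Cfsg.SectionalPRankLE p 3 S)

include hp2 hS hr in
/-- A mover has one of the final shapes. -/
theorem out_of_mover_of_hyp (hyp : Hyp.{u} p (Nat.card S)) (P : Pair p S)
    (hmv : ¬ P.A.Inv (oz p S)) : P.Out := by
  by_cases h : P.A.orbit (oz p S) ≤ P.B.E
  · exfalso
    by_cases hc : ∀ g ∈ P.B.G, ∀ x y : P.B.E, (x : S) ∈ P.A.orbit (oz p S) →
        (y : S) ∈ P.A.orbit (oz p S) → Commute x (g y)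
    · exact case_two_ab hp2 hS hr hyp P hmv h hc
    · push Not at hc
      exact case_two_nonab hp2 hS hr P hmv h hc
  · exact case_one hp2 hS hr P hmv h

include hp2 hS hr in
theorem good_step (hyp : Hyp.{u} p (Nat.card S)) (P : Pair p S) : P.Good := by
  classical
  by_cases hA : P.A.Inv (oz p S)
  swap
  · exact P.good_of_out hS hp2 (out_of_mover_of_hyp hp2 hS hr hyp P hA)
  by_cases hB : P.B.Inv (oz p S)
  swap
  · exact P.good_of_out hS hp2 (Out.symm (out_of_mover_of_hyp hp2 hS hr hyp P.swap hB))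
  haveI := oz_normal (S := S) (p := p)
  have hcen : ∀ s : S, ∀ x ∈ oz p S, ⁅s, x⁆ = 1 := fun s x hx =>
    commutatorElement_eq_one_iff_mul_comm.2 (Subgroup.mem_center_iff.1 hx.1 s)
  have hZW : oz p S ≤ P.W := le_inf P.A.oz_le P.B.oz_le
  obtain ⟨Q, mA, mB⟩ := P.exists_quot hS (oz p S) hZW hA hB (Side.moves_of_inv_oz hS hA hcen)
    (Side.moves_of_inv_oz hS hB hcen)
  haveI : Nontrivial S := by
    obtain ⟨g, -, -, hg⟩ := P.A.exists_coprime_M
    by_contra hnt
    rw [not_nontrivial_iff_subsingleton] at hnt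
    exact hg (MulEquiv.ext fun x => Subtype.ext (Subsingleton.elim _ _))
  have hlt : Nat.card (S ⧸ oz p S) < Nat.card S := by
    have h1 := Subgroup.card_eq_card_quotient_mul_card_subgroup (oz p S)
    have h2 : 1 < Nat.card (oz p S) :=
      (Subgroup.one_lt_card_iff_ne_bot _).2 (oz_ne_bot hS)
    have h3 : 0 < Nat.card (S ⧸ oz p S) := Nat.card_pos
    nlinarith
  have hQ := hyp (S ⧸ oz p S) (hS.to_quotient _) (CfsgLib.Invol.sectional_quotient _ hr) hlt Q
  set q := QuotientGroup.mk' (oz p S) with hq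
  have hker : q.ker = oz p S := QuotientGroup.ker_mk' _
  have hWQ : Q.W = P.W.map q := by
    rw [Pair.W, Pair.W, ← mA.map_E, ← mB.map_E]
    refine le_antisymm ?_ (Subgroup.map_inf_le _ _ _)
    rintro _ ⟨⟨x, hx, rfl⟩, y, hy, hxy⟩
    refine ⟨x, ⟨hx, ?_⟩, rfl⟩
    have h1 : y⁻¹ * x ∈ q.ker := by rw [MonoidHom.mem_ker, map_mul, map_inv, hxy, inv_mul_cancel]
    have h2 := P.B.E.mul_mem hy (P.B.oz_le (hker ▸ h1))
    rwa [mul_inv_cancel_left] at h2
  refine ⟨fun h => hQ.ni_A (hWQ ▸ mA.inv_map h), fun h => hQ.ni_B (hWQ ▸ mB.inv_map h),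
    fun K hKW hne hKA hKB => ?_⟩
  have hK' : K.map q ≤ Q.W := hWQ ▸ Subgroup.map_mono hKW
  have hne' : K.map q ≠ Q.W := fun h => by
    rw [hWQ, Subgroup.map_eq_map_iff, hker, sup_eq_left.2 hZW] at h
    exact hQ.ni_A (hWQ ▸ mA.inv_map (h ▸ P.A.inv_sup hKA hA : P.A.Inv P.W))
  obtain ⟨f1, f2⟩ := hQ.fix _ hK' hne' (mA.inv_map hKA) (mB.inv_map hKB)
  have key : ∀ (A : Side p S) (A' : Side p (S ⧸ oz p S)), SideMap q A A' → A.Inv (oz p S) → A.Inv K →
      (∀ g ∈ A'.M, (orderOf g).Coprime p → A'.Fixes g (K.map q) ⊥) →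
      ∀ g ∈ A.M, (orderOf g).Coprime p → A.Fixes g K ⊥ := by
    intro A A' m hZ hK hfix g hg hgp
    refine A.fixes_trans hS hgp (N' := K ⊓ oz p S) (fun x hx => ⟨?_, ?_⟩) ?_
    · exact K.mul_mem (K.inv_mem hx) (hK.2 g (A.M_le hg) x hx)
    · obtain ⟨g', hg', hgp', hgg⟩ := m.pushM g hg hgp
      have hxE : q (x : S) ∈ A'.E := m.map_E ▸ mem_map_of_mem q x.2
      have h1 := hfix g' hg' hgp' ⟨q x, hxE⟩ (mem_map_of_mem q hx)
      rw [mem_bot, ← hgg x ⟨q x, hxE⟩ rfl] at h1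
      show _ ∈ oz p S
      rw [← hker, MonoidHom.mem_ker, map_mul, map_inv]
      exact h1
    · exact Side.fixes_of_comm (A.inv_inf hK hZ) A.inv_bot
        (fun s x hx => by rw [hcen s x hx.2]; exact one_mem _) g hg
  exact ⟨key P.A Q.A mA hA hKA f1, key P.B Q.B mB hB hKB f2⟩

/-- Every pair satisfies the inductive statement. -/
theorem hyp_all (hp2 : p ≠ 2) : ∀ n, Hyp.{u} p n := by
  intro n
  induction n using Nat.strong_induction_on with
  | _ n ih =>
    intro T _ _ hT hr hlt P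
    exact good_step hp2 hT hr (fun U _ _ hU hrU hU' Q => ih (Nat.card T) hlt U hU hrU hU' Q) P

include hp2 hS hr in
theorem pair_good (P : Pair p S) : P.Good := good_step hp2 hS hr (hyp_all hp2 _) P

include hp2 hS hr in
/-- A mover has one of the final shapes. -/
theorem out_of_mover (P : Pair p S) (hmv : ¬ P.A.Inv (oz p S)) : P.Out :=
  out_of_mover_of_hyp hp2 hS hr (hyp_all hp2 _) P hmv

end CfsgLib.RankThreePair
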