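import Cfsg.Agent.Lib.RankThreePair.Quot
import Cfsg.Agent.Lib.RankThreePair.Axis
import Cfsg.Agent.Lib.RankThreePair.Ext
import Cfsg.Agent.Lib.RankThreePair.TwoNonabBasic

/-!
The shape `p^(1+2) × C` does not occur modulo an invariant `Ω₁(Z(T))` when the sides extend.
-/

set_option autoImplicit false
set_option linter.style.haveILetI false
set_option linter.unusedSectionVars false
set_option linter.unusedVariables false

namespace CfsgLib.RankThreePair

open Subgroup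
open scoped commutatorElement

namespace PCQuot

/-- The data of the shape. -/
structure Data {p : ℕ} {U : Type*} [Group U] (Q : Pair p U) (C : Subgroup U) (a b : U) : Prop where
  cyc : IsCyclic C
  cen : C ≤ Subgroup.center U
  aB : a ∈ Q.B.E
  aA : a ∉ Q.A.E
  bA : b ∈ Q.A.E
  bB : b ∉ Q.B.E
  ap : a ^ p = 1
  bp : b ^ p = 1
  cc : ⁅b, a⁆ ∈ Subgroup.center U
  cp : ⁅b, a⁆ ^ p = 1
  cC : ⁅b, a⁆ ∉ C
  Wc : Q.W = Subgroup.center U
  Wgen : Q.W = C ⊔ Subgroup.zpowers ⁅b, a⁆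

theorem Data.swap {p : ℕ} {U : Type*} [Group U] {Q : Pair p U} {C : Subgroup U} {a b : U}
    (h : Data Q C a b) : Data Q.swap C b a := by
  have hi : ⁅a, b⁆ = ⁅b, a⁆⁻¹ := (commutatorElement_inv b a).symm
  refine ⟨h.cyc, h.cen, h.bA, h.bB, h.aB, h.aA, h.bp, h.ap, hi ▸ inv_mem h.cc, ?_,
    fun e => h.cC ?_, Q.swap_W.trans h.Wc, ?_⟩
  · rw [hi, inv_pow, h.cp, inv_one]
  · rw [hi] at e
    simpa using inv_mem e
  · rw [Q.swap_W, h.Wgen, hi, Subgroup.zpowers_inv]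

theorem conj_pow_pow {U : Type*} [Group U] {a b c : U} (hca : Commute c a) (hcb : Commute c b)
    (h : b * a * b⁻¹ = c * a) (k i : ℕ) : b ^ k * a ^ i * (b ^ k)⁻¹ = c ^ (k * i) * a ^ i := by
  have h1 : b ^ k * a * (b ^ k)⁻¹ = c ^ k * a := by
    induction k with
    | zero => simp
    | succ k ih =>
      calc b ^ (k + 1) * a * (b ^ (k + 1))⁻¹ = b * (b ^ k * a * (b ^ k)⁻¹) * b⁻¹ := by
            rw [pow_succ', mul_inv_rev]; simp only [mul_assoc]
        _ = b * c ^ k * b⁻¹ * (b * a * b⁻¹) := by rw [ih]; group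
        _ = c ^ (k + 1) * a := by
            rw [← (hcb.pow_left k).eq, mul_inv_cancel_right, h, pow_succ, mul_assoc]
  rw [← conj_pow, h1, (hca.pow_left k).mul_pow, pow_mul]

variable {U : Type*} [Group U] [Finite U] {p : ℕ} [hp : Fact p.Prime]

theorem Data.exists_pow_mul {Q : Pair p U} {C : Subgroup U} {a b : U} (h : Data Q C a b) {x : U}
    (hx : x ∈ Q.B.E) : ∃ i : ℕ, ∃ w ∈ Q.W, x = a ^ i * w := by
  haveI := Q.A.normal
  obtain ⟨i, e, he, rfl⟩ := TwoNonab.exists_pow_mul_of_index (E := Q.A.E) Q.A.index h.aA x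
  refine ⟨i, e, ⟨he, ?_⟩, rfl⟩
  simpa using Q.B.E.mul_mem (Q.B.E.inv_mem (Q.B.E.pow_mem h.aB i)) hx

theorem Data.comm_mem {Q : Pair p U} {C : Subgroup U} {a b : U} (h : Data Q C a b) (s : U) {x : U}
    (hx : x ∈ Q.B.E) : ⁅s, x⁆ ∈ Subgroup.zpowers ⁅b, a⁆ := by
  have hca : Commute ⁅b, a⁆ a := (Subgroup.mem_center_iff.1 h.cc a).symm
  have hcb : Commute ⁅b, a⁆ b := (Subgroup.mem_center_iff.1 h.cc b).symm
  have hba : b * a * b⁻¹ = ⁅b, a⁆ * a := by rw [commutatorElement_def, inv_mul_cancel_right]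
  obtain ⟨i, w, hw, rfl⟩ := h.exists_pow_mul hx
  haveI := Q.B.normal
  obtain ⟨k, e, he, rfl⟩ := TwoNonab.exists_pow_mul_of_index (E := Q.B.E) Q.B.index h.bB s
  obtain ⟨l, v, hv, rfl⟩ := h.exists_pow_mul he
  rw [h.Wc] at hw hv
  have hwc : ∀ y : U, Commute w y := fun y => (Subgroup.mem_center_iff.1 hw y).symm
  have hvc : ∀ y : U, Commute v y := fun y => (Subgroup.mem_center_iff.1 hv y).symm
  have hconj : b ^ k * (a ^ l * v) * (a ^ i * w) * (b ^ k * (a ^ l * v))⁻¹ =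
      ⁅b, a⁆ ^ (k * i) * (a ^ i * w) := by
    have h1 : (a ^ l * v) * (a ^ i * w) * (a ^ l * v)⁻¹ = a ^ i * w := by
      refine mul_inv_eq_iff_eq_mul.2 (Commute.eq ?_)
      exact ((((Commute.refl a).pow_pow l i).mul_right (hwc (a ^ l)).symm).mul_left (hvc _))
    calc b ^ k * (a ^ l * v) * (a ^ i * w) * (b ^ k * (a ^ l * v))⁻¹
        = b ^ k * ((a ^ l * v) * (a ^ i * w) * (a ^ l * v)⁻¹) * (b ^ k)⁻¹ := by group
      _ = b ^ k * a ^ i * (b ^ k)⁻¹ * (b ^ k * w * (b ^ k)⁻¹) := by rw [h1]; group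
      _ = _ := by
        rw [conj_pow_pow hca hcb hba, ← (hwc (b ^ k)).eq, mul_inv_cancel_right, mul_assoc]
  rw [commutatorElement_def (b ^ k * (a ^ l * v)), hconj, mul_inv_cancel_right]
  exact pow_mem (Subgroup.mem_zpowers _) _

/-- The section on which an involution acts as inversion. -/
theorem exists_section (hU : IsPGroup p U) {Q : Pair p U} {C : Subgroup U} {a b : U}
    (h : Data Q C a b) :
    ∃ N D : Subgroup U, Q.B.Inv N ∧ Q.B.Inv D ∧ D ≤ N ∧ D ≤ Subgroup.center U ∧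
      D.relIndex N = p ^ 2 ∧ (∀ L, Q.B.Inv L → D ≤ L → L ≤ N → L = D ∨ L = N) ∧
      a ∈ N ∧ ⁅b, a⁆ ∈ N ∧ ⁅b, a⁆ ∉ D ∧ ∀ x ∈ N, x ^ p = 1 := by
  set c := ⁅b, a⁆ with hcdef
  set E := Q.B.E
  have hnorm : ∀ K : Subgroup U, K ≤ Subgroup.center U → K.Normal := fun K hK => ⟨fun x hx y => by
    rwa [Subgroup.mem_center_iff.1 (hK hx) y, mul_inv_cancel_right]⟩
  have hWE : Q.W ≤ E := inf_le_right
  have hcW : c ∈ Q.W := h.Wc ▸ h.cc
  have hcz : Subgroup.zpowers c ≤ Subgroup.center U := Subgroup.zpowers_le.2 h.cc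
  have hab : ∀ x ∈ E, ∀ y ∈ E, x * y = y * x := by
    intro x hx y hy
    obtain ⟨i, w, hw, rfl⟩ := h.exists_pow_mul hx
    obtain ⟨j, v, hv, rfl⟩ := h.exists_pow_mul hy
    rw [h.Wc] at hw hv
    have hwc : ∀ y : U, Commute w y := fun y => (Subgroup.mem_center_iff.1 hw y).symm
    have hvc : ∀ y : U, Commute v y := fun y => (Subgroup.mem_center_iff.1 hv y).symm
    exact (((Commute.refl a).pow_pow i j).mul_right (hvc (a ^ i)).symm).mul_left (hwc _)
  let N : Subgroup U :=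
    { carrier := {y | y ∈ E ∧ y ^ p = 1}
      one_mem' := ⟨one_mem _, one_pow _⟩
      mul_mem' := fun {x y} hx hy => ⟨mul_mem hx.1 hy.1, by
        rw [Commute.mul_pow (hab x hx.1 y hy.1), hx.2, hy.2, one_mul]⟩
      inv_mem' := fun {x} hx => ⟨inv_mem hx.1, by rw [inv_pow, hx.2, inv_one]⟩ }
  have hN : Q.B.Inv N := ⟨fun y hy => hy.1, fun g _ y hy => ⟨SetLike.coe_mem _, by
    rw [← SubmonoidClass.coe_pow, ← map_pow, show y ^ p = 1 from Subtype.ext hy.2, map_one]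
    rfl⟩⟩
  have haN : a ∈ N := ⟨h.aB, h.ap⟩
  have hcN : c ∈ N := ⟨hWE hcW, h.cp⟩
  have haW : a ∉ Q.W := fun e => h.aA e.1
  obtain ⟨D, hD, hDc, hDN, hcov⟩ : ∃ D : Subgroup U, Q.B.Inv D ∧ D ≤ Subgroup.center U ∧ D ≤ N ∧
      ∀ w ∈ Q.W, w ^ p = 1 → w ∈ D ⊔ Subgroup.zpowers c := by
    haveI := h.cyc
    obtain ⟨⟨g, hgC⟩, hg⟩ := IsCyclic.exists_generator (α := C)
    have hgen : ∀ y ∈ C, ∃ k : ℕ, g ^ k = y := fun y hy => by
      obtain ⟨k, hk⟩ := (Submonoid.mem_powers_iff _ _).1 (mem_powers_iff_mem_zpowers.2 (hg ⟨y, hy⟩))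
      exact ⟨k, congrArg Subtype.val hk⟩
    haveI := hnorm C h.cen
    have hWdec : ∀ w ∈ Q.W, ∃ k : ℕ, ∃ d ∈ Subgroup.zpowers c, w = g ^ k * d := fun w hw => by
      rw [h.Wgen] at hw
      obtain ⟨y, hy, d, hd, rfl⟩ := Subgroup.mem_sup_of_normal_left.1 hw
      obtain ⟨k, rfl⟩ := hgen y hy
      exact ⟨k, d, hd, rfl⟩
    have hgc : ∀ y : U, Commute g y := fun y => (Subgroup.mem_center_iff.1 (h.cen hgC) y).symm
    have hcpow : ∀ d ∈ Subgroup.zpowers c, d ^ p = 1 := fun d hd => by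
      obtain ⟨m, rfl⟩ := Subgroup.mem_zpowers_iff.1 hd
      rw [← zpow_natCast (c ^ m), zpow_comm, zpow_natCast, h.cp, one_zpow]
    have hEdec : ∀ x ∈ E, ∃ i k : ℕ, ∃ d ∈ Subgroup.zpowers c, x = a ^ i * (g ^ k * d) :=
      fun x hx => by
        obtain ⟨i, w, hw, rfl⟩ := h.exists_pow_mul hx
        obtain ⟨k, d, hd, rfl⟩ := hWdec w hw
        exact ⟨i, k, d, hd, rfl⟩
    have hEpow : ∀ i k : ℕ, ∀ d ∈ Subgroup.zpowers c, (a ^ i * (g ^ k * d)) ^ p = g ^ (k * p) :=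
      fun i k d hd => by
        rw [Commute.mul_pow ((((hgc (a ^ i)).pow_left k)).symm.mul_right
            (Subgroup.mem_center_iff.1 (hcz hd) (a ^ i))),
          Commute.mul_pow ((hgc d).pow_left k), hcpow d hd, mul_one, ← pow_mul a, mul_comm i, pow_mul,
          h.ap, one_pow, one_mul, ← pow_mul]
    by_cases hone : g ^ p = 1 ∧ g ≠ 1
    · -- an elementary side of order `p³`
      have hCc : Nat.card C = p := by
        rw [← orderOf_eq_card_of_forall_mem_zpowers hg, Subgroup.orderOf_mk,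
          orderOf_eq_prime hone.1 hone.2]
      have hexp : ∀ x ∈ E, x ^ p = 1 := fun x hx => by
        obtain ⟨i, k, d, hd, rfl⟩ := hEdec x hx
        rw [hEpow i k d hd, mul_comm, pow_mul, hone.1, one_pow]
      have hWcard : Nat.card Q.W = p ^ 2 := by
        have h1 := Subgroup.relIndex_mul_relIndex ⊥ C Q.W bot_le (h.Wgen ▸ le_sup_left)
        rw [Subgroup.relIndex_bot_left, Subgroup.relIndex_bot_left, hCc] at h1
        rw [← h1, h.Wgen, TwoNonab.relIndex_sup_zpowers h.cC (by rw [h.cp]; exact one_mem _), pow_two]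
      have hEc : Nat.card E = p ^ 3 := by
        haveI := hnorm Q.W h.Wc.le
        have h1 := Subgroup.relIndex_mul_relIndex ⊥ Q.W E bot_le hWE
        rw [Subgroup.relIndex_bot_left, Subgroup.relIndex_bot_left, hWcard] at h1
        have h2 : E = Q.W ⊔ Subgroup.zpowers a := le_antisymm (fun x hx => by
          obtain ⟨i, w, hw, rfl⟩ := h.exists_pow_mul hx
          exact mul_mem (Subgroup.mem_sup_right (pow_mem (Subgroup.mem_zpowers a) i))
            (Subgroup.mem_sup_left hw)) (sup_le hWE (Subgroup.zpowers_le.2 h.aB))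
        rw [← h1, h2, TwoNonab.relIndex_sup_zpowers haW (by rw [h.ap]; exact one_mem _), ← pow_succ]
      obtain ⟨D, hD, hDcard, hDc, -, -, s, x, hx, hsx⟩ :=
        Q.B.exists_axis hU hab hexp hEc hWE hWcard fun s y hy =>
          commutatorElement_eq_one_iff_mul_comm.2 (Subgroup.mem_center_iff.1 (h.Wc ▸ hy) s)
      refine ⟨D, hD, hDc, fun y hy => ⟨hD.1 hy, hexp y (hD.1 hy)⟩, fun w hw _ => ?_⟩
      haveI := hnorm D hDc
      have hcD : c ∉ D := fun e => hsx (Subgroup.zpowers_le.2 e (h.comm_mem s hx))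
      have hle : D ⊔ Subgroup.zpowers c ≤ Q.W := sup_le (h.Wc ▸ hDc) (Subgroup.zpowers_le.2 hcW)
      have h1 := Subgroup.relIndex_mul_relIndex ⊥ D (D ⊔ Subgroup.zpowers c) bot_le le_sup_left
      rw [Subgroup.relIndex_bot_left, Subgroup.relIndex_bot_left, hDcard,
        TwoNonab.relIndex_sup_zpowers hcD (by rw [h.cp]; exact one_mem _), ← pow_two] at h1
      rw [Subgroup.eq_of_le_of_card_ge hle (by rw [hWcard, h1])]
      exact hw
    · -- powers
      let Pw : Subgroup U :=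
        { carrier := {y | ∃ x ∈ E, x ^ p = y}
          one_mem' := ⟨1, one_mem _, one_pow _⟩
          mul_mem' := fun {u v} ⟨x, hx, hu⟩ ⟨y, hy, hv⟩ => ⟨x * y, mul_mem hx hy, by
            rw [Commute.mul_pow (hab x hx y hy), hu, hv]⟩
          inv_mem' := fun {u} ⟨x, hx, hu⟩ => ⟨x⁻¹, inv_mem hx, by rw [inv_pow, hu]⟩ }
      have hPle : Pw ≤ C := fun y ⟨x, hx, hxy⟩ => by
        obtain ⟨i, k, d, hd, rfl⟩ := hEdec x hx
        rw [← hxy, hEpow i k d hd]
        exact pow_mem hgC _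
      have hPw : Q.B.Inv Pw := by
        refine ⟨fun y ⟨x, hx, hxy⟩ => hxy ▸ pow_mem hx p, fun g' hg' y hy => ?_⟩
        obtain ⟨x, hx, hxy⟩ := hy
        refine ⟨g' ⟨x, hx⟩, SetLike.coe_mem _, ?_⟩
        rw [← SubmonoidClass.coe_pow, ← map_pow]
        exact congrArg (fun z : E => ((g' z : E) : U)) (Subtype.ext hxy)
      refine ⟨N ⊓ Pw, Side.inv_inf hN hPw, fun y hy => h.cen (hPle hy.2), inf_le_left,
        fun w hw hwp => ?_⟩
      obtain ⟨k, d, hd, rfl⟩ := hWdec w hw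
      refine mul_mem (Subgroup.mem_sup_left ?_) (Subgroup.mem_sup_right hd)
      have hgk : (g ^ k) ^ p = 1 := by
        rwa [Commute.mul_pow ((hgc d).pow_left k), hcpow d hd, mul_one] at hwp
      refine ⟨⟨hWE (h.Wgen ▸ Subgroup.mem_sup_left (pow_mem hgC k)), hgk⟩, ?_⟩
      rcases Nat.coprime_or_dvd_of_prime hp.out k with hk | ⟨k', rfl⟩
      · have hg1 : g ^ p = 1 := by
          obtain ⟨m, hm⟩ := hU g
          have h2 : (g ^ p) ^ k = 1 := by rwa [← pow_mul, mul_comm, pow_mul]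
          have h3 : (g ^ p) ^ (p ^ m) = 1 := by rw [← pow_mul, mul_comm, pow_mul, hm, one_pow]
          have h4 := pow_gcd_eq_one.2 ⟨h2, h3⟩
          rwa [show Nat.gcd k (p ^ m) = 1 from (Nat.Coprime.pow_left m hk).symm, pow_one] at h4
        rw [not_and_not_right] at hone
        rw [hone hg1, one_pow]
        exact one_mem Pw
      · exact ⟨g ^ k', hWE (h.Wgen ▸ Subgroup.mem_sup_left (pow_mem hgC k')), by
          rw [← pow_mul, mul_comm]⟩
  haveI := hnorm D hDc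
  have hcen : ∀ s : U, ∀ x ∈ D, ⁅s, x⁆ ∈ (⊥ : Subgroup U) := fun s x hx => by
    rw [mem_bot, commutatorElement_eq_one_iff_mul_comm]
    exact Subgroup.mem_center_iff.1 (hDc hx) s
  have hcD : c ∉ D := fun e => by
    refine Q.B.false_of_series hU 2 (fun i => if i = 0 then ⊥ else if i = 1 then D else E) rfl le_rfl
      (fun i => Side.inv_inf ?_ Q.B.inv_E) fun i hi s x hxE hx => ?_
    · split_ifs
      exacts [Q.B.inv_bot, hD, Q.B.inv_E]
    · interval_cases i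
      · exact hcen s x hx
      · exact Subgroup.zpowers_le.2 e (h.comm_mem s hxE)
  have hidx : D.relIndex N = p ^ 2 := by
    have hle : D ⊔ Subgroup.zpowers c ≤ Q.W := sup_le (h.Wc ▸ hDc) (Subgroup.zpowers_le.2 hcW)
    haveI := hnorm (D ⊔ Subgroup.zpowers c) (sup_le hDc hcz)
    have hNeq : N = (D ⊔ Subgroup.zpowers c) ⊔ Subgroup.zpowers a := by
      refine le_antisymm (fun x hx => ?_)
        (sup_le (sup_le hDN (Subgroup.zpowers_le.2 hcN)) (Subgroup.zpowers_le.2 haN))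
      obtain ⟨i, w, hw, rfl⟩ := h.exists_pow_mul hx.1
      refine mul_mem (Subgroup.mem_sup_right (pow_mem (Subgroup.mem_zpowers a) i))
        (Subgroup.mem_sup_left (hcov w hw ?_))
      have h1 := hx.2
      rwa [Commute.mul_pow (hab _ (pow_mem h.aB i) _ (hWE hw)), ← pow_mul, mul_comm i, pow_mul, h.ap,
        one_pow, one_mul] at h1
    rw [hNeq, ← Subgroup.relIndex_mul_relIndex D (D ⊔ Subgroup.zpowers c) _ le_sup_left le_sup_left,
      TwoNonab.relIndex_sup_zpowers hcD (by rw [h.cp]; exact one_mem _),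
      TwoNonab.relIndex_sup_zpowers (fun e => haW (hle e)) (by rw [h.ap]; exact one_mem _), pow_two]
  refine ⟨N, D, hN, hD, hDN, hDc, hidx, fun L hL hDL hLN => ?_, haN, hcN, hcD, fun x hx => hx.2⟩
  by_contra hcon
  push Not at hcon
  have hrel : D.relIndex L = p ∧ L.relIndex N = p := by
    have h1 := Subgroup.relIndex_mul_relIndex D L N hDL hLN
    rw [hidx] at h1
    exact (Nat.Prime.mul_eq_prime_sq_iff hp.out
      (fun e => hcon.1 (le_antisymm (relIndex_eq_one.1 e) hDL))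
      (fun e => hcon.2 (le_antisymm hLN (relIndex_eq_one.1 e)))).1 h1
  refine Q.B.false_of_series hU 4
    (fun i => if i = 0 then ⊥ else if i = 1 then D else if i = 2 then L else if i = 3 then N else E)
    rfl le_rfl (fun i => Side.inv_inf ?_ Q.B.inv_E) fun i hi s x hxE hx => ?_
  · split_ifs
    exacts [Q.B.inv_bot, hD, hL, hN, Q.B.inv_E]
  · interval_cases i
    · exact hcen s x hx
    · exact comm_mem_of_relIndex hU hL.normal hD.normal hDL hrel.1 s x hx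
    · exact comm_mem_of_relIndex hU hN.normal hL.normal hLN hrel.2 s x hx
    · exact Subgroup.zpowers_le.2 hcN (h.comm_mem s hxE)

/-- The commutator of the first generator with the commutator of the generators vanishes. -/
theorem comm_eq_one {T : Type*} [Group T] [Finite T] (hp2 : p ≠ 2) (hT : IsPGroup p T) (P : Pair p T)
    [(oz p T).Normal] (hB : P.B.Inv (oz p T)) (Q : Pair p (T ⧸ oz p T))
    (hA : P.A.E.map (QuotientGroup.mk' (oz p T)) = Q.A.E)
    (mB : SideMap (QuotientGroup.mk' (oz p T)) P.B Q.B) (eB : P.B.Extends P.A)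
    {C : Subgroup (T ⧸ oz p T)} {a b : T}
    (h : Data Q C (QuotientGroup.mk' (oz p T) a) (QuotientGroup.mk' (oz p T) b)) :
    ⁅b, ⁅b, a⁆⁆ = 1 := by
  set Z := oz p T with hZdef
  set π := QuotientGroup.mk' Z with hπdef
  have hπ : ∀ y, π y = 1 ↔ y ∈ Z := fun y => QuotientGroup.eq_one_iff y
  have hπs : Function.Surjective π := QuotientGroup.mk'_surjective Z
  have hZc : ∀ z ∈ Z, ∀ y, y * z = z * y := fun z hz y => Subgroup.mem_center_iff.1 hz.1 y
  have hmem : ∀ {A : Side p T} {E' : Subgroup (T ⧸ Z)} (y : T), A.E.map π = E' → π y ∈ E' → y ∈ A.E :=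
    fun {A E'} y hm hy => by
      obtain ⟨e, he, hey⟩ := hm.symm ▸ hy
      rw [show y = e * (e⁻¹ * y) by group]
      exact mul_mem he (A.oz_le ((hπ _).1 (by rw [map_mul, map_inv, hey, inv_mul_cancel])))
  set c := ⁅b, a⁆ with hcdef
  have hπc : π c = ⁅π b, π a⁆ := map_commutatorElement π b a
  obtain ⟨N, D, hN, hD, hDN, hDc, hidx, hirr, haN, hcN, hcD, hexp⟩ :=
    exists_section (hT.to_quotient Z) h
  have hNE : N.comap π ≤ P.B.E := fun y hy => hmem y mB.map_E (hN.1 hy)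
  have hinv : ∀ K : Subgroup (T ⧸ Z), Q.B.Inv K → K.comap π ≤ P.B.E → P.B.Inv (K.comap π) := by
    refine fun K hK hle => ⟨hle, fun g hg x hx => ?_⟩
    obtain ⟨g', hg', hgg⟩ := mB.push g hg
    show π _ ∈ K
    rw [hgg x ⟨π x, hK.1 hx⟩ rfl]
    exact hK.2 g' hg' _ hx
  haveI := hN.normal
  obtain ⟨τ, hτM, -, hτn, hτ⟩ := P.B.exists_neg hT hp2 (hinv N hN hNE)
    (hinv D hD ((Subgroup.comap_mono hDN).trans hNE)) (Subgroup.comap_mono hDN)
    (by rw [Subgroup.relIndex_comap, Subgroup.map_comap_eq_self_of_surjective hπs, hidx])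
    (fun x hx y hy => by
      show π ⁅x, y⁆ ∈ D
      obtain ⟨i, w, hw, hxe⟩ := h.exists_pow_mul (hN.1 hx)
      obtain ⟨j, v, hv, hye⟩ := h.exists_pow_mul (hN.1 hy)
      rw [h.Wc] at hw hv
      rw [map_commutatorElement, hxe, hye, commutatorElement_eq_one_iff_commute.2
        ((((Commute.refl _).pow_pow i j).mul_right (Subgroup.mem_center_iff.1 hv _)).mul_left
          (Subgroup.mem_center_iff.1 hw _).symm)]
      exact one_mem D)
    (fun x hx => by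
      show π (x ^ p) ∈ D
      rw [map_pow, hexp _ hx]
      exact one_mem D)
    (fun L hL hDL hLN => by
      have hL' : Q.B.Inv (L.map π) := by
        refine ⟨mB.map_E ▸ Subgroup.map_mono hL.1, fun g' hg' y' hy' => ?_⟩
        obtain ⟨g, hg, hgg⟩ := mB.pull g' hg'
        obtain ⟨y, hy, hyy⟩ := hy'
        rw [← hgg ⟨y, hL.1 hy⟩ y' hyy]
        exact mem_map_of_mem π (hL.2 g hg ⟨y, hL.1 hy⟩ hy)
      have hLc : (L.map π).comap π = L := by
        refine Subgroup.comap_map_eq_self ?_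
        rw [hπdef, QuotientGroup.ker_mk']
        exact fun z hz => hDL (show π z ∈ D from (hπ z).2 hz ▸ one_mem D)
      have hDL' : D ≤ L.map π := by
        rw [← Subgroup.map_comap_eq_self_of_surjective hπs D]
        exact Subgroup.map_mono hDL
      rcases hirr _ hL' hDL' (Subgroup.map_le_iff_le_comap.2 hLN) with e | e
      · exact Or.inl (by rw [← hLc, e])
      · exact Or.inr (by rw [← hLc, e]))
    ⟨b, a, haN, fun e => hcD (by rw [← map_commutatorElement]; exact e)⟩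
  obtain ⟨φ, hφ, hφA⟩ := eB τ (P.B.M_le hτM) hτn
  have hinvert : ∀ y, π y ∈ N → ∃ d ∈ D, π (φ y) = (π y)⁻¹ * d := fun y hy => by
    have hyB : y ∈ P.B.E := hNE hy
    refine ⟨_, hτ ⟨y, hyB⟩ hy, ?_⟩
    rw [← hφ ⟨y, hyB⟩, map_mul, inv_mul_cancel_left]
  obtain ⟨d, hd, hφa⟩ := hinvert a haN
  obtain ⟨d', hd', hφc⟩ := hinvert c (hπc ▸ hcN)
  obtain ⟨j, w, hw, hφb⟩ := h.swap.exists_pow_mul
    (hA ▸ mem_map_of_mem π (hφA b (hmem b hA h.bA)) : π (φ b) ∈ Q.A.E)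
  rw [Pair.swap_W, h.Wc] at hw
  have hca : Commute ⁅π b, π a⁆ (π a) := (Subgroup.mem_center_iff.1 h.cc _).symm
  have hcb : Commute ⁅π b, π a⁆ (π b) := (Subgroup.mem_center_iff.1 h.cc _).symm
  have hba : π b * π a * (π b)⁻¹ = ⁅π b, π a⁆ * π a := by
    rw [commutatorElement_def, inv_mul_cancel_right]
  have hφc' : π (φ c) = (⁅π b, π a⁆ ^ j)⁻¹ := by
    rw [hcdef, map_commutatorElement φ, map_commutatorElement π, hφa, hφb]
    have hwc : ∀ y, Commute w y := fun y => (Subgroup.mem_center_iff.1 hw y).symm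
    have hdc : ∀ y, Commute d y := fun y => (Subgroup.mem_center_iff.1 (hDc hd) y).symm
    calc ⁅π b ^ j * w, (π a)⁻¹ * d⁆
        = π b ^ j * (w * (π a)⁻¹ * w⁻¹ * (w * d * w⁻¹)) * (π b ^ j)⁻¹ * d⁻¹ * π a := by
          rw [commutatorElement_def]; group
      _ = (π b ^ j * (π a)⁻¹ * (π b ^ j)⁻¹) * (π b ^ j * d * (π b ^ j)⁻¹ * d⁻¹) * π a := by
          rw [(hwc _).eq, mul_inv_cancel_right, (hwc d).eq, mul_inv_cancel_right]; group
      _ = (π b ^ j * π a ^ 1 * (π b ^ j)⁻¹)⁻¹ * π a := by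
          rw [← (hdc (π b ^ j)).eq, mul_inv_cancel_right, mul_inv_cancel, mul_one]; group
      _ = _ := by
          rw [conj_pow_pow hca hcb hba, mul_one, pow_one, (hca.pow_left j).eq, mul_inv_rev,
            inv_mul_cancel_right]
  have hcp : orderOf ⁅π b, π a⁆ = p := orderOf_eq_prime h.cp (fun e => h.cC (e ▸ one_mem C))
  have hj : ⁅π b, π a⁆ ^ j = ⁅π b, π a⁆ := by
    have h1 : d' = ⁅π b, π a⁆ * (⁅π b, π a⁆ ^ j)⁻¹ := by
      rw [← hφc', hφc, hπc, mul_inv_cancel_left]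
    by_contra hne
    have h2 : d' ≠ 1 := fun e => hne (by rw [e, eq_comm, mul_inv_eq_one] at h1; exact h1.symm)
    have hd'z : d' ∈ Subgroup.zpowers ⁅π b, π a⁆ := h1 ▸ mul_mem (Subgroup.mem_zpowers _)
      (inv_mem (pow_mem (Subgroup.mem_zpowers _) j))
    haveI : Fact (Nat.card (Subgroup.zpowers ⁅π b, π a⁆)).Prime :=
      ⟨by rw [Nat.card_zpowers, hcp]; exact hp.out⟩
    have h3 : (⟨_, Subgroup.mem_zpowers ⁅π b, π a⁆⟩ : Subgroup.zpowers ⁅π b, π a⁆) ∈
        Subgroup.zpowers (⟨d', hd'z⟩ : Subgroup.zpowers ⁅π b, π a⁆) :=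
      mem_zpowers_of_prime_card rfl (fun e => h2 (congrArg Subtype.val e))
    obtain ⟨m, hm⟩ := Subgroup.mem_zpowers_iff.1 h3
    have h4 : d' ^ m = ⁅π b, π a⁆ := congrArg Subtype.val hm
    exact hcD (h4 ▸ zpow_mem hd' m)
  have hbord : orderOf (π b) = p := orderOf_eq_prime h.bp (fun e => h.bB (e ▸ one_mem _))
  have hbj : π b ^ j = π b := by
    conv_rhs => rw [← pow_one (π b)]
    rw [pow_eq_pow_iff_modEq, hbord, ← hcp, ← pow_eq_pow_iff_modEq, pow_one, hj]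
  rw [hbj] at hφb
  rw [hj, ← hπc] at hφc'
  -- lifts
  obtain ⟨u, hu, hu'⟩ : ∃ u, π u = w ∧ φ b = b * u :=
    ⟨b⁻¹ * φ b, by rw [map_mul, map_inv, hφb, inv_mul_cancel_left], (mul_inv_cancel_left b _).symm⟩
  obtain ⟨z, hz, hz'⟩ : ∃ z ∈ Z, φ c = c⁻¹ * z :=
    ⟨c * φ c, (hπ _).1 (by rw [map_mul, hφc', mul_inv_cancel]), (inv_mul_cancel_left c _).symm⟩
  have hcenZ : ∀ x y : T, π x ∈ Subgroup.center (T ⧸ Z) → ⁅x, y⁆ ∈ Z := fun x y hx => by
    rw [← hπ, map_commutatorElement, commutatorElement_eq_one_iff_mul_comm]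
    exact (Subgroup.mem_center_iff.1 hx _).symm
  have huc : u * c * u⁻¹ = c := by
    have key : ∀ y, u * y * u⁻¹ = ⁅u, y⁆ * y := fun y => by
      rw [commutatorElement_def, inv_mul_cancel_right]
    have h1 := hZc _ (hcenZ u b (hu ▸ hw))
    have h2 := hZc _ (hcenZ u a (hu ▸ hw))
    calc u * c * u⁻¹ = ⁅u * b * u⁻¹, u * a * u⁻¹⁆ := by
          rw [hcdef]; simp only [commutatorElement_def]; group
      _ = ⁅u, b⁆ * (b * ⁅u, a⁆) * a * (b⁻¹ * ⁅u, b⁆⁻¹) * (a⁻¹ * ⁅u, a⁆⁻¹) := by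
          rw [key, key]; simp only [commutatorElement_def]; group
      _ = c := by
          rw [h2 b, show b⁻¹ * ⁅u, b⁆⁻¹ = ⁅u, b⁆⁻¹ * b⁻¹ from Commute.inv_right (h1 b⁻¹ : _),
            show a⁻¹ * ⁅u, a⁆⁻¹ = ⁅u, a⁆⁻¹ * a⁻¹ from Commute.inv_right (h2 a⁻¹ : _)]
          rw [show ⁅u, b⁆ * (⁅u, a⁆ * b) * a * (⁅u, b⁆⁻¹ * b⁻¹) * (⁅u, a⁆⁻¹ * a⁻¹) =
            ⁅u, b⁆ * ⁅u, a⁆ * (b * a) * ⁅u, b⁆⁻¹ * b⁻¹ * ⁅u, a⁆⁻¹ * a⁻¹ by group]
          rw [mul_assoc _ (b * a) ⁅u, b⁆⁻¹, show b * a * ⁅u, b⁆⁻¹ = ⁅u, b⁆⁻¹ * (b * a) from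
            Commute.inv_right (h1 (b * a) : _)]
          rw [show ⁅u, b⁆ * ⁅u, a⁆ * (⁅u, b⁆⁻¹ * (b * a)) = ⁅u, b⁆ * (⁅u, a⁆ * ⁅u, b⁆⁻¹) * (b * a) by
            group, show ⁅u, a⁆ * ⁅u, b⁆⁻¹ = ⁅u, b⁆⁻¹ * ⁅u, a⁆ from Commute.inv_right (h1 _ : _),
            show ⁅u, b⁆ * (⁅u, b⁆⁻¹ * ⁅u, a⁆) * (b * a) * b⁻¹ * ⁅u, a⁆⁻¹ * a⁻¹ =
              ⁅u, a⁆ * (b * a * b⁻¹) * ⁅u, a⁆⁻¹ * a⁻¹ by group,
            ← h2 (b * a * b⁻¹), mul_inv_cancel_right, hcdef, commutatorElement_def]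
  have hbc : ⁅b, c⁆ ∈ Z := by
    rw [← inv_mem_iff (H := Z), commutatorElement_inv]
    exact hcenZ c b (hπc ▸ h.cc)
  have hfix : φ ⁅b, c⁆ = ⁅b, c⁆ := by
    have h1 := Side.fixes_of_comm hB P.B.inv_bot (fun s x hx => by
      rw [mem_bot, commutatorElement_eq_one_iff_mul_comm]
      exact hZc x hx s) τ hτM ⟨_, P.B.oz_le hbc⟩ hbc
    rw [mem_bot, inv_mul_eq_one, ← hφ ⟨_, P.B.oz_le hbc⟩] at h1
    exact h1.symm
  have h2 : ⁅b, c⁆ * ⁅b, c⁆ = 1 := by
    have h3 : φ ⁅b, c⁆ = c⁻¹ * ⁅b, c⁆⁻¹ * c := by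
      rw [map_commutatorElement, hu', hz']
      calc ⁅b * u, c⁻¹ * z⁆ = b * (u * c⁻¹ * (z * u⁻¹)) * b⁻¹ * z⁻¹ * c := by
            simp only [commutatorElement_def]; group
        _ = b * ((u * c * u⁻¹)⁻¹) * (z * b⁻¹) * z⁻¹ * c := by rw [← hZc z hz u⁻¹]; group
        _ = _ := by
            rw [huc, ← hZc z hz b⁻¹, commutatorElement_def]
            group
    rw [hfix, hZc _ (inv_mem hbc) c⁻¹, inv_mul_cancel_right] at h3
    exact mul_eq_one_iff_eq_inv.2 h3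
  have h4 := pow_gcd_eq_one.2 ⟨(pow_two ⁅b, c⁆).trans h2, hbc.2⟩
  rwa [Nat.coprime_two_left.2 (hp.out.odd_of_ne_two hp2), pow_one] at h4

end PCQuot

open PCQuot in
/-- The shape `p^(1+2) × C` modulo an invariant `Ω₁(Z(T))` is impossible when the sides extend. -/
theorem false_of_pc_quot {T : Type*} [Group T] [Finite T] {p : ℕ} [Fact p.Prime] (hp2 : p ≠ 2)
    (hT : IsPGroup p T) (P : Pair p T) [(oz p T).Normal] (hA : P.A.Inv (oz p T)) (hB : P.B.Inv (oz p T))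
    (Q : Pair p (T ⧸ oz p T)) (mA : SideMap (QuotientGroup.mk' (oz p T)) P.A Q.A)
    (mB : SideMap (QuotientGroup.mk' (oz p T)) P.B Q.B) (hpc : OutPC Q)
    (eA : P.A.Extends P.B) (eB : P.B.Extends P.A) : False := by
  obtain ⟨C, a', b', h1, h2, h3, h4, h5, h6, h7, h8, h9, h10, h11, h12, h13⟩ := hpc
  obtain ⟨a, rfl⟩ := QuotientGroup.mk'_surjective (oz p T) a'
  obtain ⟨b, rfl⟩ := QuotientGroup.mk'_surjective (oz p T) b'
  have h : Data Q C _ _ := ⟨h1, h2, h3, h4, h5, h6, h7, h8, h9, h10, h11, h12, h13⟩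
  set π := QuotientGroup.mk' (oz p T) with hπdef
  have hπ : ∀ y, π y = 1 ↔ y ∈ oz p T := fun y => QuotientGroup.eq_one_iff y
  set c := ⁅b, a⁆ with hcdef
  have hcb : Commute c b := (commutatorElement_eq_one_iff_mul_comm.1
    (comm_eq_one hp2 hT P hB Q mA.map_E mB eB h)).symm
  have hca : Commute c a := by
    have h' := comm_eq_one hp2 hT P.swap hA Q.swap mB.map_E mA eA h.swap
    rw [← commutatorElement_inv b a, ← hcdef, commutatorElement_eq_one_iff_mul_comm] at h'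
    exact (Commute.inv_left_iff.1 (h' : Commute a c⁻¹).symm)
  have hcw : ∀ x, π x ∈ Subgroup.center (T ⧸ oz p T) → Commute c x := by
    intro x hx
    have hz : ∀ y, ⁅x, y⁆ ∈ Subgroup.center T := fun y => ((hπ _).1 (by
      rw [map_commutatorElement, commutatorElement_eq_one_iff_mul_comm]
      exact (Subgroup.mem_center_iff.1 hx _).symm)).1
    have key : ∀ y, x * y * x⁻¹ = ⁅x, y⁆ * y := fun y => by
      rw [commutatorElement_def, inv_mul_cancel_right]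
    have hy : ∀ {z z' : T}, z ∈ Subgroup.center T → z' ∈ Subgroup.center T →
        ⁅z * b, z' * a⁆ = c := fun {z z'} hz1 hz2 => by
      have e1 := Subgroup.mem_center_iff.1 hz1
      have e2 := Subgroup.mem_center_iff.1 (inv_mem hz1)
      have e3 := Subgroup.mem_center_iff.1 hz2
      calc ⁅z * b, z' * a⁆ = z * (b * z') * a * (b⁻¹ * z⁻¹) * a⁻¹ * z'⁻¹ := by
            simp only [commutatorElement_def]; group
        _ = z * (z' * b) * a * (z⁻¹ * b⁻¹) * a⁻¹ * z'⁻¹ := by rw [e3 b, e2 b⁻¹]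
        _ = z * (z' * ((b * a) * z⁻¹)) * b⁻¹ * a⁻¹ * z'⁻¹ := by group
        _ = z * (z' * z⁻¹) * (b * a * b⁻¹ * a⁻¹) * z'⁻¹ := by rw [e2 (b * a)]; group
        _ = z' * c * z'⁻¹ := by rw [e2 z', mul_inv_cancel_left, hcdef, commutatorElement_def]
        _ = c := by rw [← e3 c, mul_inv_cancel_right]
    refine Commute.symm (show x * c = c * x from mul_inv_eq_iff_eq_mul.1 ?_)
    rw [hcdef, ← MulAut.conj_apply, map_commutatorElement, MulAut.conj_apply, MulAut.conj_apply,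
      key, key, hy (hz b) (hz a)]
  have hcen : c ∈ Subgroup.center T := by
    refine Subgroup.mem_center_iff.2 fun y => ?_
    haveI := Q.B.normal
    obtain ⟨k, e, he, hye⟩ := TwoNonab.exists_pow_mul_of_index (E := Q.B.E) Q.B.index h.bB (π y)
    obtain ⟨i, w, hw, rfl⟩ := h.exists_pow_mul he
    rw [show y = b ^ k * (a ^ i * ((b ^ k * a ^ i)⁻¹ * y)) by group]
    refine ((hcb.pow_right k).mul_right ((hca.pow_right i).mul_right (hcw _ ?_))).eq.symm
    rw [map_mul, map_inv, map_mul, map_pow, map_pow, hye,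
      show (π b ^ k * π a ^ i)⁻¹ * (π b ^ k * (π a ^ i * w)) = w by group]
    exact h.Wc ▸ hw
  have hbp : b ^ p ∈ oz p T := (hπ _).1 (by rw [map_pow]; exact h.bp)
  have hcp : c ^ p = 1 := by
    have e := conj_pow_pow hca hcb (show b * a * b⁻¹ = c * a by
      rw [hcdef, commutatorElement_def, inv_mul_cancel_right]) p 1
    rw [mul_one, pow_one, ← Subgroup.mem_center_iff.1 hbp.1 a, mul_inv_cancel_right] at e
    exact mul_eq_right.1 e.symm
  have h0 : π c = 1 := (hπ c).2 ⟨hcen, hcp⟩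
  rw [hcdef, map_commutatorElement] at h0
  exact h.cC (h0 ▸ one_mem C)

end CfsgLib.RankThreePair
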