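import Cfsg.Agent.Lib.RankThreePair.Quot
import Cfsg.Agent.Lib.RankThreePair.Axis
import Cfsg.Agent.Lib.RankThreePair.TwoNonabBasic

/-!
The shape of a Sylow subgroup of `Sp₄(p)` does not occur modulo an invariant `Ω₁(Z(T))`.
-/

set_option autoImplicit false
set_option linter.style.haveILetI false
set_option linter.unusedSectionVars false
set_option linter.unusedVariables false

namespace CfsgLib.RankThreePair

open Subgroup
open scoped commutatorElement

namespace SPQuot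

variable {U : Type*} [Group U] [Finite U] {p : ℕ} [hp : Fact p.Prime]

/-- The invariant subgroups of the elementary side and a chain through it. -/
theorem sp_facts (hU : IsPGroup p U) (Q : Pair p U) (hsp : OutSp Q.A Q.B) (hW : ¬ Q.A.Inv Q.W) :
    (∀ N, Q.A.Inv N → N = ⊥ ∨ N = Q.A.E) ∧
      ∃ s x : U, x ∈ Q.A.E ∧ ⁅s, ⁅s, x⁆⁆ ∈ Subgroup.center U ∧ ⁅s, ⁅s, x⁆⁆ ≠ 1 ∧
        ∀ C : Subgroup U, C ≤ Q.A.E → ⁅s, ⁅s, x⁆⁆ ∈ C → ⁅s, x⁆ ∈ C → x ∈ C → C = Q.A.E := by
  set A := Q.A.E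
  set Z := Subgroup.center U
  set W := Q.W with hWdef
  haveI hAn : A.Normal := Q.A.normal
  haveI hWn : W.Normal := Subgroup.normal_inf_normal _ _ (hH := Q.A.normal) (hK := Q.B.normal)
  have hZW : Z ≤ W := le_inf Q.A.center_le Q.B.center_le
  have hAne : ¬ A ≤ W := fun h => Q.ne (Subgroup.eq_of_le_of_card_ge (h.trans inf_le_right)
    (le_of_eq (hsp.cardB.trans hsp.cardA.symm)))
  have hWc : Nat.card W = p ^ 2 := by
    have h1 : Nat.card W ∣ p ^ 3 := hsp.cardA ▸ Subgroup.card_dvd_of_le inf_le_left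
    obtain ⟨k, hk, hk'⟩ := (Nat.dvd_prime_pow hp.out).1 h1
    have h2 : k ≠ 3 := fun h => hAne (le_of_eq (Subgroup.eq_of_le_of_card_ge
      (inf_le_left : W ≤ A) (show Nat.card A ≤ Nat.card W by rw [hk', h, hsp.cardA])).symm)
    have h3 : W.index ≤ p * p := by
      have := Subgroup.index_inf_le (H := Q.A.E) (K := Q.B.E)
      rwa [Q.A.index, Q.B.index] at this
    have h4 := Subgroup.card_mul_index W
    rw [hsp.card, hk'] at h4
    have h5 : p ^ 4 ≤ p ^ (k + 2) := by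
      rw [pow_add p k 2, pow_two, ← h4]
      exact Nat.mul_le_mul_left _ h3
    rw [Nat.pow_le_pow_iff_right hp.out.one_lt] at h5
    rw [hk', show k = 2 by omega]
  have hrel : Z.relIndex W = p := by
    have h := Subgroup.relIndex_mul_relIndex ⊥ Z W bot_le hZW
    rw [Subgroup.relIndex_bot_left, Subgroup.relIndex_bot_left, hsp.card_center, hWc, pow_two] at h
    exact Nat.eq_of_mul_eq_mul_left hp.out.pos h
  have hTW : ∀ s : U, ∀ w ∈ W, ⁅s, w⁆ ∈ Z :=
    comm_mem_of_relIndex hU hWn inferInstance hZW hrel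
  have hTA : ∀ s : U, ∀ x ∈ A, ⁅s, x⁆ ∈ W := fun s x hx => by
    refine ⟨?_, comm_mem_of_relIndex hU (inferInstance : (⊤ : Subgroup U).Normal) Q.B.normal le_top
      (by rw [Subgroup.relIndex_top_right, Q.B.index]) s x (mem_top _)⟩
    rw [commutatorElement_def]
    exact A.mul_mem (hAn.conj_mem x hx s) (A.inv_mem hx)
  obtain ⟨s, hs⟩ : ∃ s, s ∉ A := by
    by_contra h
    push Not at h
    exact Q.A.ne_top ((Subgroup.eq_top_iff' _).2 h)
  have hcen : ∀ x ∈ A, ⁅s, x⁆ = 1 → x ∈ Z := fun x hx h => Subgroup.mem_center_iff.2 fun y => by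
    obtain ⟨i, e, he, rfl⟩ := TwoNonab.exists_pow_mul_of_index (E := A) Q.A.index hs y
    have h0 : Commute s x := commutatorElement_eq_one_iff_mul_comm.1 h
    have h1 : Commute (s ^ i) x := h0.pow_left i
    exact (h1.mul_left (hsp.commA e he x hx : Commute e x)).eq
  obtain ⟨x, hx, hxZ⟩ : ∃ x ∈ A, ⁅s, x⁆ ∉ Z := by
    by_contra h
    push Not at h
    let φ : A →* Z := MonoidHom.mk' (fun x => ⟨⁅s, (x : U)⁆, h x x.2⟩) fun a b => Subtype.ext (by
      show ⁅s, ((a * b : A) : U)⁆ = ⁅s, (a : U)⁆ * ⁅s, (b : U)⁆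
      have hb := Subgroup.mem_center_iff.1 (h b b.2) (a : U)
      rw [Subgroup.coe_mul, show ⁅s, (a : U) * b⁆ = ⁅s, (a : U)⁆ * (a * ⁅s, (b : U)⁆ * (a : U)⁻¹) by
        simp [commutatorElement_def, mul_assoc], hb, mul_inv_cancel_right])
    have hker : Nat.card φ.ker ≤ p := by
      rw [← hsp.card_center]
      refine Nat.card_le_card_of_injective
        (fun a => (⟨((a : A) : U), hcen _ (a : A).2 (congrArg Subtype.val a.2)⟩ : Z)) ?_
      intro a b hab
      exact Subtype.ext (Subtype.ext (congrArg Subtype.val hab :))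
    have hr : Nat.card φ.range ≤ p := hsp.card_center ▸ Nat.card_le_card_of_injective
      Subtype.val Subtype.val_injective
    have h1 := Subgroup.card_mul_index φ.ker
    rw [Subgroup.index_ker, hsp.cardA] at h1
    nlinarith [hp.out.two_le, pow_succ p 2, pow_two p, Nat.mul_le_mul hker hr]
  have hxW : x ∉ W := fun h => hxZ (hTW s x h)
  have hgenW : ∀ C : Subgroup U, Z ≤ C → (∃ w ∈ W, w ∈ C ∧ w ∉ Z) → W ≤ C := by
    rintro C hZC ⟨w, hw, hwC, hwZ⟩
    obtain ⟨k, hk, hk'⟩ := (Nat.dvd_prime_pow hp.out).1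
      (hWc ▸ Subgroup.card_dvd_of_le (inf_le_left : W ⊓ C ≤ W))
    have h1 : p ^ 1 < p ^ k := by
      rw [pow_one, ← hk', ← hsp.card_center]
      refine lt_of_le_of_ne (Subgroup.card_le_of_le (le_inf hZW hZC)) fun e => hwZ ?_
      rw [Subgroup.eq_of_le_of_card_ge (le_inf hZW hZC) e.ge]
      exact ⟨hw, hwC⟩
    have h2 : k = 2 := by
      have := (Nat.pow_lt_pow_iff_right hp.out.one_lt).1 h1
      omega
    exact inf_eq_left.1 (Subgroup.eq_of_le_of_card_ge inf_le_left (by rw [hWc, hk', h2]))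
  have hgenA : ∀ C : Subgroup U, C ≤ A → W ≤ C → (∃ a ∈ C, a ∉ W) → C = A := by
    rintro C hCA hWC ⟨a, ha, haW⟩
    obtain ⟨k, hk, hk'⟩ := (Nat.dvd_prime_pow hp.out).1 (hsp.cardA ▸ Subgroup.card_dvd_of_le hCA)
    have h1 : p ^ 2 < p ^ k := by
      rw [← hk', ← hWc]
      refine lt_of_le_of_ne (Subgroup.card_le_of_le hWC) fun e => haW ?_
      rw [Subgroup.eq_of_le_of_card_ge hWC e.ge]
      exact ha
    have h2 : k = 3 := by
      have := (Nat.pow_lt_pow_iff_right hp.out.one_lt).1 h1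
      omega
    exact Subgroup.eq_of_le_of_card_ge hCA (by rw [hsp.cardA, hk', h2])
  have hozZ : oz p U = Z := by
    refine le_antisymm (fun y hy => hy.1) fun y hy => ⟨hy, ?_⟩
    exact congrArg Subtype.val (hsp.card_center ▸ pow_card_eq_one' (x := (⟨y, hy⟩ : Z)))
  haveI hZp : Fact (Nat.card Z).Prime := ⟨hsp.card_center ▸ hp.out⟩
  have hZle : ∀ C : Subgroup U, ∀ z ∈ Z, z ≠ 1 → z ∈ C → Z ≤ C := fun C z hz hz1 hzC y hy => by
    have h1 : (⟨y, hy⟩ : Z) ∈ Subgroup.zpowers (⟨z, hz⟩ : Z) :=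
      mem_zpowers_of_prime_card hsp.card_center (fun h => hz1 (congrArg Subtype.val h))
    obtain ⟨i, hi⟩ := Subgroup.mem_zpowers_iff.1 h1
    rw [← show z ^ i = y from congrArg Subtype.val hi]
    exact zpow_mem hzC i
  refine ⟨fun N hN => ?_, s, x, hx, hTW s _ (hTA s x hx),
    fun h => hxZ (hcen _ (hTA s x hx).1 h), fun C hC h1 h2 h3 => ?_⟩
  · by_cases hN0 : N = ⊥
    · exact Or.inl hN0
    haveI := hN.normal
    obtain ⟨z, hzN, hz1, hzc⟩ := CfsgLib.InvChar.exists_mem_center_of_normal hU N hN0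
    have hZN : Z ≤ N := hZle N z hzc hz1 hzN
    by_cases hcase : ∃ a ∈ N, a ∉ W
    · refine Or.inr ?_
      by_cases hw : ∃ w ∈ W, w ∈ N ∧ w ∉ Z
      · exact hgenA N hN.1 (hgenW N hZN hw) hcase
      · push Not at hw
        obtain ⟨a, ha, haW⟩ := hcase
        exfalso
        have hAW : A = W ⊔ N := (hgenA _ (sup_le inf_le_left hN.1) le_sup_left
          ⟨a, Subgroup.mem_sup_right ha, haW⟩).symm
        refine hxZ ?_
        rw [hAW] at hx
        obtain ⟨w, hw', n, hn, rfl⟩ := Subgroup.mem_sup_of_normal_left.1 hx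
        rw [show ⁅s, w * n⁆ = ⁅s, w⁆ * (w * ⁅s, n⁆ * w⁻¹) by simp [commutatorElement_def, mul_assoc]]
        refine mul_mem (hTW s w hw') ((inferInstance : Z.Normal).conj_mem _ ?_ w)
        refine hw _ (hTA s n (hN.1 hn)) ?_
        rw [commutatorElement_def]
        exact mul_mem (‹N.Normal›.conj_mem n hn s) (inv_mem hn)
    · push Not at hcase
      exfalso
      by_cases hw : ∃ w ∈ W, w ∈ N ∧ w ∉ Z
      · exact hW (le_antisymm (hgenW N hZN hw) hcase ▸ hN)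
      · push Not at hw
        have hNZ : N = Z := le_antisymm (fun a ha => hw a (hcase a ha) ha) hZN
        exact hsp.moves (hozZ ▸ hNZ ▸ hN)
  · have h4 : Z ≤ C := hZle C _ (hTW s _ (hTA s x hx)) (fun h => hxZ (hcen _ (hTA s x hx).1 h)) h1
    exact hgenA C hC (hgenW C h4 ⟨_, hTA s x hx, h2, hxZ⟩) ⟨x, h3, hxW⟩

end SPQuot

/-- The shape of a Sylow subgroup of `Sp₄(p)` modulo an invariant `Ω₁(Z(T))` is impossible. -/
theorem false_of_sp_quot {T : Type*} [Group T] [Finite T] {p : ℕ} [Fact p.Prime] (hp2 : p ≠ 2)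
    (hT : IsPGroup p T) (hr : Cfsg.SectionalPRankLE p 3 T) (P : Pair p T) [(oz p T).Normal]
    (hA : P.A.Inv (oz p T)) (hB : P.B.Inv (oz p T))
    (Q : Pair p (T ⧸ oz p T)) (mA : SideMap (QuotientGroup.mk' (oz p T)) P.A Q.A)
    (mB : SideMap (QuotientGroup.mk' (oz p T)) P.B Q.B) (hsp : OutSp Q.A Q.B)
    (hW : ¬ Q.A.Inv Q.W) : False := by
  set Z := oz p T with hZdef
  set π := QuotientGroup.mk' Z with hπdef
  have hπ : ∀ y, π y = 1 ↔ y ∈ Z := fun y => QuotientGroup.eq_one_iff y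
  obtain ⟨hirr, s', x', hx', hzc', hz1', hgen⟩ := SPQuot.sp_facts (hT.to_quotient Z) Q hsp hW
  have hZE : Z ≤ P.A.E := P.A.oz_le
  have hZc : ∀ z ∈ Z, ∀ y, y * z = z * y := fun z hz y => Subgroup.mem_center_iff.1 hz.1 y
  haveI := P.A.normal
  -- irreducibility
  have key : ∀ L, P.A.Inv L → Z ≤ L → L ≤ Z ∨ P.A.E ≤ L := by
    intro L hL hZL
    have hinv : Q.A.Inv (L.map π) := by
      refine ⟨mA.map_E ▸ Subgroup.map_mono hL.1, fun g' hg' y' hy' => ?_⟩
      obtain ⟨g, hg, hgg⟩ := mA.pull g' hg'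
      obtain ⟨y, hy, hyy⟩ := hy'
      rw [← hgg ⟨y, hL.1 hy⟩ y' hyy]
      exact mem_map_of_mem π (hL.2 g hg ⟨y, hL.1 hy⟩ hy)
    rcases hirr _ hinv with h | h
    · exact Or.inl fun y hy => (hπ y).1 (Subgroup.mem_bot.1 (h ▸ mem_map_of_mem π hy))
    · refine Or.inr fun y hy => ?_
      obtain ⟨l, hl, hly⟩ : π y ∈ L.map π := h.symm ▸ mA.map_E ▸ mem_map_of_mem π hy
      rw [show y = l * (l⁻¹ * y) by group]
      exact mul_mem hl (hZL ((hπ _).1 (by rw [map_mul, map_inv, hly, inv_mul_cancel])))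
  -- lifts
  obtain ⟨s, rfl⟩ := QuotientGroup.mk'_surjective Z s'
  obtain ⟨x, hx, rfl⟩ : x' ∈ P.A.E.map π := mA.map_E.symm ▸ hx'
  have hEs : ∀ y ∈ P.A.E, ⁅s, y⁆ ∈ P.A.E := fun y hy => by
    rw [commutatorElement_def]
    exact mul_mem (P.A.normal.conj_mem y hy s) (inv_mem hy)
  set w := ⁅s, x⁆ with hwdef
  set z := ⁅s, w⁆ with hzdef
  have hw : w ∈ P.A.E := hEs x hx
  have hz : z ∈ P.A.E := hEs w hw
  have hπz : π z = ⁅π s, ⁅π s, π x⁆⁆ := by rw [hzdef, hwdef, map_commutatorElement, map_commutatorElement]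
  have hzZ : z ∉ Z := fun h => hz1' (by rw [← hπz]; exact (hπ z).2 h)
  have hcom : ∀ a ∈ P.A.E, ∀ b ∈ P.A.E, ⁅a, b⁆ ∈ Z := fun a ha b hb => by
    rw [← hπ, map_commutatorElement, commutatorElement_eq_one_iff_mul_comm]
    exact hsp.commA _ (mA.map_E ▸ mem_map_of_mem π ha) _ (mA.map_E ▸ mem_map_of_mem π hb)
  have hinv : ∀ a ∈ P.A.E, ∀ b ∈ P.A.E, ⁅s * a * s⁻¹, s * b * s⁻¹⁆ = ⁅a, b⁆ := fun a ha b hb => by
    rw [show ⁅s * a * s⁻¹, s * b * s⁻¹⁆ = s * ⁅a, b⁆ * s⁻¹ by simp [commutatorElement_def, mul_assoc],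
      hZc _ (hcom a ha b hb), mul_inv_cancel_right]
  have hL : ∀ a b c : T, b ∈ P.A.E → c ∈ P.A.E → ⁅a * b, c⁆ = ⁅b, c⁆ * ⁅a, c⁆ := fun a b c hb hc => by
    rw [show ⁅a * b, c⁆ = a * ⁅b, c⁆ * a⁻¹ * ⁅a, c⁆ by simp [commutatorElement_def, mul_assoc],
      hZc _ (hcom b hb c hc), mul_inv_cancel_right]
  have hR : ∀ a b c : T, a ∈ P.A.E → c ∈ P.A.E → ⁅a, b * c⁆ = ⁅a, b⁆ * ⁅a, c⁆ := fun a b c ha hc => by
    rw [show ⁅a, b * c⁆ = ⁅a, b⁆ * (b * ⁅a, c⁆ * b⁻¹) by simp [commutatorElement_def, mul_assoc],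
      hZc _ (hcom a ha c hc), mul_inv_cancel_right]
  have hsx : s * x * s⁻¹ = w * x := by rw [hwdef, commutatorElement_def, inv_mul_cancel_right]
  have hsw : s * w * s⁻¹ = z * w := by rw [hzdef, commutatorElement_def, inv_mul_cancel_right]
  have hsz : ⁅s, z⁆ ∈ Z := by
    rw [← hπ, map_commutatorElement, commutatorElement_eq_one_iff_mul_comm, hπz]
    exact Subgroup.mem_center_iff.1 hzc' _
  have hsz' : s * z * s⁻¹ = ⁅s, z⁆ * z := by rw [commutatorElement_def, inv_mul_cancel_right]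
  have hwx : w * x ∈ P.A.E := mul_mem hw hx
  have hzw : ⁅z, w⁆ = 1 := by
    have h := hinv z hz x hx
    rw [hsz', hsx, hL _ z _ hz hwx, (commutatorElement_eq_one_iff_mul_comm).2 (hZc _ hsz _).symm,
      mul_one, hR z w x hz hx] at h
    exact mul_eq_right.1 h
  have hzx : ⁅z, x⁆ = 1 := by
    have h := hinv w hw x hx
    rw [hsw, hsx, hL z w _ hw hwx, hR z w x hz hx, hR w w x hw hx, commutatorElement_self, hzw,
      one_mul, one_mul] at h
    exact mul_eq_left.1 h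
  -- the side is abelian
  have hzcen : ∀ y ∈ P.A.E, z * y = y * z := by
    set C := P.A.E ⊓ Subgroup.centralizer ({z} : Set T) with hC
    have hCz : ∀ {y}, y ∈ P.A.E → ⁅z, y⁆ = 1 → y ∈ C := fun hy h =>
      ⟨hy, Subgroup.mem_centralizer_singleton_iff.2 (commutatorElement_eq_one_iff_mul_comm.1 h).symm⟩
    have h1 : C.map π = Q.A.E := by
      refine hgen _ (mA.map_E ▸ Subgroup.map_mono inf_le_left) ?_ ?_ ⟨x, hCz hx hzx, rfl⟩
      · exact ⟨z, hCz hz (commutatorElement_self z), hπz⟩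
      · exact ⟨w, hCz hw hzw, by rw [hwdef, map_commutatorElement]⟩
    intro y hy
    obtain ⟨c, hc, hcy⟩ : π y ∈ C.map π := h1.symm ▸ mA.map_E ▸ mem_map_of_mem π hy
    have h2 : c⁻¹ * y ∈ Z := (hπ _).1 (by rw [map_mul, map_inv, hcy, inv_mul_cancel])
    rw [show y = c * (c⁻¹ * y) by group]
    exact Commute.mul_right (Subgroup.mem_centralizer_singleton_iff.1 hc.2).symm (hZc _ h2 z)
  have hab : ∀ a ∈ P.A.E, ∀ b ∈ P.A.E, a * b = b * a := by
    rcases key _ (Side.inv_centralizer P.A.inv_E)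
      (le_inf hZE fun q hq y _ => hZc q hq y) with h | h
    · exact absurd (h ⟨hz, fun y hy => (hzcen y hy).symm⟩) hzZ
    · exact fun a ha b hb => ((h ha).2 b hb).symm
  -- elements of order `p`
  let Ω : Subgroup T :=
    { carrier := {y | y ∈ P.A.E ∧ y ^ p = 1}
      one_mem' := ⟨one_mem _, one_pow _⟩
      mul_mem' := fun {a b} ha hb => ⟨mul_mem ha.1 hb.1, by
        rw [Commute.mul_pow (hab a ha.1 b hb.1), ha.2, hb.2, one_mul]⟩
      inv_mem' := fun {a} ha => ⟨inv_mem ha.1, by rw [inv_pow, ha.2, inv_one]⟩ }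
  have hΩ : P.A.Inv Ω := ⟨fun y hy => hy.1, fun g _ y hy => ⟨SetLike.coe_mem _, by
    rw [← SubmonoidClass.coe_pow, ← map_pow, show y ^ p = 1 from Subtype.ext hy.2, map_one]
    rfl⟩⟩
  have hpow : ∀ y ∈ P.A.E, y ^ p ∈ Z := fun y hy => by
    rw [← hπ, map_pow]
    exact hsp.expA _ (mA.map_E ▸ mem_map_of_mem π hy)
  rcases key Ω hΩ (fun q hq => ⟨hZE hq, hq.2⟩) with h | h
  · refine hzZ (h ⟨hz, ?_⟩)
    have h1 : (s * w * s⁻¹) ^ p = w ^ p := by rw [conj_pow, hZc _ (hpow w hw), mul_inv_cancel_right]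
    rw [hsw, Commute.mul_pow (hab z hz w hw)] at h1
    exact mul_eq_right.1 h1
  · have h1 : Nat.card P.A.E ≤ p ^ 3 := by
      rw [← Subgroup.relIndex_bot_left]
      refine TwoNonab.relIndex_le_of_comm hr (T := (P.A.E : Set T))
        (fun a _ q hq => by rw [mem_bot] at hq ⊢; rw [hq, mul_one, mul_inv_cancel])
        Subgroup.subset_closure subset_rfl (fun a ha b hb => ?_) fun a ha => ?_
      · rw [mem_bot, commutatorElement_eq_one_iff_mul_comm]
        exact hab a ha b hb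
      · exact mem_bot.2 (h ha).2
    have h2 : Nat.card Z * p ^ 3 = Nat.card P.A.E := by
      rw [← Subgroup.relIndex_bot_left, ← Subgroup.relIndex_bot_left, ← hsp.cardA, ← mA.map_E,
        ← Subgroup.relIndex_mul_relIndex ⊥ Z P.A.E bot_le hZE]
      congr 1
      rw [← Subgroup.relIndex_ker, QuotientGroup.ker_mk']
    haveI : Nontrivial T := by
      by_contra hcon
      rw [not_nontrivial_iff_subsingleton] at hcon
      exact hzZ (Subsingleton.elim z 1 ▸ one_mem Z)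
    obtain ⟨⟨u, hu⟩, hord⟩ := exists_prime_orderOf_dvd_card' (G := Subgroup.center T) p (by
      obtain ⟨n, hn⟩ := IsPGroup.iff_card.1 (hT.to_subgroup (Subgroup.center T))
      haveI := hT.center_nontrivial
      have hn0 : n ≠ 0 := fun h0 => by
        rw [h0, pow_zero] at hn
        exact Finite.one_lt_card.ne' hn
      exact hn ▸ dvd_pow_self p hn0)
    rw [Subgroup.orderOf_mk] at hord
    have huZ : u ∈ Z := ⟨hu, hord ▸ pow_orderOf_eq_one u⟩
    have hu1 : u ≠ 1 := fun h0 => by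
      rw [h0, orderOf_one] at hord
      exact (Fact.out : p.Prime).ne_one hord.symm
    have h3 : 2 ≤ Nat.card Z := by
      haveI : Nontrivial Z := ⟨⟨⟨u, huZ⟩, 1, fun h0 => hu1 (congrArg Subtype.val h0)⟩⟩
      exact Finite.one_lt_card
    nlinarith [pow_pos (Fact.out : p.Prime).pos 3]

end CfsgLib.RankThreePair
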