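import Cfsg.Agent.Lib.RankThreePair.Induct
import Cfsg.Agent.Lib.RankThreePair.Descend
import Cfsg.Agent.Lib.RankThreePair.SPQuot
import Cfsg.Agent.Lib.RankThreePair.PCQuot

/-!
No pair with extensions fixes the centre.
-/

set_option autoImplicit false
set_option linter.style.haveILetI false
set_option linter.unusedSectionVars false

namespace CfsgLib.RankThreePair

open Subgroup
open scoped commutatorElement

universe u

variable {p : ℕ} [hp : Fact p.Prime]

theorem false_of_fixed_aux (hp2 : p ≠ 2) (n : ℕ) :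
    ∀ (T : Type u) [Group T] [Finite T], Nat.card T = n → IsPGroup p T →
      Cfsg.SectionalPRankLE p 3 T → ∀ P : Pair p T, P.A.Inv (oz p T) → P.B.Inv (oz p T) →
        P.A.Extends P.B → P.B.Extends P.A → False := by
  induction n using Nat.strong_induction_on with
  | _ n ih =>
    intro T _ _ hn hT hr P hA hB eA eB
    classical
    haveI := oz_normal (S := T) (p := p)
    have hcen : ∀ s : T, ∀ x ∈ oz p T, ⁅s, x⁆ = 1 := fun s x hx =>
      commutatorElement_eq_one_iff_mul_comm.2 (Subgroup.mem_center_iff.1 hx.1 s)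
    obtain ⟨Q, mA, mB⟩ := P.exists_quot hT (oz p T) (le_inf P.A.oz_le P.B.oz_le) hA hB
      (Side.moves_of_inv_oz hT hA hcen) (Side.moves_of_inv_oz hT hB hcen)
    have hT' : IsPGroup p (T ⧸ oz p T) := hT.to_quotient _
    have hr' : Cfsg.SectionalPRankLE p 3 (T ⧸ oz p T) := CfsgLib.Invol.sectional_quotient _ hr
    have hq := QuotientGroup.mk'_surjective (oz p T)
    have hker : ∀ A : Side p T, A.Inv (oz p T) → A.Inv (QuotientGroup.mk' (oz p T)).ker := fun A h => by
      rwa [QuotientGroup.ker_mk']
    have hgood := pair_good hp2 hT' hr' Q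
    have hfin : Q.Out → False := by
      rintro (h | h | h)
      · exact false_of_sp_quot hp2 hT hr P hA hB Q mA mB h hgood.ni_A
      · exact false_of_sp_quot hp2 hT hr P.swap hB hA Q.swap mB mA h (by
          rw [Pair.swap_W]; exact hgood.ni_B)
      · exact false_of_pc_quot hp2 hT P hA hB Q mA mB h eA eB
    by_cases hQA : Q.A.Inv (oz p (T ⧸ oz p T))
    swap
    · exact hfin (out_of_mover hp2 hT' hr' Q hQA)
    by_cases hQB : Q.B.Inv (oz p (T ⧸ oz p T))
    swap
    · exact hfin (Out.symm (out_of_mover hp2 hT' hr' Q.swap hQB))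
    haveI : Nontrivial T := by
      obtain ⟨g, -, -, hg⟩ := P.A.exists_coprime_M
      by_contra hnt
      rw [not_nontrivial_iff_subsingleton] at hnt
      exact hg (MulEquiv.ext fun x => Subtype.ext (Subsingleton.elim _ _))
    refine ih _ ?_ (T ⧸ oz p T) rfl hT' hr' Q hQA hQB
      (eA.map hT hq (hker _ hA) mA mB) (eB.map hT hq (hker _ hB) mB mA)
    have h1 := Subgroup.card_eq_card_quotient_mul_card_subgroup (oz p T)
    have h2 : 1 < Nat.card (oz p T) := (Subgroup.one_lt_card_iff_ne_bot _).2 (oz_ne_bot hT)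
    have h3 : 0 < Nat.card (T ⧸ oz p T) := Nat.card_pos
    rw [← hn]
    nlinarith

/-- With extensions some side moves `Ω₁` of the centre. -/
theorem exists_mover {T : Type u} [Group T] [Finite T] (hp2 : p ≠ 2) (hT : IsPGroup p T)
    (hr : Cfsg.SectionalPRankLE p 3 T) (P : Pair p T) (eA : P.A.Extends P.B) (eB : P.B.Extends P.A) :
    ¬ P.A.Inv (oz p T) ∨ ¬ P.B.Inv (oz p T) := by
  by_contra h
  push Not at h
  exact false_of_fixed_aux hp2 _ T rfl hT hr P h.1 h.2 eA eB

/-- With extensions the pair has one of the final shapes. -/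
theorem out_of_extends {T : Type u} [Group T] [Finite T] (hp2 : p ≠ 2) (hT : IsPGroup p T)
    (hr : Cfsg.SectionalPRankLE p 3 T) (P : Pair p T) (eA : P.A.Extends P.B) (eB : P.B.Extends P.A) :
    P.Out :=
  (exists_mover hp2 hT hr P eA eB).elim (out_of_mover hp2 hT hr P)
    fun h => Out.symm (out_of_mover hp2 hT hr P.swap h)

end CfsgLib.RankThreePair
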