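import Cfsg.Agent.Lib.RankThreePair.Axis

/-!
Pairs of the final shapes satisfy the inductive statement.
-/

set_option autoImplicit false
set_option linter.style.haveILetI false
set_option linter.unusedSectionVars false

namespace CfsgLib.RankThreePair

open Subgroup
open scoped commutatorElement

variable {S : Type*} [Group S] [Finite S] {p : ℕ} [hp : Fact p.Prime]

theorem eq_of_index {H K : Subgroup S} (hle : H ≤ K) (h : H.index = K.index) : H = K :=
  Subgroup.eq_of_le_of_card_ge hle (le_of_eq (Nat.eq_of_mul_eq_mul_right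
    (Nat.pos_of_ne_zero K.index_ne_zero_of_finite)
    (by rw [Subgroup.card_mul_index, ← h, Subgroup.card_mul_index])))

theorem Side.sup_eq_top (A : Side p S) {K : Subgroup S} {a : S} (ha : a ∈ K) (hA : a ∉ A.E) :
    A.E ⊔ K = ⊤ := by
  rw [← Subgroup.index_eq_one]
  have h1 : (A.E ⊔ K).index ∣ p := (Subgroup.index_dvd_of_le le_sup_left).trans (dvd_of_eq A.index)
  refine ((Nat.dvd_prime hp.out).1 h1).resolve_right fun h2 => hA ?_
  rw [eq_of_index (le_sup_left : A.E ≤ A.E ⊔ K) (A.index.trans h2.symm)]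
  exact Subgroup.mem_sup_right ha

namespace Pair

variable (P : Pair p S)

theorem W_normal : P.W.Normal := by
  haveI := P.A.normal
  haveI := P.B.normal
  exact Subgroup.normal_inf_normal _ _

theorem relIndex_W : P.W.relIndex P.A.E = p := by
  haveI := P.B.normal
  rw [Pair.W, Subgroup.inf_relIndex_left]
  have h1 : P.B.E.relIndex P.A.E ∣ p :=
    (Subgroup.relIndex_dvd_index_of_normal P.B.E P.A.E).trans (dvd_of_eq P.B.index)
  rcases (Nat.dvd_prime hp.out).1 h1 with h | h
  · exact absurd (eq_of_index (relIndex_eq_one.1 h) (P.A.index.trans P.B.index.symm)) P.ne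
  · exact h

theorem Good.symm {P : Pair p S} (h : P.swap.Good) : P.Good where
  ni_A := by
    have := h.ni_B
    rwa [swap_W] at this
  ni_B := by
    have := h.ni_A
    rwa [swap_W] at this
  fix := fun K h1 h2 hA hB =>
    (h.fix K (by rwa [swap_W]) (by rwa [swap_W]) hB hA).symm

/-- A central intersection is moved by both sides. -/
theorem not_inv_of_center (hS : IsPGroup p S) (hW : P.W ≤ Subgroup.center S) : ¬ P.A.Inv P.W := by
  intro hinv
  let C : ℕ → Subgroup S := fun i => if i = 0 then ⊥ else if i = 1 then P.W else P.A.E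
  refine P.A.false_of_series hS 2 C rfl le_rfl (fun i => ?_) fun i hi s x hxE hx => ?_
  · refine P.A.inv_inf ?_ P.A.inv_E
    simp only [C]
    split_ifs
    exacts [P.A.inv_bot, hinv, P.A.inv_E]
  · interval_cases i
    · show ⁅s, x⁆ ∈ (⊥ : Subgroup S)
      rw [mem_bot, commutatorElement_eq_one_iff_mul_comm]
      exact Subgroup.mem_center_iff.1 (hW hx) s
    · exact comm_mem_of_relIndex hS P.A.normal P.W_normal inf_le_left P.relIndex_W s x hx

theorem good_of_pc (hS : IsPGroup p S) (h : OutPC P) : P.Good := by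
  obtain ⟨C, a, b, -, -, -, -, -, -, -, -, -, -, -, hW, -⟩ := h
  have hfix : ∀ (A : Side p S) (K : Subgroup S), K ≤ Subgroup.center S → A.Inv K →
      ∀ g ∈ A.M, A.Fixes g K ⊥ := fun A K hK hinv g hg =>
    Side.fixes_of_comm hinv A.inv_bot (fun s x hx => by
      rw [mem_bot, commutatorElement_eq_one_iff_mul_comm]
      exact Subgroup.mem_center_iff.1 (hK hx) s) g hg
  refine ⟨P.not_inv_of_center hS hW.le, ?_, fun K hKW _ hA hB => ?_⟩
  · have := P.swap.not_inv_of_center hS (by rw [swap_W, hW])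
    rwa [swap_W] at this
  · exact ⟨fun g hg _ => hfix P.A K (hKW.trans hW.le) hA g hg,
      fun g hg _ => hfix P.B K (hKW.trans hW.le) hB g hg⟩

end Pair

/-- An elementary side with centre of order `p` has no invariant plane. -/
theorem Side.false_of_plane (A : Side p S) (hS : IsPGroup p S) (hp2 : p ≠ 2)
    (hab : ∀ x ∈ A.E, ∀ y ∈ A.E, x * y = y * x) (hexp : ∀ x ∈ A.E, x ^ p = 1)
    (hZ : Nat.card (Subgroup.center S) = p) (hmv : ¬ A.Inv (oz p S))
    {W : Subgroup S} (hW : A.Inv W) (hidx : W.relIndex A.E = p) (hWc : Nat.card W = p ^ 2)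
    {a : S} (ha : a ∉ A.E) (hWa : ∃ x ∈ W, ⁅a, x⁆ ≠ 1) : False := by
  classical
  haveI := hW.normal
  haveI : Finite (MulAut A.E) := Finite.of_injective _ MulEquiv.toEquiv_injective
  have hsmall : ∀ L : Subgroup S, A.Inv L → L ≤ W → L = ⊥ ∨ L = W := by
    intro L hL hLW
    obtain ⟨k, hk, hk'⟩ := (Nat.dvd_prime_pow hp.out).1 (hWc ▸ Subgroup.card_dvd_of_le hLW)
    interval_cases k
    · exact Or.inl (Subgroup.card_eq_one.1 (by simpa using hk'))
    · exfalso
      have hc := comm_mem_of_relIndex hS hL.normal inferInstance bot_le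
        (by rw [Subgroup.relIndex_bot_left, hk', pow_one])
      have hLc : L ≤ Subgroup.center S := fun x hx => Subgroup.mem_center_iff.2 fun s =>
        commutatorElement_eq_one_iff_mul_comm.1 (mem_bot.1 (hc s x hx))
      have hLz : L = oz p S := by
        refine Subgroup.eq_of_le_of_card_ge (fun x hx => ⟨hLc hx, hexp x (hL.1 hx)⟩) ?_
        rw [hk', pow_one, ← hZ]
        exact Subgroup.card_le_of_le (fun x hx => hx.1)
      exact hmv (hLz ▸ hL)
    · exact Or.inr (Subgroup.eq_of_le_of_card_ge hLW (by rw [hk', hWc]))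
  obtain ⟨τ, hτM, hτp, hτT, hτinv⟩ := A.exists_neg hS hp2 hW A.inv_bot bot_le
    (by rw [Subgroup.relIndex_bot_left, hWc])
    (fun x hx y hy => by rw [mem_bot, commutatorElement_eq_one_iff_mul_comm]; exact hab x (hW.1 hx) y (hW.1 hy))
    (fun x hx => by rw [mem_bot]; exact hexp x (hW.1 hx))
    (fun L hL _ hLW => hsmall L hL hLW)
    (by obtain ⟨x, hx, hx1⟩ := hWa; exact ⟨a, x, hx, by rwa [mem_bot]⟩)
  have hfixE : A.Fixes τ A.E W :=
    Side.fixes_of_comm A.inv_E hW (comm_mem_of_relIndex hS A.normal hW.normal hW.1 hidx) τ hτM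
  have hneg : ∀ x : A.E, (x : S) ∈ W → τ x = x⁻¹ := fun x hx => by
    have h1 := hτinv x hx
    rw [mem_bot] at h1
    exact Subtype.ext (eq_inv_of_mul_eq_one_right h1)
  obtain ⟨e, he, heW⟩ : ∃ e ∈ A.E, e ∉ W := by
    by_contra h
    push Not at h
    rw [relIndex_eq_one.2 h] at hidx
    exact hp.out.ne_one hidx.symm
  -- a fixed vector outside the plane
  set w : A.E := (⟨e, he⟩ : A.E)⁻¹ * τ ⟨e, he⟩ with hwdef
  have hwW : (w : S) ∈ W := hfixE ⟨e, he⟩ he
  obtain ⟨m, hm⟩ := hp.out.odd_of_ne_two hp2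
  set e' : A.E := ⟨e, he⟩ * w ^ (m + 1) with he'
  have hwp : w ^ p = 1 := Subtype.ext (hexp _ w.2)
  have he'W : (e' : S) ∉ W := fun h => heW (by
    have h1 := W.mul_mem h (W.inv_mem (W.pow_mem hwW (m + 1)))
    simpa [he'] using h1)
  have hfix : τ e' = e' := by
    rw [he', map_mul, map_pow, hneg w hwW, show τ ⟨e, he⟩ = ⟨e, he⟩ * w by
      rw [hwdef, mul_inv_cancel_left]]
    rw [inv_pow, mul_assoc]
    congr 1
    rw [mul_inv_eq_iff_eq_mul, ← pow_add, show m + 1 + (m + 1) = p + 1 by omega, pow_succ, hwp, one_mul]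
  -- `τ` commutes with the conjugation
  obtain ⟨s', hs'⟩ := hτT a
  have hcomm : τ * A.cj a = A.cj a * τ := by
    have hagree : ∀ y : A.E, (y : S) ∈ W → A.cj s' y = A.cj a y := fun y hy => by
      have hy' : τ⁻¹ y = y⁻¹ := by
        have h2 : τ y⁻¹ = y := by rw [hneg _ (W.inv_mem hy), inv_inv]
        conv_lhs => rw [← h2]
        rw [MulAut.inv_apply_self]
      have h1 := DFunLike.congr_fun hs' y
      rw [MulAut.mul_apply, MulAut.mul_apply, hy', map_inv, map_inv,
        hneg _ (hW.2 _ (A.cj_mem a) y hy), inv_inv] at h1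
      exact h1.symm
    have hd : a⁻¹ * s' ∈ A.E := by
      by_contra hd
      obtain ⟨x, hx, hx1⟩ := hWa
      have htop := A.sup_eq_top (Subgroup.mem_zpowers (a⁻¹ * s')) hd
      have hle : A.E ⊔ Subgroup.zpowers (a⁻¹ * s') ≤ Subgroup.centralizer ({x} : Set S) := by
        refine sup_le (fun y hy => ?_) (Subgroup.zpowers_le.2 ?_) <;>
          rw [Subgroup.mem_centralizer_singleton_iff]
        · exact hab y hy x (hW.1 hx)
        · have h1 := congrArg Subtype.val (hagree ⟨x, hW.1 hx⟩ hx)
          rw [Side.cj_apply, Side.cj_apply] at h1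
          calc a⁻¹ * s' * x = a⁻¹ * (s' * x * s'⁻¹) * s' := by group
            _ = x * (a⁻¹ * s') := by rw [h1]; group
      exact hx1 (commutatorElement_eq_one_iff_mul_comm.2
        (Subgroup.mem_centralizer_singleton_iff.1 (hle (htop ▸ Subgroup.mem_top a))))
    have hone : A.cj (a⁻¹ * s') = 1 := MulEquiv.ext fun y => Subtype.ext (by
      rw [Side.cj_apply, hab _ hd y y.2, mul_inv_cancel_right]; rfl)
    have hcj : A.cj s' = A.cj a := by
      rw [map_mul, map_inv, inv_mul_eq_one] at hone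
      exact hone.symm
    rw [← hcj, ← hs', inv_mul_cancel_right, hs', hcj]
  -- so `e'` is central
  set v : A.E := e'⁻¹ * A.cj a e' with hv
  have hvW : (v : S) ∈ W := Side.fixes_of_comm A.inv_E hW
    (comm_mem_of_relIndex hS A.normal hW.normal hW.1 hidx) _ (A.cj_mem_M a) e' e'.2
  have hv1 : τ v = v := by
    have h1 := DFunLike.congr_fun hcomm e'
    rw [MulAut.mul_apply, MulAut.mul_apply, hfix] at h1
    rw [hv, map_mul, map_inv, hfix, h1]
  rw [hneg v hvW] at hv1
  have hv0 : v = 1 := by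
    have h2 : v ^ 2 = 1 := by rw [pow_two]; nth_rewrite 1 [← hv1]; exact inv_mul_cancel v
    have h3 : v ^ p = 1 := Subtype.ext (hexp _ v.2)
    have h4 := pow_gcd_eq_one.2 ⟨h2, h3⟩
    rwa [Nat.coprime_two_left.2 (hp.out.odd_of_ne_two hp2), pow_one] at h4
  rw [hv, inv_mul_eq_one] at hv0
  have hae : (e' : S) ∈ Subgroup.center S := by
    have h1 := congrArg Subtype.val hv0
    rw [Side.cj_apply] at h1
    have h2 : (e' : S) * a = a * e' := by rw [eq_mul_inv_iff_mul_eq] at h1; exact h1
    have htop : A.E ⊔ Subgroup.zpowers a ≤ Subgroup.centralizer ({(e' : S)} : Set S) := by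
      refine sup_le (fun x hx => ?_) (Subgroup.zpowers_le.2 ?_) <;>
        rw [Subgroup.mem_centralizer_singleton_iff]
      · exact hab x hx e' e'.2
      · exact h2.symm
    have h3 := A.sup_eq_top (Subgroup.mem_zpowers a) ha
    exact Subgroup.mem_center_iff.2 fun g => Subgroup.mem_centralizer_singleton_iff.1
      (htop (h3 ▸ Subgroup.mem_top g))
  -- the centre lies in the plane
  have hZW : Subgroup.center S ≤ W := by
    obtain ⟨z, hzW, hz1, hzc⟩ := CfsgLib.InvChar.exists_mem_center_of_normal hS W (fun h => by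
      rw [h, Subgroup.card_bot] at hWc
      exact absurd hWc.symm (Nat.one_lt_pow two_ne_zero hp.out.one_lt).ne')
    intro y hy
    have h1 : Subgroup.zpowers z = Subgroup.center S := by
      refine Subgroup.eq_of_le_of_card_ge (Subgroup.zpowers_le.2 hzc) ?_
      rw [hZ, Nat.card_zpowers, orderOf_eq_prime (hexp z (hW.1 hzW)) hz1]
    exact Subgroup.zpowers_le.2 hzW (h1 ▸ hy)
  exact he'W (hZW hae)

namespace Pair

variable (P : Pair p S)

theorem good_of_sp (hS : IsPGroup p S) (hp2 : p ≠ 2) (h : OutSp P.A P.B) : P.Good := by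
  classical
  haveI := P.W_normal
  have hWc : Nat.card P.W = p ^ 2 := by
    have h1 : P.W.relIndex P.A.E * Nat.card P.W = Nat.card P.A.E := by
      rw [mul_comm, ← Subgroup.relIndex_bot_left, ← Subgroup.relIndex_bot_left,
        Subgroup.relIndex_mul_relIndex _ P.W _ bot_le (inf_le_left : P.W ≤ P.A.E)]
    rw [P.relIndex_W, h.cardA, pow_succ' p 2] at h1
    exact Nat.eq_of_mul_eq_mul_left hp.out.pos h1
  obtain ⟨a, haB, haA⟩ : ∃ a ∈ P.B.E, a ∉ P.A.E := by
    by_contra hcon
    push Not at hcon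
    exact P.ne (Subgroup.eq_of_le_of_card_ge hcon (by rw [h.cardA, h.cardB])).symm
  have hWa : ∃ x ∈ P.W, ⁅a, x⁆ ≠ 1 := by
    by_contra hcon
    push Not at hcon
    obtain ⟨x, hx, y, hy, hxy⟩ := h.nonabB
    refine hxy ?_
    have hgen : P.B.E ≤ P.W ⊔ Subgroup.zpowers a := by
      refine le_of_eq (Eq.symm (Subgroup.eq_of_le_of_card_ge (sup_le inf_le_right (Subgroup.zpowers_le.2 haB)) ?_))
      have hlt : Nat.card P.W < Nat.card ↥(P.W ⊔ Subgroup.zpowers a) := by
        refine lt_of_le_of_ne (Subgroup.card_le_of_le le_sup_left) fun he => haA ?_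
        have h2 := Subgroup.eq_of_le_of_card_ge (le_sup_left : P.W ≤ P.W ⊔ Subgroup.zpowers a) he.ge
        have h3 : a ∈ P.W := h2 ▸ Subgroup.mem_sup_right (Subgroup.mem_zpowers a)
        exact h3.1
      obtain ⟨k, -, hk⟩ := (Nat.dvd_prime_pow hp.out).1 (h.cardB ▸ Subgroup.card_dvd_of_le
        (sup_le inf_le_right (Subgroup.zpowers_le.2 haB)) : _ ∣ p ^ 3)
      have hk' : Nat.card ↥(P.W ⊔ Subgroup.zpowers a) = p ^ k := hk
      rw [hk', hWc] at hlt
      show Nat.card P.B.E ≤ Nat.card ↥(P.W ⊔ Subgroup.zpowers a)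
      rw [hk', h.cardB]
      exact Nat.pow_le_pow_right hp.out.pos ((Nat.pow_lt_pow_iff_right hp.out.one_lt).1 hlt)
    obtain ⟨u, hu, z, hz, rfl⟩ := Subgroup.mem_sup_of_normal_left.1 (hgen hx)
    obtain ⟨u', hu', z', hz', rfl⟩ := Subgroup.mem_sup_of_normal_left.1 (hgen hy)
    obtain ⟨i, rfl⟩ := Subgroup.mem_zpowers_iff.1 hz
    obtain ⟨j, rfl⟩ := Subgroup.mem_zpowers_iff.1 hz'
    have hc : ∀ w ∈ P.W, Commute a w := fun w hw =>
      commutatorElement_eq_one_iff_mul_comm.1 (hcon w hw)
    have h1 : Commute u u' := h.commA u hu.1 u' hu'.1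
    exact ((h1.mul_right ((hc u hu).symm.zpow_right j)).mul_left
      (((hc u' hu').zpow_left i).mul_right ((Commute.refl a).zpow_zpow i j)))
  refine ⟨fun hW => P.A.false_of_plane hS hp2 h.commA h.expA h.card_center h.moves hW P.relIndex_W hWc
    haA hWa, fun hW => ?_, fun K hKW hne hA hB => ?_⟩
  · -- the extraspecial side
    have hZW : Subgroup.center S ≤ P.W := le_inf (P.A.center_le) (P.B.center_le)
    let Z₁ : Subgroup P.B.E := Subgroup.center P.B.E
    have hZinv := P.B.inv_of_char Z₁ fun φ x hx => by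
      refine Subgroup.mem_center_iff.2 fun y => ?_
      obtain ⟨y, rfl⟩ := φ.surjective y
      rw [← map_mul, ← map_mul, Subgroup.mem_center_iff.1 hx y]
    set N := Z₁.map P.B.E.subtype ⊓ P.W with hN
    have hNinv : P.B.Inv N := P.B.inv_inf hZinv hW
    have hNZ : N ≤ Subgroup.center S := by
      intro x hx
      obtain ⟨⟨z, hz, rfl⟩, hxW⟩ := hx
      refine Subgroup.mem_center_iff.2 fun s => ?_
      have hEt := P.A.sup_eq_top haB haA
      have hsub : P.A.E ⊔ P.B.E ≤ Subgroup.centralizer ({(z : S)} : Set S) := by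
        refine sup_le (fun y hy => ?_) (fun y hy => ?_) <;>
          rw [Subgroup.mem_centralizer_singleton_iff]
        · exact h.commA y hy _ hxW.1
        · exact congrArg Subtype.val (Subgroup.mem_center_iff.1 hz ⟨y, hy⟩)
      exact Subgroup.mem_centralizer_singleton_iff.1 (hsub (hEt ▸ Subgroup.mem_top s))
    have hWB : P.W.relIndex P.B.E = p := by
      have := P.swap.relIndex_W
      rwa [swap_W] at this
    let C : ℕ → Subgroup S := fun i => if i = 0 then ⊥ else if i = 1 then N else
      if i = 2 then P.W else P.B.E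
    have hZn : N = Subgroup.center S := le_antisymm hNZ fun x hx => ⟨⟨⟨x, P.B.center_le hx⟩,
      Subgroup.mem_center_iff.2 fun y => Subtype.ext (Subgroup.mem_center_iff.1 hx _), rfl⟩, hZW hx⟩
    have hZrel : N.relIndex P.W = p := by
      have h1 : N.relIndex P.W * Nat.card N = Nat.card P.W := by
        rw [mul_comm, ← Subgroup.relIndex_bot_left, ← Subgroup.relIndex_bot_left,
          Subgroup.relIndex_mul_relIndex _ _ _ bot_le inf_le_right]
      rw [hWc, hZn, h.card_center, pow_two] at h1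
      rw [hZn]
      exact Nat.eq_of_mul_eq_mul_right hp.out.pos h1
    refine P.B.false_of_series hS 3 C rfl le_rfl (fun i => ?_) fun i hi s x hxE hx => ?_
    · refine P.B.inv_inf ?_ P.B.inv_E
      simp only [C]
      split_ifs
      exacts [P.B.inv_bot, hNinv, hW, P.B.inv_E]
    · interval_cases i
      · show ⁅s, x⁆ ∈ (⊥ : Subgroup S)
        rw [mem_bot, commutatorElement_eq_one_iff_mul_comm]
        exact Subgroup.mem_center_iff.1 (hNZ hx) s
      · exact comm_mem_of_relIndex hS P.W_normal hNinv.normal inf_le_right hZrel s x hx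
      · exact comm_mem_of_relIndex hS P.B.normal P.W_normal inf_le_right hWB s x hx
  · -- a common invariant subgroup is trivial
    suffices hK : K = ⊥ by
      subst hK
      have hb : ∀ (A : Side p S) (g : MulAut A.E), A.Fixes g ⊥ ⊥ := fun A g x hx => by
        rw [show x = 1 from Subtype.ext (mem_bot.1 hx), map_one]
        simp
      exact ⟨fun g _ _ => hb _ g, fun g _ _ => hb _ g⟩
    obtain ⟨k, hk, hk'⟩ := (Nat.dvd_prime_pow hp.out).1 (hWc ▸ Subgroup.card_dvd_of_le hKW)
    interval_cases k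
    · exact Subgroup.card_eq_one.1 (by simpa using hk')
    · exfalso
      have hc := comm_mem_of_relIndex hS hA.normal inferInstance bot_le
        (by rw [Subgroup.relIndex_bot_left, hk', pow_one])
      refine h.moves ?_
      have hKz : K = oz p S := by
        refine Subgroup.eq_of_le_of_card_ge (fun x hx => ⟨Subgroup.mem_center_iff.2 fun s =>
          commutatorElement_eq_one_iff_mul_comm.1 (mem_bot.1 (hc s x hx)), h.expA x (hA.1 hx)⟩) ?_
        rw [hk', pow_one, ← h.card_center]
        exact Subgroup.card_le_of_le (fun x hx => hx.1)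
      exact hKz ▸ hA
    · exact absurd (Subgroup.eq_of_le_of_card_ge hKW (by rw [hk', hWc])) hne

theorem good_of_out (hS : IsPGroup p S) (hp2 : p ≠ 2) (h : P.Out) : P.Good := by
  rcases h with h | h | h
  · exact P.good_of_sp hS hp2 h
  · exact (P.swap.good_of_sp hS hp2 h).symm
  · exact P.good_of_pc hS h

end Pair

end CfsgLib.RankThreePair
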