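import Cfsg.Agent.Lib.RankThreePair.Defs
import Cfsg.Agent.Lib.Invol.EssentialSmall
import Cfsg.Agent.Lib.InvChar.Basic
import Mathlib.GroupTheory.QuotientGroup.Basic

/-!
Tools for pairs of automizers of maximal subgroups.
-/

set_option autoImplicit false
set_option linter.style.haveILetI false
set_option linter.unusedSectionVars false
set_option linter.unusedVariables false

namespace CfsgLib.RankThreePair

open Subgroup
open scoped commutatorElement MatrixGroups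

/-- Maps respecting the kernel act on the image. -/
theorem exists_push {E Q : Type*} [Group E] [Group Q] (π : E →* Q) (hπ : Function.Surjective π)
    (G : Subgroup (MulAut E)) (hinv : ∀ g ∈ G, ∀ x, π x = 1 → π (g x) = 1) :
    ∃ ρ : G →* MulAut Q, ∀ (g : G) x, ρ g (π x) = π ((g : MulAut E) x) := by
  choose s hs using hπ
  have hwd : ∀ g ∈ G, ∀ {n m : E}, π n = π m → π (g n) = π (g m) := fun g hg n m h => by
    have h1 := hinv g hg (n⁻¹ * m) (by rw [map_mul, map_inv, h, inv_mul_cancel])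
    rwa [map_mul g, map_inv g, map_mul, map_inv, inv_mul_eq_one] at h1
  let ρ : G → MulAut Q := fun g =>
    { toFun := fun r => π ((g : MulAut E) (s r))
      invFun := fun r => π (((g : MulAut E))⁻¹ (s r))
      left_inv := fun r => by
        show π ((g : MulAut E)⁻¹ (s (π ((g : MulAut E) (s r))))) = r
        rw [hwd _ (G.inv_mem g.2) (hs _), MulAut.inv_apply_self, hs]
      right_inv := fun r => by
        show π ((g : MulAut E) (s (π ((g : MulAut E)⁻¹ (s r))))) = r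
        rw [hwd _ g.2 (hs _), MulAut.apply_inv_self, hs]
      map_mul' := fun r t => by
        rw [← map_mul, ← map_mul]
        exact hwd _ g.2 (by rw [map_mul, hs, hs, hs]) }
  refine ⟨{ toFun := ρ, map_one' := MulEquiv.ext fun r => hs r,
            map_mul' := fun g h => MulEquiv.ext fun r => ?_ }, fun g x => hwd _ g.2 (hs _)⟩
  show π ((g : MulAut E) ((h : MulAut E) (s r))) = π ((g : MulAut E) (s (π ((h : MulAut E) (s r)))))
  exact (hwd _ g.2 (hs _)).symm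

/-- The central involution of `GL₂`. -/
theorem eq_neg_one_of_central {F : Type*} [Field F] {u : GL (Fin 2) F} (h2 : u * u = 1)
    (hc : ∀ v, u * v = v * u) (h1 : u ≠ 1) : u = -1 := by
  let x : GL (Fin 2) F := ⟨!![1, 1; 0, 1], !![1, -1; 0, 1],
    by simp [Matrix.one_fin_two], by simp [Matrix.one_fin_two]⟩
  let y : GL (Fin 2) F := ⟨!![1, 0; 1, 1], !![1, 0; -1, 1],
    by simp [Matrix.one_fin_two], by simp [Matrix.one_fin_two]⟩
  have hx := congrArg Units.val (hc x)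
  have hy := congrArg Units.val (hc y)
  have hu := congrArg Units.val h2
  obtain ⟨a, b, c, d, hm⟩ : ∃ a b c d, (u : Matrix (Fin 2) (Fin 2) F) = !![a, b; c, d] :=
    ⟨_, _, _, _, Matrix.eta_fin_two _⟩
  simp [x, hm] at hx
  simp [y, hm] at hy
  simp [hm, Matrix.one_fin_two] at hu
  obtain ⟨hb, hd⟩ : b = 0 ∧ d = a := by grind
  have hc0 : c = 0 := by grind
  have ha : a * a = 1 := by grind
  rcases mul_self_eq_one_iff.1 ha with h | h
  · exact absurd (Units.ext (by rw [hm, hb, hc0, hd, h, Units.val_one, Matrix.one_fin_two])) h1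
  · exact Units.ext (by rw [hm, hb, hc0, hd, h, Units.val_neg, Units.val_one, Matrix.one_fin_two]; simp)

variable {S : Type*} [Group S] [Finite S] {p : ℕ} [hp : Fact p.Prime]

namespace Side

variable (A : Side p S)

theorem ne_top : A.E ≠ ⊤ := fun h => hp.out.ne_one (by rw [← A.index, h, index_top])

theorem center_le : Subgroup.center S ≤ A.E :=
  fun x hx => A.cent (fun y _ => Subgroup.mem_center_iff.1 hx y)

theorem oz_le : oz p S ≤ A.E := fun _ hx => A.center_le hx.1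

variable {A}

theorem Inv.normal {N : Subgroup S} (h : A.Inv N) : N.Normal := ⟨fun x hx s => by
  have h1 := h.2 _ (A.cj_mem s) ⟨x, h.1 hx⟩ hx
  rwa [cj_apply] at h1⟩

variable (A)

theorem inv_E : A.Inv A.E := ⟨le_rfl, fun _ _ _ _ => SetLike.coe_mem _⟩

theorem inv_bot : A.Inv ⊥ := ⟨bot_le, fun g _ x hx => by
  rw [mem_bot] at hx ⊢
  rw [show x = 1 from Subtype.ext hx, map_one]; rfl⟩

variable {A}

theorem inv_inf {N L : Subgroup S} (hN : A.Inv N) (hL : A.Inv L) : A.Inv (N ⊓ L) :=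
  ⟨inf_le_left.trans hN.1, fun g hg x hx => ⟨hN.2 g hg x hx.1, hL.2 g hg x hx.2⟩⟩

theorem inv_sup {N L : Subgroup S} (hN : A.Inv N) (hL : A.Inv L) : A.Inv (N ⊔ L) := by
  refine ⟨sup_le hN.1 hL.1, fun g hg x hx => ?_⟩
  haveI := hN.normal
  obtain ⟨n, hn, l, hl, e⟩ := Subgroup.mem_sup_of_normal_left.1 hx
  have e' : (⟨n, hN.1 hn⟩ : A.E) * ⟨l, hL.1 hl⟩ = x := Subtype.ext e
  rw [← e', map_mul]
  exact Subgroup.mul_mem_sup (hN.2 g hg _ hn) (hL.2 g hg _ hl)

theorem inv_centralizer {N : Subgroup S} (hN : A.Inv N) :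
    A.Inv (A.E ⊓ Subgroup.centralizer (N : Set S)) := by
  refine ⟨inf_le_left, fun g hg x hx => ⟨SetLike.coe_mem _, fun y hy => ?_⟩⟩
  have h1 := hN.2 g⁻¹ (inv_mem hg) ⟨y, hN.1 hy⟩ hy
  have h2 : (g⁻¹ : MulAut A.E) ⟨y, hN.1 hy⟩ * x = x * (g⁻¹ : MulAut A.E) ⟨y, hN.1 hy⟩ :=
    Subtype.ext (hx.2 _ h1)
  have h3 := congrArg g h2
  rw [map_mul, map_mul, MulAut.apply_inv_self] at h3
  exact congrArg Subtype.val h3

variable (A)

/-- Characteristic subgroups of the maximal subgroup are invariant. -/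
theorem inv_of_char (N : Subgroup A.E) (h : ∀ φ : MulAut A.E, ∀ x ∈ N, φ x ∈ N) :
    A.Inv (N.map A.E.subtype) := by
  refine ⟨map_subtype_le _, fun g _ x hx => ?_⟩
  obtain ⟨y, hy, e⟩ := hx
  rw [← show y = x from Subtype.ext e]
  exact ⟨g y, h g y hy, rfl⟩

theorem inv_orbit {N : Subgroup S} (hN : N ≤ A.E) :
    A.Inv (A.orbit N) ∧ N ≤ A.orbit N ∧ ∀ L, A.Inv L → N ≤ L → A.orbit N ≤ L := by
  have hle : A.orbit N ≤ A.E := (Subgroup.closure_le _).2 (by
    rintro _ ⟨g, -, x, -, rfl⟩; exact SetLike.coe_mem _)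
  refine ⟨⟨hle, fun g hg x hx => ?_⟩, fun x hx =>
    Subgroup.subset_closure ⟨1, one_mem _, ⟨x, hN hx⟩, hx, rfl⟩, fun L hL hNL =>
    (Subgroup.closure_le _).2 (by rintro _ ⟨g, hg, x, hx, rfl⟩; exact hL.2 g hg x (hNL hx))⟩
  suffices h : ∀ y ∈ A.orbit N, ∀ hy : y ∈ A.E, ((g ⟨y, hy⟩ : A.E) : S) ∈ A.orbit N from h x hx x.2
  intro y hy
  induction hy using Subgroup.closure_induction with
  | mem y hy =>
    obtain ⟨g', hg', z, hz, rfl⟩ := hy
    exact fun _ => Subgroup.subset_closure ⟨g * g', mul_mem hg hg', z, hz, rfl⟩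
  | one =>
    intro hy
    rw [show (⟨1, hy⟩ : A.E) = 1 from rfl, map_one]
    exact one_mem _
  | mul a b ha hb iha ihb =>
    intro hy
    rw [show (⟨a * b, hy⟩ : A.E) = ⟨a, hle ha⟩ * ⟨b, hle hb⟩ from rfl, map_mul]
    exact mul_mem (iha _) (ihb _)
  | inv a ha iha =>
    intro hy
    rw [show (⟨a⁻¹, hy⟩ : A.E) = (⟨a, hle ha⟩ : A.E)⁻¹ from rfl, map_inv]
    exact inv_mem (iha _)

theorem M_le : A.M ≤ A.G := (Subgroup.closure_le _).2 (by
  rintro _ ⟨g, hg, s, rfl⟩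
  exact mul_mem (mul_mem hg (A.cj_mem s)) (inv_mem hg))

theorem cj_mem_M (s : S) : A.cj s ∈ A.M :=
  Subgroup.subset_closure ⟨1, one_mem _, s, by rw [one_mul, inv_one, mul_one]⟩

theorem M_conj {g m : MulAut A.E} (hg : g ∈ A.G) (hm : m ∈ A.M) : g * m * g⁻¹ ∈ A.M := by
  induction hm using Subgroup.closure_induction with
  | mem x hx =>
    obtain ⟨h, hh, s, rfl⟩ := hx
    exact Subgroup.subset_closure ⟨g * h, mul_mem hg hh, s, by group⟩
  | one => rw [mul_one, mul_inv_cancel]; exact one_mem _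
  | mul a b _ _ iha ihb =>
    rw [show g * (a * b) * g⁻¹ = g * a * g⁻¹ * (g * b * g⁻¹) by group]
    exact mul_mem iha ihb
  | inv a _ iha =>
    rw [show g * a⁻¹ * g⁻¹ = (g * a * g⁻¹)⁻¹ by group]
    exact inv_mem iha

/-- Subgroups of `G` normalised by it. -/
def NormalIn (K : Subgroup (MulAut A.E)) : Prop := ∀ g ∈ A.G, ∀ k ∈ K, g * k * g⁻¹ ∈ K

theorem M_le_of_normalIn {K : Subgroup (MulAut A.E)} (hn : A.NormalIn K) (hT : ∀ s, A.cj s ∈ K) :
    A.M ≤ K := (Subgroup.closure_le _).2 (by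
  rintro _ ⟨g, hg, s, rfl⟩
  exact hn g hg _ (hT s))

/-- No normal `p`-subgroup contains the induced automorphisms. -/
theorem false_of_pGroup {K : Subgroup (MulAut A.E)} (hK : K ≤ A.G) (hn : A.NormalIn K)
    (hp' : IsPGroup p K) (hT : ∀ s, A.cj s ∈ K) : False := by
  set T := A.cj.range with hTdef
  have hTK : T ≤ K := by rintro _ ⟨s, rfl⟩; exact hT s
  have h1 : T.relIndex K ∣ T.relIndex A.G := by
    rw [← Subgroup.relIndex_mul_relIndex T K A.G hTK hK]
    exact dvd_mul_right _ _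
  haveI : Finite K := inferInstance
  obtain ⟨k, hk⟩ := hp'.index (T.subgroupOf K)
  have hk0 : k = 0 := by
    by_contra h0
    exact A.sylow ((dvd_pow_self p h0).trans (hk.symm.dvd.trans h1))
  rw [hk0, pow_zero] at hk
  have hKT : K ≤ T := relIndex_eq_one.1 hk
  refine A.not_normal ⟨fun t ht g => ?_⟩
  have ht' : (t : MulAut A.E) ∈ T := ht
  exact (show ((g * t * g⁻¹ : A.G) : MulAut A.E) ∈ T from hKT (hn g g.2 _ (hTK ht')))

theorem not_isPGroup_M : ¬ IsPGroup p A.M := fun h =>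
  A.false_of_pGroup A.M_le (fun _ hg _ hk => A.M_conj hg hk) h A.cj_mem_M

variable {A}

/-- The elements of `G` acting trivially on a section. -/
def fixer {N N' : Subgroup S} (hN : A.Inv N) (hN' : A.Inv N') : Subgroup (MulAut A.E) where
  carrier := {g | g ∈ A.G ∧ A.Fixes g N N'}
  one_mem' := ⟨one_mem _, fun x _ => by simp⟩
  mul_mem' := fun {g h} hg hh => ⟨mul_mem hg.1 hh.1, fun x hx => by
    have h1 := mul_mem (hh.2 x hx) (hg.2 (h x) (hN.2 h hh.1 x hx))
    simpa [MulAut.mul_apply, mul_assoc] using h1⟩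
  inv_mem' := fun {g} hg => ⟨inv_mem hg.1, fun x hx => by
    have h1 := inv_mem (hg.2 (g⁻¹ x) (hN.2 g⁻¹ (inv_mem hg.1) x hx))
    rw [MulAut.apply_inv_self] at h1
    simpa using h1⟩

theorem fixer_normalIn {N N' : Subgroup S} (hN : A.Inv N) (hN' : A.Inv N') :
    A.NormalIn (fixer hN hN') := fun g hg k hk => ⟨mul_mem (mul_mem hg hk.1) (inv_mem hg), fun x hx => by
  set y := g⁻¹ x with hy
  have h1 : ((y⁻¹ * k y : A.E) : S) ∈ N' := hk.2 y (hN.2 g⁻¹ (inv_mem hg) x hx)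
  have h2 := hN'.2 g hg _ h1
  rw [map_mul, map_inv, hy, MulAut.apply_inv_self] at h2
  exact h2⟩

theorem cj_mem_fixer {N N' : Subgroup S} (hN : A.Inv N) (hN' : A.Inv N')
    (hc : ∀ s : S, ∀ x ∈ N, ⁅s, x⁆ ∈ N') (s : S) : A.cj s ∈ fixer hN hN' := ⟨A.cj_mem s, fun x hx => by
  have h1 := inv_mem (hc s _ (inv_mem hx))
  rw [cj_apply]
  simpa [commutatorElement_def, mul_assoc] using h1⟩

/-- What `S` centralises is centralised by `M`. -/
theorem fixes_of_comm {N N' : Subgroup S} (hN : A.Inv N) (hN' : A.Inv N')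
    (hc : ∀ s : S, ∀ x ∈ N, ⁅s, x⁆ ∈ N') : ∀ g ∈ A.M, A.Fixes g N N' := fun g hg =>
  (A.M_le_of_normalIn (fixer_normalIn hN hN') (cj_mem_fixer hN hN' hc) hg).2

variable (A)

/-- Coprime action on a series. -/
theorem fixes_trans (hS : IsPGroup p S) {g : MulAut A.E} (hgp : (orderOf g).Coprime p)
    {N N' : Subgroup S} (h1 : A.Fixes g N N') (h2 : A.Fixes g N' ⊥) : A.Fixes g N ⊥ := by
  intro x hx
  set z : A.E := x⁻¹ * g x with hz
  have hgz : g z = z := by
    have h3 := h2 z (h1 x hx)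
    rw [mem_bot, inv_mul_eq_one] at h3
    exact (Subtype.ext h3).symm
  have hgx : g x = x * z := (mul_inv_cancel_left x _).symm
  have hn : ∀ n : ℕ, (g ^ n) x = x * z ^ n := by
    intro n
    induction n with
    | zero => simp
    | succ n ih => rw [pow_succ', MulAut.mul_apply, ih, map_mul, map_pow, hgx, hgz, mul_assoc, ← pow_succ']
  have h4 := hn (orderOf g)
  rw [pow_orderOf_eq_one, MulAut.one_apply, left_eq_mul] at h4
  obtain ⟨k, hk⟩ := hS (z : S)
  have h5 : z ^ p ^ k = 1 := Subtype.ext (by simpa using hk)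
  have h6 := pow_gcd_eq_one.2 ⟨h4, h5⟩
  rw [Nat.Coprime.pow_right k hgp, pow_one] at h6
  rw [mem_bot]
  exact congrArg Subtype.val h6

/-- A subgroup whose elements prime to `p` are trivial is a `p`-group. -/
theorem isPGroup_of_coprime {X : Type*} [Group X] [Finite X]
    (h : ∀ x : X, (orderOf x).Coprime p → x = 1) : IsPGroup p X := by
  intro x
  set e := (orderOf x).factorization p
  refine ⟨e, h _ ?_⟩
  rw [orderOf_pow_of_dvd (pow_ne_zero _ hp.out.ne_zero) (Nat.ordProj_dvd _ _)]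
  exact (Nat.coprime_ordCompl hp.out (orderOf_pos x).ne').symm

/-- Some element of `M` prime to `p` moves the maximal subgroup. -/
theorem exists_coprime_M : ∃ g ∈ A.M, (orderOf g).Coprime p ∧ g ≠ 1 := by
  by_contra h
  push Not at h
  refine A.not_isPGroup_M (isPGroup_of_coprime fun x hx => Subtype.ext ?_)
  refine h _ x.2 ?_
  rwa [Subgroup.orderOf_coe]

theorem eq_one_of_fixes {g : MulAut A.E} (h : A.Fixes g A.E ⊥) : g = 1 := MulEquiv.ext fun x =>
  Subtype.ext (by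
    have := h x x.2
    rw [mem_bot, inv_mul_eq_one] at this
    exact this.symm)

variable {A}

/-- A centralised invariant subgroup is moved modulo by `M`. -/
theorem moves_of_inv_oz (hS : IsPGroup p S) {N : Subgroup S} (hN : A.Inv N)
    (hc : ∀ s : S, ∀ x ∈ N, ⁅s, x⁆ = 1) :
    ∃ g ∈ A.M, (orderOf g).Coprime p ∧ ¬ A.Fixes g A.E N := by
  obtain ⟨g, hg, hgp, hg1⟩ := A.exists_coprime_M
  refine ⟨g, hg, hgp, fun h => hg1 (A.eq_one_of_fixes ?_)⟩
  exact A.fixes_trans hS hgp h (fixes_of_comm hN A.inv_bot (fun s x hx => by rw [hc s x hx]; exact one_mem _) g hg)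

variable (A)

/-- `S` cannot stabilise an invariant series of the maximal subgroup. -/
theorem false_of_series (hS : IsPGroup p S) (n : ℕ) (C : ℕ → Subgroup S) (h0 : C 0 = ⊥)
    (hn : A.E ≤ C n) (hinv : ∀ i, A.Inv (C i ⊓ A.E))
    (hc : ∀ i < n, ∀ s x : S, x ∈ A.E → x ∈ C (i + 1) → ⁅s, x⁆ ∈ C i) : False := by
  obtain ⟨g, hg, hgp, hg1⟩ := A.exists_coprime_M
  refine hg1 (A.eq_one_of_fixes ?_)
  have key : ∀ i ≤ n, A.Fixes g (C i ⊓ A.E) ⊥ := by
    intro i
    induction i with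
    | zero =>
      intro _ x hx
      rw [h0] at hx
      rw [show x = 1 from Subtype.ext (mem_bot.1 hx.1), map_one]
      simp
    | succ i ih =>
      intro hi
      refine A.fixes_trans hS hgp ?_ (ih (by omega))
      refine fixes_of_comm (hinv _) (hinv _) (fun s x hx => ⟨hc i (by omega) s x hx.2 hx.1, ?_⟩) g hg
      rw [commutatorElement_def]
      exact A.E.mul_mem (A.normal.conj_mem _ hx.2 s) (A.E.inv_mem hx.2)
  intro x hx
  exact key n le_rfl x ⟨hn hx, hx⟩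

/-- If the elements of `M` prime to `p` lie in a normal subgroup then `M` is covered by it and `S`. -/
theorem M_cover {K : Subgroup (MulAut A.E)} (hn : A.NormalIn K)
    (h : ∀ g ∈ A.M, (orderOf g).Coprime p → g ∈ K) {m : MulAut A.E} (hm : m ∈ A.M) :
    ∃ s : S, ∃ k ∈ K, m = A.cj s * k := by
  classical
  set K' := K.subgroupOf A.M with hK'
  haveI : K'.Normal := ⟨fun k hk g => hn g (A.M_le g.2) k hk⟩
  have hq : IsPGroup p (A.M ⧸ K') := by
    intro x
    obtain ⟨y, rfl⟩ := QuotientGroup.mk_surjective x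
    refine ⟨(orderOf y).factorization p, ?_⟩
    rw [← QuotientGroup.mk_pow, QuotientGroup.eq_one_iff]
    refine h _ (y ^ _).2 ?_
    rw [Subgroup.coe_subtype, Subgroup.orderOf_coe,
      orderOf_pow_of_dvd (pow_ne_zero _ hp.out.ne_zero) (Nat.ordProj_dvd _ _)]
    exact (Nat.coprime_ordCompl hp.out (orderOf_pos y).ne').symm
  let φ : S →* A.M := A.cj.codRestrict A.M A.cj_mem_M
  set R := φ.range.map (QuotientGroup.mk' K') with hR
  have hRidx : ¬ p ∣ R.index := by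
    intro hd
    have h1 : R.index ∣ φ.range.index := Subgroup.index_map_dvd _ (QuotientGroup.mk'_surjective _)
    refine A.sylow ((hd.trans h1).trans ?_)
    show _ ∣ A.cj.range.relIndex A.G
    rw [← Subgroup.relIndex_mul_relIndex A.cj.range A.M A.G (by rintro _ ⟨s, rfl⟩; exact A.cj_mem_M s)
      A.M_le]
    refine dvd_mul_of_dvd_left (dvd_of_eq ?_) _
    show _ = (A.cj.range.subgroupOf A.M).index
    congr 1
    ext y
    exact ⟨fun ⟨s, hs⟩ => ⟨s, congrArg Subtype.val hs⟩, fun ⟨s, hs⟩ => ⟨s, Subtype.ext hs⟩⟩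
  obtain ⟨k, hk⟩ := hq.index R
  have hk0 : k = 0 := by
    by_contra h0
    exact hRidx (hk ▸ dvd_pow_self p h0)
  rw [hk0, pow_zero, Subgroup.index_eq_one] at hk
  have hm' : QuotientGroup.mk' K' ⟨m, hm⟩ ∈ R := hk ▸ mem_top _
  obtain ⟨_, ⟨s, rfl⟩, hs⟩ := hm'
  exact ⟨s, _, (QuotientGroup.eq (s := K')).1 hs, (mul_inv_cancel_left (A.cj s) m).symm⟩

/-- An orbit of fixed points below a centralised series is trivial. -/
theorem orbit_eq_of_series (hS : IsPGroup p S) {N' : Subgroup S} (hN' : A.Inv N')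
    (hc1 : ∀ s : S, ∀ x ∈ A.orbit (oz p S), ⁅s, x⁆ ∈ N') (hc2 : ∀ s : S, ∀ x ∈ N', ⁅s, x⁆ = 1) :
    A.Inv (oz p S) := by
  obtain ⟨hO, hle, -⟩ := A.inv_orbit (A.oz_le)
  have hcop : ∀ g ∈ A.M, (orderOf g).Coprime p → g ∈ fixer hO A.inv_bot := fun g hg hgp =>
    ⟨A.M_le hg, A.fixes_trans hS hgp (fixes_of_comm hO hN' hc1 g hg)
      (fixes_of_comm hN' A.inv_bot (fun s x hx => by rw [hc2 s x hx]; exact one_mem _) g hg)⟩
  refine ⟨A.oz_le, fun g hg x hx => ⟨Subgroup.mem_center_iff.2 fun s => ?_, ?_⟩⟩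
  · obtain ⟨s', k, hk, e⟩ := A.M_cover (fixer_normalIn hO A.inv_bot) hcop
      (show g⁻¹ * A.cj s * g ∈ A.M by
        have := A.M_conj (inv_mem hg) (A.cj_mem_M s); rwa [inv_inv] at this)
    have hkx : k x = x := by
      have := hk.2 x (hle hx)
      rw [mem_bot, inv_mul_eq_one] at this
      exact (Subtype.ext this).symm
    have hsx : (g⁻¹ * A.cj s * g) x = x := by
      rw [e, MulAut.mul_apply, hkx]
      refine Subtype.ext ?_
      rw [cj_apply, Subgroup.mem_center_iff.1 hx.1 s', mul_inv_cancel_right]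
    have h1 : A.cj s (g x) = g x := by
      have := congrArg g hsx
      rwa [MulAut.mul_apply, MulAut.mul_apply, MulAut.apply_inv_self] at this
    have h2 := congrArg Subtype.val h1
    rw [cj_apply, mul_inv_eq_iff_eq_mul] at h2
    exact h2
  · have h1 : x ^ p = 1 := Subtype.ext (by simpa using hx.2)
    have h2 := congrArg Subtype.val (congrArg g h1)
    simpa using h2

/-- Moved `Ω₁(Z(S))`. -/
theorem z1_facts (h : ¬ A.Inv (oz p S)) :
    (∀ x ∈ A.orbit (oz p S), x ^ p = 1) ∧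
    (∀ x ∈ A.orbit (oz p S), ∀ y ∈ A.E, x * y = y * x) ∧
    (∀ x ∈ A.orbit (oz p S), (∀ s : S, x * s = s * x) → x ∈ oz p S) ∧
    ∃ a, a ∉ A.E ∧ ∃ x ∈ A.orbit (oz p S), ⁅x, a⁆ ≠ 1 := by
  obtain ⟨hO, hle, -⟩ := A.inv_orbit (A.oz_le)
  have key : ∀ x ∈ A.orbit (oz p S), x ^ p = 1 ∧ ∀ y ∈ A.E, x * y = y * x := by
    intro x hx
    induction hx using Subgroup.closure_induction with
    | mem x hx =>
      obtain ⟨g, hg, z, hz, rfl⟩ := hx
      refine ⟨?_, fun y hy => ?_⟩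
      · have h1 : z ^ p = 1 := Subtype.ext (by simpa using hz.2)
        simpa using congrArg Subtype.val (congrArg g h1)
      · have h1 : z * g⁻¹ ⟨y, hy⟩ = g⁻¹ ⟨y, hy⟩ * z :=
          Subtype.ext (Subgroup.mem_center_iff.1 hz.1 _).symm
        have h2 := congrArg g h1
        rw [map_mul, map_mul, MulAut.apply_inv_self] at h2
        exact congrArg Subtype.val h2
    | one => exact ⟨one_pow _, fun y _ => by simp⟩
    | mul a b ha hb iha ihb =>
      refine ⟨?_, fun y hy => ?_⟩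
      · rw [(show Commute a b from iha.2 b (hO.1 hb)).mul_pow, iha.1, ihb.1, one_mul]
      · exact (show Commute (a * b) y from Commute.mul_left (iha.2 y hy) (ihb.2 y hy))
    | inv a ha iha =>
      exact ⟨by rw [inv_pow, iha.1, inv_one], fun y hy => (show Commute a⁻¹ y from Commute.inv_left (iha.2 y hy))⟩
  refine ⟨fun x hx => (key x hx).1, fun x hx => (key x hx).2, fun x hx hs =>
    ⟨Subgroup.mem_center_iff.2 fun s => (hs s).symm, (key x hx).1⟩, ?_⟩
  by_contra hcon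
  push Not at hcon
  refine h ⟨A.oz_le, fun g hg z hz => ?_⟩
  have hgz := hO.2 g hg z (hle hz)
  refine ⟨Subgroup.mem_center_iff.2 fun s => ?_, (key _ hgz).1⟩
  by_cases hs : s ∈ A.E
  · exact ((key _ hgz).2 s hs).symm
  · exact (commutatorElement_eq_one_iff_mul_comm.1 (hcon s hs _ hgz)).symm

/-- The points of a section fixed by `S` are invariant if `M` induces a `p`-group on it. -/
theorem fixed_inv (hS : IsPGroup p S) {N N' : Subgroup S} (hN : A.Inv N) (hN' : A.Inv N')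
    (hcop : ∀ g ∈ A.M, (orderOf g).Coprime p → A.Fixes g N N') :
    ∃ L : Subgroup S, A.Inv L ∧ (∀ x, x ∈ L ↔ x ∈ N ∧ ∀ s : S, ⁅s, x⁆ ∈ N') := by
  haveI := hN'.normal
  -- the points fixed by `S` on the section
  let L : Subgroup S :=
    { carrier := {x | x ∈ N ∧ ∀ s : S, ⁅s, x⁆ ∈ N'}
      one_mem' := ⟨one_mem _, fun s => by simp⟩
      mul_mem' := fun {x y} hx hy => ⟨mul_mem hx.1 hy.1, fun s => by
        rw [show ⁅s, x * y⁆ = ⁅s, x⁆ * (x * ⁅s, y⁆ * x⁻¹) by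
          simp only [commutatorElement_def]; group]
        exact mul_mem (hx.2 s) (hN'.normal.conj_mem _ (hy.2 s) x)⟩
      inv_mem' := fun {x} hx => ⟨inv_mem hx.1, fun s => by
        rw [show ⁅s, x⁻¹⁆ = x⁻¹ * ⁅s, x⁆⁻¹ * x⁻¹⁻¹ by simp only [commutatorElement_def]; group]
        exact hN'.normal.conj_mem _ (inv_mem (hx.2 s)) _⟩ }
  have hLinv : A.Inv L := by
    refine ⟨fun x hx => hN.1 hx.1, fun g hg x hx => ⟨hN.2 g hg x hx.1, fun s => ?_⟩⟩
    obtain ⟨s', k, hk, e⟩ := A.M_cover (fixer_normalIn hN hN')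
      (fun m hm hmp => ⟨A.M_le hm, hcop m hm hmp⟩)
      (show g⁻¹ * A.cj s * g ∈ A.M by
        have := A.M_conj (inv_mem hg) (A.cj_mem_M s); rwa [inv_inv] at this)
    have hkx : (x : S)⁻¹ * ((k x : A.E) : S) ∈ N' := hk.2 x hx.1
    set y := k x with hy
    have h1 : (y : S)⁻¹ * ((A.cj s' y : A.E) : S) ∈ N' := by
      have hxy : (y : S) = (x : S) * ((x : S)⁻¹ * y) := (mul_inv_cancel_left _ _).symm
      have hyL : ∀ s : S, ⁅s, (y : S)⁆ ∈ N' := fun s => by
        rw [hxy, show ∀ a b : S, ⁅s, a * b⁆ = ⁅s, a⁆ * (a * ⁅s, b⁆ * a⁻¹) from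
          fun a b => by simp only [commutatorElement_def]; group]
        refine mul_mem (hx.2 s) (hN'.normal.conj_mem _ ?_ _)
        rw [commutatorElement_def]
        exact mul_mem (hN'.normal.conj_mem _ hkx s) (inv_mem hkx)
      rw [cj_apply, show (y : S)⁻¹ * (s' * y * s'⁻¹) = (y : S)⁻¹ * ⁅s', (y : S)⁆ * (y : S)⁻¹⁻¹ by
        simp only [commutatorElement_def]; group]
      exact hN'.normal.conj_mem _ (hyL s') _
    have h2 : (x : S)⁻¹ * (((g⁻¹ * A.cj s * g) x : A.E) : S) ∈ N' := by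
      rw [e]
      have := mul_mem hkx h1
      simpa [MulAut.mul_apply, mul_assoc] using this
    have h3 : (((x⁻¹ * (g⁻¹ * A.cj s * g) x) : A.E) : S) ∈ N' := h2
    have h4 := hN'.2 g hg _ h3
    rw [map_mul, map_inv, MulAut.mul_apply, MulAut.mul_apply, MulAut.apply_inv_self,
      Subgroup.coe_mul, Subgroup.coe_inv, cj_apply] at h4
    rw [show ⁅s, ((g x : A.E) : S)⁆ = ((g x : A.E) : S) * (((g x : A.E) : S)⁻¹ * (s * (g x : A.E) * s⁻¹)) *
      ((g x : A.E) : S)⁻¹ by simp only [commutatorElement_def]; group]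
    exact hN'.normal.conj_mem _ h4 _
  exact ⟨L, hLinv, fun x => Iff.rfl⟩

/-- `M` induces no `p`-group on an irreducible section moved by `S`. -/
theorem exists_move (hS : IsPGroup p S) {N N' : Subgroup S} (hN : A.Inv N) (hN' : A.Inv N')
    (hle : N' ≤ N) (hne : N' ≠ N)
    (hirr : ∀ L, A.Inv L → N' ≤ L → L ≤ N → L = N' ∨ L = N)
    (hmove : ∃ s : S, ∃ x ∈ N, ⁅s, x⁆ ∉ N') :
    ∃ g ∈ A.M, (orderOf g).Coprime p ∧ ¬ A.Fixes g N N' := by
  haveI := hN'.normal
  haveI := hN.normal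
  by_contra hcon
  push Not at hcon
  obtain ⟨s₀, x₀, hx₀, hmv⟩ := hmove
  obtain ⟨L, hLinv, hL'⟩ := A.fixed_inv hS hN hN' hcon
  have hN'L : N' ≤ L := fun x hx => (hL' x).2 ⟨hle hx, fun s => by
    rw [commutatorElement_def]
    exact mul_mem (hN'.normal.conj_mem _ hx s) (inv_mem hx)⟩
  rcases hirr L hLinv hN'L (fun x hx => ((hL' x).1 hx).1) with hL | hL
  · -- a `p`-group fixes a nontrivial point of `N/N'`
    have hpq : IsPGroup p (S ⧸ N') := hS.to_quotient _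
    set q := QuotientGroup.mk' N' with hq
    haveI : (N.map q).Normal := hN.normal.map _ (QuotientGroup.mk'_surjective _)
    have hne' : N.map q ≠ ⊥ := by
      rw [Ne, Subgroup.map_eq_bot_iff, hq, QuotientGroup.ker_mk']
      exact fun hh => hne (le_antisymm hle hh)
    obtain ⟨z, hzN, hz1, hzc⟩ := CfsgLib.InvChar.exists_mem_center_of_normal hpq (N.map q) hne'
    obtain ⟨x, hx, rfl⟩ := hzN
    refine hz1 ((QuotientGroup.eq_one_iff x).2 (hL ▸ ((hL' x).2 ⟨hx, fun s => ?_⟩)))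
    rw [← QuotientGroup.eq_one_iff, ← QuotientGroup.mk'_apply, map_commutatorElement,
      commutatorElement_eq_one_iff_mul_comm]
    exact Subgroup.mem_center_iff.1 hzc _
  · exact hmv (((hL' x₀).1 (hL ▸ hx₀)).2 s₀)

/-- Characters vanish on `M`. -/
theorem char_trivial (hS : IsPGroup p S) (χ : A.G →* (ZMod p)ˣ) :
    ∀ m ∈ A.M.subgroupOf A.G, χ m = 1 := by
  intro m hm
  have hsub : A.M ≤ χ.ker.map A.G.subtype := by
    refine A.M_le_of_normalIn ?_ fun s => ⟨⟨A.cj s, A.cj_mem s⟩, ?_, rfl⟩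
    · rintro g hg _ ⟨k, hk, rfl⟩
      exact ⟨⟨g, hg⟩ * k * ⟨g, hg⟩⁻¹, (MonoidHom.normal_ker χ).conj_mem k hk _, rfl⟩
    · obtain ⟨j, hj⟩ := hS s
      have h0 : (⟨A.cj s, A.cj_mem s⟩ : A.G) ^ p ^ j = 1 :=
        Subtype.ext (by rw [Subgroup.coe_pow, ← map_pow, hj, map_one]; rfl)
      set u := χ ⟨A.cj s, A.cj_mem s⟩ with hu
      have h1 : u ^ p ^ j = 1 := by rw [hu, ← map_pow, h0, map_one]
      have h2 : u ^ (p - 1) = 1 := ZMod.units_pow_card_sub_one_eq_one p u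
      have h3 := pow_gcd_eq_one.2 ⟨h1, h2⟩
      have hco : (p ^ j).Coprime (p - 1) := Nat.Coprime.pow_left j
        ((Nat.coprime_self_sub_right hp.out.one_lt.le).2 (Nat.coprime_one_right p))
      rw [hco, pow_one] at h3
      exact MonoidHom.mem_ker.2 h3
  obtain ⟨k, hk, hkm⟩ := hsub hm
  rw [show k = m from Subtype.ext hkm] at hk
  exact hk

/-- A two-dimensional image of `M` that is no `p`-group contains `-1`. -/
theorem exists_neg_one (hS : IsPGroup p S) (Φ : A.G →* GL (Fin 2) (ZMod p))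
    (hnp : ¬ IsPGroup p ((A.M.subgroupOf A.G).map Φ)) :
    ∃ m ∈ A.M.subgroupOf A.G, Φ m = -1 := by
  classical
  let t : S →* A.G := A.cj.codRestrict A.G A.cj_mem
  set MG : Subgroup A.G := A.M.subgroupOf A.G with hMG
  -- determinants
  have hdet : ∀ m ∈ MG, Matrix.GeneralLinearGroup.det (Φ m) = 1 :=
    A.char_trivial hS (Matrix.GeneralLinearGroup.det.comp Φ)
  -- the image is `SL₂`
  let H : Subgroup SL(2, ZMod p) := (MG.map Φ).comap Matrix.SpecialLinearGroup.toGL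
  have hH : H = ⊤ := by
    refine CfsgLib.Invol.EssentialSmall.slTwo_eq_top H ?_
    by_contra hle1
    push Not at hle1
    haveI : Subsingleton (Sylow p H) :=
      ⟨fun a b => by
        have := Finite.card_le_one_iff_subsingleton.1 hle1
        exact Subsingleton.elim a b⟩
    let T₀ : Sylow p H := default
    have hTn : (T₀ : Subgroup H).Normal := ⟨fun a ha g => by
      have h1 : g • T₀ = T₀ := Subsingleton.elim _ _
      rw [← h1]
      exact Subgroup.smul_mem_pointwise_smul a (MulAut.conj g) _ ha⟩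
    refine hnp ?_
    -- all induced maps lie in the unique Sylow subgroup
    let R : Subgroup (GL (Fin 2) (ZMod p)) :=
      (((T₀ : Subgroup H).map H.subtype).map Matrix.SpecialLinearGroup.toGL)
    have hRp : IsPGroup p R := (T₀.2.map _).map _
    have hTR : ∀ m ∈ MG, (∃ k, m ^ p ^ k = 1) → Φ m ∈ R := by
      rintro m hm ⟨k, hk⟩
      let σ : SL(2, ZMod p) := ⟨(Φ m : Matrix (Fin 2) (Fin 2) (ZMod p)),
        congrArg Units.val (hdet m hm)⟩
      have hσ : Matrix.SpecialLinearGroup.toGL σ = Φ m := Units.ext rfl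
      have hσH : σ ∈ H := ⟨m, hm, hσ.symm⟩
      have hpσ : IsPGroup p (Subgroup.zpowers (⟨σ, hσH⟩ : H)) := IsPGroup.of_card
        (n := (orderOf (⟨σ, hσH⟩ : H)).factorization p) (by
        rw [Nat.card_zpowers]
        have h1 : (⟨σ, hσH⟩ : H) ^ p ^ k = 1 := by
          refine Subtype.ext (Matrix.SpecialLinearGroup.toGL_injective ?_)
          rw [Subgroup.coe_pow, map_pow, hσ, ← map_pow, hk]; simp
        obtain ⟨i, -, hi⟩ := (Nat.dvd_prime_pow hp.out).1 (orderOf_dvd_of_pow_eq_one h1)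
        rw [hi, hp.out.factorization_pow, Finsupp.single_eq_same])
      obtain ⟨Tσ, hTσ⟩ := hpσ.exists_le_sylow
      rw [Subsingleton.elim Tσ T₀] at hTσ
      exact ⟨σ, ⟨_, hTσ (Subgroup.mem_zpowers _), rfl⟩, hσ⟩
    refine hRp.to_le ?_
    rw [Subgroup.map_le_iff_le_comap]
    intro m hm
    have hsub : A.M ≤ ((R.comap Φ) ⊓ MG).map A.G.subtype := (Subgroup.closure_le _).2 (by
      rintro _ ⟨g, hg, s, rfl⟩
      refine ⟨⟨g, hg⟩ * t s * ⟨g, hg⟩⁻¹, ⟨hTR _ (A.M_conj hg (A.cj_mem_M s)) ?_, A.M_conj hg (A.cj_mem_M s)⟩, rfl⟩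
      obtain ⟨j, hj⟩ := hS s
      exact ⟨j, by rw [conj_pow, ← map_pow, hj, map_one, mul_one, mul_inv_cancel]⟩)
    obtain ⟨k, hk, hkm⟩ := hsub hm
    rw [show k = m from Subtype.ext hkm] at hk
    exact hk.1
  have hneg : ∃ m ∈ MG, Φ m = -1 := by
    let σ : SL(2, ZMod p) := ⟨-1, by simp [Matrix.det_neg]⟩
    obtain ⟨m, hm, hmσ⟩ := (hH ▸ Subgroup.mem_top σ : σ ∈ H)
    exact ⟨m, hm, hmσ.trans (Units.ext rfl)⟩
  exact hneg

/-- An element inducing `-1` can be taken to normalise the induced automorphisms. -/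
theorem exists_normalising (hS : IsPGroup p S) (hp2 : p ≠ 2) (Φ : A.G →* GL (Fin 2) (ZMod p))
    {m₀ : A.G} (hm₀ : m₀ ∈ A.M.subgroupOf A.G) (hΦm₀ : Φ m₀ = -1) :
    ∃ τ : A.G, (τ : MulAut A.E) ∈ A.M ∧ (orderOf (τ : MulAut A.E)).Coprime p ∧
      (∀ s : S, ∃ s' : S, (τ : MulAut A.E) * A.cj s * (τ : MulAut A.E)⁻¹ = A.cj s') ∧ Φ τ = -1 := by
  haveI : Finite (MulAut A.E) := Finite.of_injective _ MulEquiv.toEquiv_injective
  let t : S →* A.G := A.cj.codRestrict A.G A.cj_mem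
  set MG : Subgroup A.G := A.M.subgroupOf A.G with hMG
  haveI hMGn : MG.Normal := ⟨fun m hm g => A.M_conj g.2 hm⟩
  -- normalise the Sylow subgroup
  let KM : Subgroup A.G := Φ.ker ⊓ MG
  let Y : Subgroup A.G := KM ⊔ t.range
  let NY : Subgroup A.G := Subgroup.normalizer (Y : Set A.G)
  have hm₀Y : m₀ ∈ NY := by
    have hfw : ∀ g : A.G, g ∈ MG → Φ g = -1 → ∀ y ∈ Y, g * y * g⁻¹ ∈ Y := by
      intro g hgM hg y hy
      have hsub : Y ≤ Y.comap (MulAut.conj g).toMonoidHom := by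
        refine sup_le (fun k hk => Subgroup.mem_sup_left ?_) ?_
        · exact ⟨(MonoidHom.normal_ker Φ).conj_mem k hk.1 g, hMGn.conj_mem k hk.2 g⟩
        · rintro _ ⟨s, rfl⟩
          show g * t s * g⁻¹ ∈ Y
          rw [show g * t s * g⁻¹ = g * t s * g⁻¹ * (t s)⁻¹ * t s by group]
          refine mul_mem (Subgroup.mem_sup_left ⟨MonoidHom.mem_ker.2 ?_, ?_⟩) (Subgroup.mem_sup_right ⟨s, rfl⟩)
          · rw [map_mul, map_mul, map_mul, map_inv, map_inv, hg]
            rw [show (-1 : GL (Fin 2) (ZMod p)) * Φ (t s) * (-1)⁻¹ = Φ (t s) by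
              rw [neg_one_mul, inv_neg, inv_one, mul_neg, mul_one, neg_neg], mul_inv_cancel]
          · exact MG.mul_mem (hMGn.conj_mem _ (A.cj_mem_M s) g) (MG.inv_mem (A.cj_mem_M s : t s ∈ MG))
      exact hsub hy
    rw [show NY = Subgroup.normalizer (Y : Set A.G) from rfl]
    intro y
    refine ⟨fun hy => hfw m₀ hm₀ hΦm₀ y hy, fun hy => ?_⟩
    have := hfw m₀⁻¹ (inv_mem hm₀) (by rw [map_inv, hΦm₀, inv_neg, inv_one]) _ hy
    simpa [mul_assoc] using this
  have hTY : t.range ≤ Y := le_sup_right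
  have hYN : Y ≤ NY := Subgroup.le_normalizer
  haveI : (Y.subgroupOf NY).Normal := Subgroup.normal_in_normalizer
  have hTp : IsPGroup p ((t.range.subgroupOf NY).subgroupOf (Y.subgroupOf NY)) := by
    refine (IsPGroup.comap_of_injective ?_ _ (Subgroup.subtype_injective _))
    refine (IsPGroup.comap_of_injective ?_ _ (Subgroup.subtype_injective _))
    exact hS.of_surjective t.rangeRestrict t.rangeRestrict_surjective
  have hTidx : ¬ p ∣ ((t.range.subgroupOf NY).subgroupOf (Y.subgroupOf NY)).index := by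
    intro hd
    refine A.sylow (dvd_trans hd ?_)
    show (t.range.subgroupOf NY).relIndex (Y.subgroupOf NY) ∣ A.cj.range.relIndex A.G
    rw [Subgroup.relIndex_subgroupOf hYN]
    refine (Dvd.intro _ (Subgroup.relIndex_mul_index hTY)).trans (dvd_of_eq ?_)
    show t.range.index = (A.cj.range.subgroupOf A.G).index
    congr 1
    ext y
    exact ⟨fun ⟨s, hs⟩ => ⟨s, congrArg Subtype.val hs⟩, fun ⟨s, hs⟩ => ⟨s, Subtype.ext hs⟩⟩
  let TY : Sylow p (Y.subgroupOf NY) := hTp.toSylow hTidx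
  have htop := TY.normalizer_sup_eq_top
  have hm' : (⟨m₀, hm₀Y⟩ : NY) ∈ (⊤ : Subgroup NY) := mem_top _
  rw [← htop] at hm'
  obtain ⟨n, hn, y, hy, hny⟩ := Subgroup.mem_sup_of_normal_right.1 hm'
  have hy' : (y : A.G) ∈ KM ⊔ t.range := hy
  obtain ⟨k, hk, _, ⟨s₁, rfl⟩, hky⟩ := Subgroup.mem_sup_of_normal_left.1 hy'
  -- `n * t s₁` inverts and normalises
  set τ₁ : A.G := (n : A.G) * t s₁ with hτ₁
  have hnT : ∀ s, ∃ s', (n : A.G) * t s * (n : A.G)⁻¹ = t s' := fun s => by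
    have h1 : (⟨t s, hYN (hTY ⟨s, rfl⟩)⟩ : NY) ∈ (TY : Subgroup (Y.subgroupOf NY)).map (Y.subgroupOf NY).subtype :=
      ⟨⟨⟨t s, hYN (hTY ⟨s, rfl⟩)⟩, hTY ⟨s, rfl⟩⟩, ⟨s, rfl⟩, rfl⟩
    obtain ⟨⟨⟨z, hz⟩, hzY⟩, ⟨s', hs'⟩, hzz⟩ := (hn _).1 h1
    exact ⟨s', (congrArg Subtype.val hzz).symm.trans hs'.symm⟩
  have hτT : ∀ s, ∃ s', τ₁ * t s * τ₁⁻¹ = t s' := fun s => by
    obtain ⟨s', hs'⟩ := hnT (s₁ * s * s₁⁻¹)
    refine ⟨s', ?_⟩
    rw [← hs', map_mul, map_mul, map_inv, hτ₁]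
    group
  have hm₀eq : m₀ = (n : A.G) * (k * t s₁) := by
    rw [hky]; exact (congrArg Subtype.val hny).symm
  have hΦτ : Φ τ₁ = -1 := by
    rw [← hΦm₀, hm₀eq, hτ₁, map_mul, map_mul, map_mul, MonoidHom.mem_ker.1 hk.1, one_mul]
  have hτM : τ₁ ∈ MG := by
    have h1 : (n : A.G) = m₀ * (k * t s₁)⁻¹ := by rw [hm₀eq, mul_inv_cancel_right]
    rw [hτ₁, h1]
    exact mul_mem (mul_mem hm₀ (inv_mem (mul_mem hk.2 (A.cj_mem_M s₁ : t s₁ ∈ MG)))) (A.cj_mem_M s₁)
  set e := (orderOf τ₁).factorization p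
  have hodd : Odd (p ^ e) := Odd.pow (hp.out.odd_of_ne_two hp2)
  refine ⟨τ₁ ^ p ^ e, by rw [Subgroup.coe_pow]; exact pow_mem hτM _, ?_, ?_,
    by rw [map_pow, hΦτ, hodd.neg_one_pow]⟩
  · rw [Subgroup.orderOf_coe, orderOf_pow_of_dvd (pow_ne_zero _ hp.out.ne_zero) (Nat.ordProj_dvd _ _)]
    exact (Nat.coprime_ordCompl hp.out (orderOf_pos τ₁).ne').symm
  · intro s
    suffices h : ∀ j : ℕ, ∀ s, ∃ s', τ₁ ^ j * t s * (τ₁ ^ j)⁻¹ = t s' by
      obtain ⟨s', hs'⟩ := h _ s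
      exact ⟨s', congrArg Subtype.val hs'⟩
    intro j
    induction j with
    | zero => exact fun s => ⟨s, by simp⟩
    | succ j ih =>
      intro s
      obtain ⟨s', hs'⟩ := hτT s
      obtain ⟨s'', hs''⟩ := ih s'
      exact ⟨s'', by rw [← hs'', ← hs', pow_succ]; group⟩

/-- An element acting as inversion on an irreducible section of order `p²`. -/
theorem exists_neg (hS : IsPGroup p S) (hp2 : p ≠ 2) {N N' : Subgroup S} (hN : A.Inv N)
    (hN' : A.Inv N') (hle : N' ≤ N) (hidx : N'.relIndex N = p ^ 2)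
    (hcomm : ∀ x ∈ N, ∀ y ∈ N, ⁅x, y⁆ ∈ N') (hpow : ∀ x ∈ N, x ^ p ∈ N')
    (hirr : ∀ L, A.Inv L → N' ≤ L → L ≤ N → L = N' ∨ L = N)
    (hmove : ∃ s : S, ∃ x ∈ N, ⁅s, x⁆ ∉ N') :
    ∃ τ ∈ A.M, (orderOf τ).Coprime p ∧ (∀ s : S, ∃ s' : S, τ * A.cj s * τ⁻¹ = A.cj s') ∧
      ∀ x : A.E, (x : S) ∈ N → (x : S) * ((τ x : A.E) : S) ∈ N' := by
  classical
  haveI := hN'.normal
  haveI := hN.normal
  haveI : Finite (MulAut A.E) := Finite.of_injective _ MulEquiv.toEquiv_injective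
  -- the section
  let NE : Subgroup A.E := N.subgroupOf A.E
  let NE' : Subgroup A.E := N'.subgroupOf A.E
  let K : Subgroup N := N'.subgroupOf N
  let π : N →* N ⧸ K := QuotientGroup.mk' K
  have hπ : ∀ x : N, π x = 1 ↔ (x : S) ∈ N' := fun x => QuotientGroup.eq_one_iff x
  -- restriction to `N`
  have hres : ∀ g ∈ A.G, ∀ x : N, ((g ⟨x, hN.1 x.2⟩ : A.E) : S) ∈ N := fun g hg x => hN.2 g hg _ x.2
  let r : A.G →* MulAut N :=
    { toFun := fun g =>
        { toFun := fun x => ⟨((g : MulAut A.E) ⟨x, hN.1 x.2⟩ : A.E), hres g g.2 x⟩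
          invFun := fun x => ⟨((g : MulAut A.E)⁻¹ ⟨x, hN.1 x.2⟩ : A.E), hres _ (inv_mem g.2) x⟩
          left_inv := fun x => Subtype.ext (by simp)
          right_inv := fun x => Subtype.ext (by simp)
          map_mul' := fun x y => Subtype.ext (by
            show (((g : MulAut A.E) (⟨x, hN.1 x.2⟩ * ⟨y, hN.1 y.2⟩) : A.E) : S) = _
            rw [map_mul]; rfl) }
      map_one' := MulEquiv.ext fun x => rfl
      map_mul' := fun g h => MulEquiv.ext fun x => rfl }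
  obtain ⟨ρ₀, hρ₀⟩ := exists_push π (QuotientGroup.mk'_surjective K) r.range (by
    rintro _ ⟨g, rfl⟩ x hx
    exact (hπ _).2 (hN'.2 g g.2 ⟨x, hN.1 x.2⟩ ((hπ x).1 hx)))
  let ρ : A.G →* MulAut (N ⧸ K) := ρ₀.comp r.rangeRestrict
  have hρ : ∀ (g : A.G) (x : N), ρ g (π x) = π (r g x) := fun g x => hρ₀ _ x
  have hab : ∀ a b : N ⧸ K, a * b = b * a := by
    intro a b
    obtain ⟨a, rfl⟩ := QuotientGroup.mk'_surjective K a
    obtain ⟨b, rfl⟩ := QuotientGroup.mk'_surjective K b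
    rw [← commutatorElement_eq_one_iff_mul_comm, ← map_commutatorElement]
    exact (hπ _).2 (hcomm a a.2 b b.2)
  have hexp : ∀ a : N ⧸ K, a ^ p = 1 := fun a => by
    obtain ⟨a, rfl⟩ := QuotientGroup.mk'_surjective K a
    rw [← map_pow]
    exact (hπ _).2 (hpow a a.2)
  have hcard : Nat.card (N ⧸ K) = p ^ 2 := by rw [← Subgroup.index_eq_card]; exact hidx
  obtain ⟨ψ⟩ := CfsgLib.Invol.EssentialSmall.exists_mulAut_equiv_gl hab hexp hcard
  let Φ : A.G →* GL (Fin 2) (ZMod p) := ψ.toMonoidHom.comp ρ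
  have hΦ : ∀ g : A.G, Φ g = 1 → A.Fixes g N N' := fun g hg x hx => by
    have h1 : ρ g = 1 := (map_eq_one_iff ψ ψ.injective).1 hg
    have h2 := DFunLike.congr_fun h1 (π ⟨x, hx⟩)
    rw [hρ, MulAut.one_apply, eq_comm, ← inv_mul_eq_one, ← map_inv, ← map_mul, hπ] at h2
    exact h2
  have hne : N' ≠ N := fun h => by
    rw [h, Subgroup.relIndex_self] at hidx
    nlinarith [hp.out.one_lt]
  obtain ⟨g, hgM, hgp, hgf⟩ := A.exists_move hS hN hN' hle hne hirr hmove
  have hnp : ¬ IsPGroup p ((A.M.subgroupOf A.G).map Φ) := fun hpM => hgf (hΦ ⟨g, A.M_le hgM⟩ (by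
    obtain ⟨k, hk⟩ := hpM ⟨_, ⟨⟨g, A.M_le hgM⟩, hgM, rfl⟩⟩
    have h1 : (Φ ⟨g, A.M_le hgM⟩) ^ p ^ k = 1 := congrArg Subtype.val hk
    have h2 : (Φ ⟨g, A.M_le hgM⟩) ^ orderOf g = 1 := by
      rw [← map_pow, show (⟨g, A.M_le hgM⟩ : A.G) ^ orderOf g = 1 from
        Subtype.ext (pow_orderOf_eq_one g), map_one]
    have h3 := pow_gcd_eq_one.2 ⟨h2, h1⟩
    rwa [Nat.Coprime.pow_right k hgp, pow_one] at h3))
  obtain ⟨m₀, hm₀, hΦm₀⟩ := A.exists_neg_one hS Φ hnp
  obtain ⟨τ, hτM, hτp, hτT, hΦτ⟩ := A.exists_normalising hS hp2 Φ hm₀ hΦm₀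
  refine ⟨τ, hτM, hτp, hτT, ?_⟩
  intro x hx
  let ι : MulAut (N ⧸ K) :=
    { toFun := fun a => a⁻¹
      invFun := fun a => a⁻¹
      left_inv := inv_inv
      right_inv := inv_inv
      map_mul' := fun a b => by rw [mul_inv_rev, hab] }
  have hι2 : ψ ι * ψ ι = 1 := by
    rw [← map_mul, ← map_one ψ]
    congr 1
    exact MulEquiv.ext fun a => inv_inv a
  have hιc : ∀ v, ψ ι * v = v * ψ ι := fun v => by
    obtain ⟨f, rfl⟩ := ψ.surjective v
    rw [← map_mul, ← map_mul]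
    congr 1
    exact MulEquiv.ext fun a => (map_inv f a).symm
  have hι1 : ι ≠ 1 := fun h => by
    have h2 : ∀ a : N ⧸ K, a = 1 := fun a => by
      have h3 : a⁻¹ = a := DFunLike.congr_fun h a
      have h4 : a ^ 2 = 1 := by rw [pow_two]; nth_rewrite 1 [← h3]; exact inv_mul_cancel a
      have h5 := pow_gcd_eq_one.2 ⟨h4, hexp a⟩
      rwa [(Nat.coprime_two_left.2 (hp.out.odd_of_ne_two hp2)), pow_one] at h5
    haveI : Subsingleton (N ⧸ K) := ⟨fun a b => (h2 a).trans (h2 b).symm⟩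
    rw [Nat.card_of_subsingleton (1 : N ⧸ K)] at hcard
    nlinarith [hp.out.one_lt]
  have hι : ψ ι = -1 := eq_neg_one_of_central hι2 hιc fun h => hι1 (ψ.injective (h.trans (map_one ψ).symm))
  have h2 : ρ (τ) = ι := ψ.injective (hΦτ.trans hι.symm)
  have h3 : π (⟨x, hx⟩ * r (τ) ⟨x, hx⟩) = 1 := by
    rw [map_mul, ← hρ, h2]
    exact mul_inv_cancel _
  exact (hπ _).1 h3

end Side

end CfsgLib.RankThreePair
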