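import Cfsg.Agent.Lib.RankThreePair.TwoNonabSetting

/-!
Consequences of the setting of two sides with non-commuting images.
-/

set_option autoImplicit false
set_option linter.style.haveILetI false
set_option linter.unusedSectionVars false

namespace CfsgLib.RankThreePair.TwoNonab

open Subgroup
open scoped commutatorElement

variable {S : Type*} [Group S] [Finite S] {p : ℕ} [hp : Fact p.Prime] {P : Pair p S}

/-- No invariant subgroup of `Ω₁(Z(S))` covers what `S` does to its orbit. -/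
theorem false_of_line (hS : IsPGroup p S) (A : Side p S) (hmv : ¬ A.Inv (oz p S)) {L : Subgroup S}
    (hL : A.Inv L) (hLZ : L ≤ oz p S) (hc : ∀ s : S, ∀ x ∈ A.orbit (oz p S), ⁅s, x⁆ ∈ L) : False := by
  have hoz : oz p S ≤ A.E := fun x hx => A.center_le hx.1
  obtain ⟨hi, hle, -⟩ := A.inv_orbit hoz
  refine hmv (inv_of_act hoz fun g hg z hz => ?_)
  obtain ⟨h, hh, n, hn, rfl, hcj⟩ := exists_norm hS hg
  rw [act_comp h n (hoz hz)]
  have hy : act A n z ∈ A.orbit (oz p S) := act_mem_of_inv hi hn (hle hz)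
  have hyZ : act A n z ∈ oz p S := by
    refine (A.z1_facts hmv).2.2.1 _ hy fun s => ?_
    obtain ⟨s', hs'⟩ := hcj s
    have h1 := act_cj (A := A) s (act_mem n (hoz hz))
    rw [← act_comp _ _ (hoz hz), hs', act_comp _ _ (hoz hz), act_cj s' (hoz hz),
      Subgroup.mem_center_iff.1 hz.1 s', mul_inv_cancel_right] at h1
    exact ((eq_mul_inv_iff_mul_eq.1 h1).trans rfl)
  have h2 : (act A n z)⁻¹ * act A h (act A n z) ∈ L := by
    rw [act_coe h ⟨act A n z, hoz hyZ⟩]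
    exact A.fixes_of_comm hi hL hc h hh ⟨act A n z, hoz hyZ⟩ hy
  simpa using mul_mem hyZ (hLZ h2)

namespace Data

theorem exists_b : ∃ b ∈ P.A.E, b ∉ P.B.E := by
  by_contra h
  push Not at h
  have h1 := Subgroup.relIndex_mul_index h
  rw [P.A.index, P.B.index] at h1
  exact P.ne (le_antisymm h (Subgroup.relIndex_eq_one.1 (Nat.mul_eq_right hp.out.ne_zero |>.1 h1)))

theorem A_dec {b : S} (hb : b ∈ P.A.E) (hbB : b ∉ P.B.E) {x : S} (hx : x ∈ P.A.E) :
    ∃ i : ℕ, ∃ v ∈ P.W, x = b ^ i * v := by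
  haveI := P.B.normal
  obtain ⟨i, e, he, rfl⟩ := exists_pow_mul_of_index P.B.index hbB x
  have h1 : e ∈ P.A.E := by simpa using mul_mem (inv_mem (pow_mem hb i)) hx
  exact ⟨i, e, mem_inf.2 ⟨h1, he⟩, rfl⟩

/-- The derived subgroup of `E_A`. -/
def der (P : Pair p S) : Subgroup S := ⁅P.A.E, P.A.E⁆

theorem der_inv : P.A.Inv (der P) := by
  haveI := P.A.normal
  have hsub : {z : S | ∃ x ∈ P.A.E, ∃ y ∈ P.A.E, ⁅x, y⁆ = z} ⊆ P.A.E := by
    rintro _ ⟨x, hx, y, hy, rfl⟩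
    exact mul_mem (mul_mem (mul_mem hx hy) (inv_mem hx)) (inv_mem hy)
  rw [der, Subgroup.commutator_def]
  refine inv_closure hsub ?_
  rintro g _ _ ⟨x, hx, y, hy, rfl⟩
  rw [act_commutator g hx hy]
  exact subset_closure ⟨_, act_mem g hx, _, act_mem g hy, rfl⟩

variable (D : Data P)
include D

theorem C_le : D.C ≤ P.W := fun x hx => ((D.mem_C x).1 hx).1

theorem comm_a {r : S} (hr : r ∈ D.C) : Commute D.a r := ((D.mem_C r).1 hr).2

theorem z1_pow (hS : IsPGroup p S) (hmv : ¬ P.A.Inv (oz p S)) : D.w ^ p = 1 :=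
  (P.A.z1_facts hmv).1 _ D.w_mem

theorem comm_w (hS : IsPGroup p S) (hmv : ¬ P.A.Inv (oz p S)) {e : S} (he : e ∈ P.A.E) :
    Commute D.w e :=
  (P.A.z1_facts hmv).2.1 _ D.w_mem e he

theorem w_mem_W : D.w ∈ P.W := D.z1_le D.w_mem

theorem comm_aw_pow (j : ℕ) : ⁅D.a, D.w ^ j⁆ = D.d ^ j := by
  rw [CfsgLib.RankThree.comm_pow_right (by rw [D.d_def]; exact (D.d_central _).symm), D.d_def]

theorem comm_a_dec (j : ℕ) {r : S} (hr : r ∈ D.C) : ⁅D.a, D.w ^ j * r⁆ = D.d ^ j := by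
  have h1 : ⁅D.a, r⁆ = 1 := commutatorElement_eq_one_iff_mul_comm.2 (D.comm_a hr).eq
  rw [CfsgLib.RankThree.comm_mul_right (by rw [h1]; exact Commute.one_right _), h1, mul_one,
    D.comm_aw_pow]

theorem comm_a_W {x : S} (hx : x ∈ P.W) : ⁅D.a, x⁆ ∈ zpowers D.d := by
  obtain ⟨j, r, hr, rfl⟩ := D.W_dec x hx
  rw [D.comm_a_dec j hr]
  exact pow_mem (mem_zpowers _) j

theorem mem_C_of_mem_W {x : S} (hx : x ∈ P.W) (h : ⁅D.a, x⁆ = 1) : x ∈ D.C :=
  (D.mem_C x).2 ⟨hx, commutatorElement_eq_one_iff_mul_comm.1 h⟩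

theorem w_not_mem : D.w ∉ D.C := fun h =>
  D.d_ne (D.d_def ▸ commutatorElement_eq_one_iff_mul_comm.2 (D.comm_a h).eq)

theorem comm_C {r r' : S} (hr : r ∈ D.C) (hr' : r' ∈ D.C) : Commute r r' := by
  obtain ⟨i, j, rfl⟩ := D.C_gen r hr
  obtain ⟨k, l, rfl⟩ := D.C_gen r' hr'
  exact (((Commute.refl D.c1).pow_pow i k).mul_right (((D.d_central D.c1).symm).pow_pow i l)).mul_left
    ((D.d_central _).pow_left j)

theorem comm_W (hS : IsPGroup p S) (hmv : ¬ P.A.Inv (oz p S)) {x y : S} (hx : x ∈ P.W) (hy : y ∈ P.W) :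
    Commute x y := by
  obtain ⟨i, r, hr, rfl⟩ := D.W_dec x hx
  refine ((D.comm_w hS hmv (W_le_left P hy)).pow_left i).mul_left ?_
  obtain ⟨j, r', hr', rfl⟩ := D.W_dec y hy
  exact (((D.comm_w hS hmv (W_le_left P (D.C_le hr))).symm).pow_right j).mul_right (D.comm_C hr hr')

theorem comm_B (hS : IsPGroup p S) (hmv : ¬ P.A.Inv (oz p S)) {r x : S} (hr : r ∈ D.C)
    (hx : x ∈ P.B.E) : Commute r x := by
  obtain ⟨i, j, r', hr', rfl⟩ := D.B_dec x hx
  exact ((D.comm_a hr).symm.pow_right i).mul_right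
    ((((D.comm_w hS hmv (W_le_left P (D.C_le hr))).symm).pow_right j).mul_right (D.comm_C hr hr'))

theorem central_mem_C (hS : IsPGroup p S) (hmv : ¬ P.A.Inv (oz p S)) {x : S} (hx : x ∈ P.B.E)
    (h : ∀ y ∈ P.B.E, Commute x y) : x ∈ D.C := by
  have hxa := h D.a D.a_mem
  obtain ⟨i, j, r, hr, rfl⟩ := D.B_dec x hx
  have hxw := h D.w (W_le_right P D.w_mem_W)
  have h1 : Commute (D.a ^ i) D.w := by
    have h2 : Commute (D.w ^ j * r) D.w :=
      ((Commute.refl D.w).pow_left j).mul_left (D.comm_w hS hmv (W_le_left P (D.C_le hr))).symm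
    simpa [mul_assoc] using hxw.mul_left h2.inv_left
  have h3 : D.d ^ i = 1 := by
    rw [← D.d_def, ← CfsgLib.RankThree.comm_pow_left (by rw [D.d_def]; exact (D.d_central _).symm) i]
    exact commutatorElement_eq_one_iff_mul_comm.2 h1.eq
  obtain ⟨k, rfl⟩ := dvd_of_pow_eq_one D.d_pow D.d_ne h3
  rw [pow_mul, D.a_pow, one_pow, one_mul] at hxa ⊢
  exact (D.mem_C _).2 ⟨mul_mem (pow_mem D.w_mem_W j) (D.C_le hr), hxa.eq.symm⟩

theorem C_normal (hS : IsPGroup p S) (hmv : ¬ P.A.Inv (oz p S)) : D.C.Normal := by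
  haveI := P.B.normal
  refine ⟨fun r hr s => D.central_mem_C hS hmv
    (‹P.B.E.Normal›.conj_mem r (W_le_right P (D.C_le hr)) s) fun y hy => ?_⟩
  have h1 := D.comm_B hS hmv hr (‹P.B.E.Normal›.conj_mem y hy s⁻¹)
  have h2 := Commute.map h1 (MulAut.conj s).toMonoidHom
  simpa [mul_assoc] using h2

theorem inv_C (hS : IsPGroup p S) (hmv : ¬ P.A.Inv (oz p S)) : P.B.Inv D.C := by
  refine inv_of_act (D.C_le.trans (W_le_right P)) fun g _ r hr => ?_
  have hrB : r ∈ P.B.E := W_le_right P (D.C_le hr)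
  refine D.central_mem_C hS hmv (act_mem g hrB) fun y hy => ?_
  obtain ⟨⟨y', hy'⟩, hgy⟩ := g.surjective ⟨y, hy⟩
  have e : act P.B g y' = y := by rw [act_coe g ⟨y', hy'⟩, hgy]
  rw [← e]
  show act P.B g r * act P.B g y' = act P.B g y' * act P.B g r
  rw [← act_mul g hrB hy', ← act_mul g hy' hrB, (D.comm_B hS hmv hr hy').eq]

theorem mem_oz (hS : IsPGroup p S) (hmv : ¬ P.A.Inv (oz p S)) {x : S}
    (hx : x ∈ P.A.orbit (oz p S)) (hxC : x ∈ D.C) : x ∈ oz p S := by
  refine (P.A.z1_facts hmv).2.2.1 x hx fun s => ?_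
  obtain ⟨i, e, he, rfl⟩ := D.S_dec s
  exact (((D.comm_a hxC).symm).pow_right i).mul_right ((P.A.z1_facts hmv).2.1 x hx e he)

theorem oz_le : oz p S ≤ D.C := fun x hx => (D.mem_C x).2
  ⟨D.z1_le ((P.A.inv_orbit fun y (hy : y ∈ oz p S) => P.A.center_le hy.1).2.1 hx), Subgroup.mem_center_iff.1 hx.1 D.a⟩

theorem d_oz : D.d ∈ oz p S :=
  ⟨Subgroup.mem_center_iff.2 fun s => ((D.d_central s).eq).symm, D.d_pow⟩

theorem zpowers_d_normal : (zpowers D.d).Normal := ⟨fun x hx s => by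
  obtain ⟨n, rfl⟩ := mem_zpowers_iff.1 hx
  rwa [← ((D.d_central s).zpow_left n).eq, mul_inv_cancel_right]⟩

/-- Commutators inside `E_A`. -/
theorem comm_left_mem (hS : IsPGroup p S) (hmv : ¬ P.A.Inv (oz p S)) {x y : S} (hx : x ∈ P.A.E)
    (hy : y ∈ P.A.E) : ⁅x, y⁆ ∈ D.C := by
  haveI := D.C_normal hS hmv
  obtain ⟨b, hb, hbB⟩ := exists_b (P := P)
  set q := QuotientGroup.mk' D.C with hq
  have hC : ∀ r ∈ D.C, q r = 1 := fun r hr => (QuotientGroup.eq_one_iff r).2 hr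
  have hbW : ∀ v ∈ P.W, Commute (q b) (q v) := by
    intro v hv
    obtain ⟨j, r, hr, rfl⟩ := D.W_dec v hv
    rw [map_mul, hC r hr, mul_one, map_pow]
    exact ((D.comm_w hS hmv hb).symm.map q).pow_right j
  have hWW : ∀ u ∈ P.W, ∀ v ∈ P.W, Commute (q u) (q v) := fun u hu v hv =>
    (D.comm_W hS hmv hu hv).map q
  obtain ⟨i, u, hu, rfl⟩ := A_dec hb hbB hx
  obtain ⟨j, v, hv, rfl⟩ := A_dec hb hbB hy
  have key : Commute (q (b ^ i * u)) (q (b ^ j * v)) := by
    simp only [map_mul, map_pow]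
    exact (((Commute.refl (q b)).pow_pow i j).mul_right ((hbW v hv).pow_left i)).mul_left
      (((hbW u hu).symm.pow_right j).mul_right (hWW u hu v hv))
  rw [← QuotientGroup.eq_one_iff]
  show q ⁅_, _⁆ = 1
  rw [map_commutatorElement, commutatorElement_eq_one_iff_mul_comm]
  exact key.eq

/-- Commutators inside `E_B`. -/
theorem comm_right_mem (hS : IsPGroup p S) (hmv : ¬ P.A.Inv (oz p S)) {x y : S} (hx : x ∈ P.B.E)
    (hy : y ∈ P.B.E) : ⁅x, y⁆ ∈ zpowers D.d := by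
  haveI := D.zpowers_d_normal
  set q := QuotientGroup.mk' (zpowers D.d) with hq
  have hd : q D.d = 1 := (QuotientGroup.eq_one_iff _).2 (mem_zpowers _)
  have haw : Commute (q D.a) (q D.w) := by
    show _ * _ = _ * _
    rw [← commutatorElement_eq_one_iff_mul_comm, ← map_commutatorElement, D.d_def, hd]
  obtain ⟨i, j, r, hr, rfl⟩ := D.B_dec x hx
  obtain ⟨k, l, r', hr', rfl⟩ := D.B_dec y hy
  have hCB : ∀ r ∈ D.C, ∀ z ∈ P.B.E, Commute (q r) (q z) := fun r hr z hz =>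
    (D.comm_B hS hmv hr hz).map q
  have h1 : Commute (q r) (q (D.a ^ k * (D.w ^ l * r'))) := hCB r hr _ hy
  have h2 : Commute (q D.a) (q r') := (D.comm_a hr').map q
  have h3 : Commute (q D.w) (q r') := (D.comm_w hS hmv (W_le_left P (D.C_le hr'))).map q
  have key : Commute (q (D.a ^ i * (D.w ^ j * r))) (q (D.a ^ k * (D.w ^ l * r'))) := by
    rw [map_mul q (D.a ^ i), map_mul q (D.w ^ j), map_pow, map_pow]
    refine Commute.mul_left ?_ (Commute.mul_left ?_ h1)
    · simp only [map_mul, map_pow]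
      exact (((Commute.refl (q D.a)).pow_pow i k).mul_right
        ((haw.pow_pow i l).mul_right (h2.pow_left i)))
    · simp only [map_mul, map_pow]
      exact ((haw.symm.pow_pow j k).mul_right
        (((Commute.refl (q D.w)).pow_pow j l).mul_right (h3.pow_left j)))
  rw [← QuotientGroup.eq_one_iff]
  show q ⁅_, _⁆ = 1
  rw [map_commutatorElement, commutatorElement_eq_one_iff_mul_comm]
  exact key.eq

theorem comm_ab_mem_W {b : S} (hb : b ∈ P.A.E) : ⁅D.a, b⁆ ∈ P.W := by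
  haveI := P.A.normal
  haveI := P.B.normal
  refine mem_inf.2 ⟨?_, ?_⟩
  · rw [commutatorElement_def]
    exact mul_mem (‹P.A.E.Normal›.conj_mem b hb D.a) (inv_mem hb)
  · rw [commutatorElement_def, mul_assoc, mul_assoc]
    exact mul_mem D.a_mem (by simpa [mul_assoc] using ‹P.B.E.Normal›.conj_mem _ (inv_mem D.a_mem) b)

/-- `b` acts non-trivially on `E_B / C`. -/
theorem comm_ab_not_mem (hS : IsPGroup p S) (hmv : ¬ P.A.Inv (oz p S)) {b : S} (hb : b ∈ P.A.E)
    (hbB : b ∉ P.B.E) : ⁅D.a, b⁆ ∉ D.C := by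
  intro hu
  haveI := D.C_normal hS hmv
  obtain ⟨m, hm⟩ := hS D.c1
  have hB : ∀ (s x : S), x ∈ P.B.E → ⁅s, x⁆ ∈ D.C := by
    intro s x hx
    set q := QuotientGroup.mk' D.C with hq
    have hC : ∀ r ∈ D.C, q r = 1 := fun r hr => (QuotientGroup.eq_one_iff r).2 hr
    have haw : Commute (q D.a) (q D.w) := by
      show _ * _ = _ * _
      rw [← commutatorElement_eq_one_iff_mul_comm, ← map_commutatorElement, D.d_def, hC _ D.d_mem]
    have hab : Commute (q D.a) (q b) := by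
      show _ * _ = _ * _
      rw [← commutatorElement_eq_one_iff_mul_comm, ← map_commutatorElement, hC _ hu]
    have hwb : Commute (q D.w) (q b) := (D.comm_w hS hmv hb).map q
    haveI := P.B.normal
    obtain ⟨t, e, he, rfl⟩ := exists_pow_mul_of_index P.B.index hbB s
    obtain ⟨i, j, r, hr, rfl⟩ := D.B_dec x hx
    obtain ⟨k, l, r', hr', rfl⟩ := D.B_dec e he
    rw [← QuotientGroup.eq_one_iff]
    show q ⁅_, _⁆ = 1
    rw [map_commutatorElement, commutatorElement_eq_one_iff_mul_comm]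
    simp only [map_mul, map_pow, hC r hr, hC r' hr', mul_one]
    exact ((((hab.symm.pow_pow t i)).mul_right (hwb.symm.pow_pow t j)).mul_left
      ((((Commute.refl (q D.a)).pow_pow k i).mul_right (haw.pow_pow k j)).mul_left
        ((haw.symm.pow_pow l i).mul_right ((Commute.refl (q D.w)).pow_pow l j)))).eq
  let T : ℕ → Subgroup S := fun e => zpowers (D.c1 ^ p ^ e) ⊔ zpowers D.d
  have hTC : ∀ e, T e ≤ D.C := fun e =>
    sup_le (zpowers_le.2 (pow_mem D.c1_mem _)) (zpowers_le.2 D.d_mem)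
  have hd : ∀ g ∈ P.B.G, act P.B g D.d ∈ zpowers D.d := fun g _ => by
    rw [← D.d_def, act_commutator g D.a_mem (W_le_right P D.w_mem_W), D.d_def]
    exact D.comm_right_mem hS hmv (act_mem g D.a_mem) (act_mem g (W_le_right P D.w_mem_W))
  have hTinv : ∀ e, P.B.Inv (T e) := by
    intro e
    have hcl : T e = closure {D.c1 ^ p ^ e, D.d} := by
      rw [show ({D.c1 ^ p ^ e, D.d} : Set S) = {D.c1 ^ p ^ e} ∪ {D.d} by rfl, Subgroup.closure_union,
        ← zpowers_eq_closure, ← zpowers_eq_closure]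
    rw [hcl]
    refine inv_closure ?_ fun g hg x hx => ?_
    · rintro x (rfl | rfl)
      · exact W_le_right P (D.C_le (pow_mem D.c1_mem _))
      · exact W_le_right P (D.C_le D.d_mem)
    · rw [← hcl]
      rcases hx with rfl | rfl
      · rw [act_pow g (W_le_right P (D.C_le D.c1_mem))]
        obtain ⟨i, j, hij⟩ := D.C_gen _ (act_mem_of_inv (D.inv_C hS hmv) hg D.c1_mem)
        rw [hij, ((D.d_central _).symm.pow_pow i j).mul_pow, ← pow_mul, mul_comm i, pow_mul]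
        exact mul_mem (mem_sup_left (pow_mem (mem_zpowers _) i))
          (mem_sup_right (pow_mem (pow_mem (mem_zpowers _) j) _))
      · exact mem_sup_right (hd g hg)
  let Ser : ℕ → Subgroup S := fun k =>
    if k = 0 then ⊥ else if k ≤ m + 1 then T (m + 1 - k) else P.B.E
  have hTm : T m = zpowers D.d := by
    show zpowers (D.c1 ^ p ^ m) ⊔ zpowers D.d = _
    rw [hm, zpowers_one_eq_bot, bot_sup_eq]
  refine P.B.false_of_series hS (m + 2) Ser rfl ?_ ?_ ?_
  · show P.B.E ≤ Ser (m + 2)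
    simp [Ser]
  · intro k
    show P.B.Inv (Ser k ⊓ P.B.E)
    simp only [Ser]
    split_ifs with h1 h2
    · exact P.B.inv_inf P.B.inv_bot P.B.inv_E
    · exact P.B.inv_inf (hTinv _) P.B.inv_E
    · exact P.B.inv_inf P.B.inv_E P.B.inv_E
  · intro k hk s x hxB hx
    simp only [Ser, Nat.succ_ne_zero, if_false] at hx ⊢
    by_cases hk0 : k = 0
    · subst hk0
      rw [if_pos rfl]
      rw [if_pos (by omega), show m + 1 - (0 + 1) = m by omega, hTm] at hx
      obtain ⟨n, rfl⟩ := mem_zpowers_iff.1 hx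
      exact mem_bot.2 (commutatorElement_eq_one_iff_mul_comm.2 (((D.d_central s).zpow_left n).eq.symm))
    rw [if_neg hk0]
    by_cases hk1 : k + 1 ≤ m + 1
    · rw [if_pos hk1] at hx
      rw [if_pos (by omega)]
      obtain ⟨e, he⟩ : ∃ e, e = m + 1 - (k + 1) := ⟨_, rfl⟩
      rw [← he] at hx
      rw [show m + 1 - k = e + 1 by omega]
      haveI : (T e).Normal := (hTinv e).normal
      haveI : (T (e + 1)).Normal := (hTinv (e + 1)).normal
      haveI := D.zpowers_d_normal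
      refine comm_mem_of_step hS ?_ (x := D.c1 ^ p ^ e) (mem_sup_left (mem_zpowers _)) ?_ ?_ s hx
      · refine sup_le (zpowers_le.2 (mem_sup_left ?_)) le_sup_right
        rw [pow_succ, pow_mul]
        exact pow_mem (mem_zpowers _) p
      · rw [← pow_mul, ← pow_succ]
        exact mem_sup_left (mem_zpowers _)
      · intro y hy
        obtain ⟨u, hu, v, hv, rfl⟩ := Subgroup.mem_sup_of_normal_right.1 hy
        obtain ⟨n, rfl⟩ := exists_nat_pow hu
        exact ⟨n, v, mem_sup_right hv, rfl⟩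
    · rw [if_pos (by omega), show m + 1 - k = 0 by omega]
      have h1 := hB s x hxB
      obtain ⟨i, j, hij⟩ := D.C_gen _ h1
      rw [hij]
      refine mul_mem (mem_sup_left ?_) (mem_sup_right (pow_mem (mem_zpowers _) j))
      rw [pow_zero, pow_one]
      exact pow_mem (mem_zpowers _) i

theorem comm_ab_pow (hS : IsPGroup p S) (hp2 : p ≠ 2) (hmv : ¬ P.A.Inv (oz p S)) {b : S}
    (hb : b ∈ P.A.E) : ⁅D.a, b⁆ ^ p = 1 := by
  have hu := D.comm_ab_mem_W hb
  obtain ⟨k, hk⟩ := exists_nat_pow (D.comm_a_W hu)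
  refine pow_eq_one_of_conj (k := k) hp2 D.a_pow D.d_pow (D.d_central _) (D.d_central _).symm (b := b) ?_ ?_
  · rw [← hk, commutatorElement_def]
    group
  · rw [commutatorElement_def]
    group

theorem der_le (hS : IsPGroup p S) (hmv : ¬ P.A.Inv (oz p S)) : der P ≤ D.C :=
  Subgroup.commutator_le.2 fun _ hx _ hy => D.comm_left_mem hS hmv hx hy

theorem comm_z1_mem (hS : IsPGroup p S) (hmv : ¬ P.A.Inv (oz p S)) (s : S) {x : S}
    (hx : x ∈ P.A.orbit (oz p S)) : ⁅s, x⁆ ∈ zpowers D.d := by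
  obtain ⟨i, e, he, rfl⟩ := D.S_dec s
  have h1 : ⁅e, x⁆ = 1 :=
    commutatorElement_eq_one_iff_mul_comm.2 ((P.A.z1_facts hmv).2.1 x hx e he).symm
  rw [show ⁅D.a ^ i * e, x⁆ = D.a ^ i * ⁅e, x⁆ * (D.a ^ i)⁻¹ * ⁅D.a ^ i, x⁆ by
    simp only [commutatorElement_def]; group, h1, mul_one, mul_inv_cancel, one_mul]
  obtain ⟨k, hk⟩ := exists_nat_pow (D.comm_a_W (D.z1_le hx))
  rw [CfsgLib.RankThree.comm_pow_left (by rw [hk]; exact ((D.d_central _).pow_left k).symm) i, hk]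
  exact pow_mem (pow_mem (mem_zpowers _) k) i

/-- An invariant subgroup of `C` avoids `d`. -/
theorem d_not_mem (hS : IsPGroup p S) (hmv : ¬ P.A.Inv (oz p S)) {K : Subgroup S} (hK : P.A.Inv K)
    (hKC : K ≤ D.C) : D.d ∉ K := by
  intro hd
  have hi := (P.A.inv_orbit fun y (hy : y ∈ oz p S) => P.A.center_le hy.1)
  refine false_of_line hS P.A hmv (P.A.inv_inf hK hi.1) (fun x hx => D.mem_oz hS hmv hx.2 (hKC hx.1))
    fun s x hx => ?_
  obtain ⟨n, hn⟩ := mem_zpowers_iff.1 (D.comm_z1_mem hS hmv s hx)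
  rw [← hn]
  exact ⟨zpow_mem hd n, zpow_mem (hi.2.1 D.d_oz) n⟩

end Data

end CfsgLib.RankThreePair.TwoNonab
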