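import Cfsg.Agent.Lib.RankThreePair.TwoNonabBasic
import Cfsg.Agent.Lib.RankThreePair.Tools
import Cfsg.Agent.Lib.StructC.BurnsideBasis

/-!
The setting of two sides with non-commuting images of the orbit of `Ω₁(Z(S))`.
-/

set_option autoImplicit false
set_option linter.style.haveILetI false
set_option linter.unusedSectionVars false

namespace CfsgLib.RankThreePair.TwoNonab

open Subgroup
open scoped commutatorElement

variable {S : Type*} [Group S] [Finite S] {p : ℕ} [hp : Fact p.Prime]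

theorem exists_nat_pow {x y : S} (h : y ∈ zpowers x) : ∃ n : ℕ, y = x ^ n := by
  obtain ⟨n, hn⟩ := (Submonoid.mem_powers_iff _ _).1 (mem_powers_iff_mem_zpowers.2 h)
  exact ⟨n, hn.symm⟩

theorem dvd_of_pow_eq_one {x : S} (hx : x ^ p = 1) (hx1 : x ≠ 1) {i : ℕ} (h : x ^ i = 1) : p ∣ i :=
  CfsgLib.RankThree.dvd_of_pow_mem (A := (⊥ : Subgroup S)) (mem_bot.2 hx) (by simpa using hx1)
    (mem_bot.2 h)

/-- The elements produced by the hypothesis. -/
structure Data (P : Pair p S) where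
  a : S
  w : S
  d : S
  c1 : S
  C : Subgroup S
  a_mem : a ∈ P.B.E
  a_not : a ∉ P.A.E
  a_pow : a ^ p = 1
  w_mem : w ∈ P.A.orbit (oz p S)
  d_def : ⁅a, w⁆ = d
  d_ne : d ≠ 1
  d_pow : d ^ p = 1
  d_central : ∀ s : S, Commute d s
  d_mem : d ∈ C
  mem_C : ∀ x, x ∈ C ↔ x ∈ P.W ∧ a * x = x * a
  c1_mem : c1 ∈ C
  S_dec : ∀ s : S, ∃ i : ℕ, ∃ e ∈ P.A.E, s = a ^ i * e
  B_dec : ∀ x ∈ P.B.E, ∃ i j : ℕ, ∃ r ∈ C, x = a ^ i * (w ^ j * r)
  W_dec : ∀ x ∈ P.W, ∃ j : ℕ, ∃ r ∈ C, x = w ^ j * r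
  C_gen : ∀ r ∈ C, ∃ i j : ℕ, r = c1 ^ i * d ^ j
  z1_le : P.A.orbit (oz p S) ≤ P.W

theorem W_le_left (P : Pair p S) : P.W ≤ P.A.E := inf_le_left

theorem W_le_right (P : Pair p S) : P.W ≤ P.B.E := inf_le_right

theorem W_normal (P : Pair p S) : P.W.Normal :=
  haveI := P.A.normal
  haveI := P.B.normal
  Subgroup.normal_inf_normal _ _

theorem exists_data (hS : IsPGroup p S) (hr : Cfsg.SectionalPRankLE p 3 S) (P : Pair p S)
    (hmv : ¬ P.A.Inv (oz p S)) (hle : P.A.orbit (oz p S) ≤ P.B.E)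
    (hnc : ∃ g ∈ P.B.G, ∃ x y : P.B.E, (x : S) ∈ P.A.orbit (oz p S) ∧ (y : S) ∈ P.A.orbit (oz p S) ∧
      ¬ Commute x (g y)) : Nonempty (Data P) := by
  obtain ⟨g, hg, ⟨w, hwB⟩, ⟨y, hyB⟩, hw, hy, hne⟩ := hnc
  obtain ⟨hzp, hzc, hzf, -⟩ := P.A.z1_facts hmv
  have hozA : oz p S ≤ P.A.E := fun x hx => P.A.center_le hx.1
  obtain ⟨hinv1, -, -⟩ := P.A.inv_orbit hozA
  have hz1W : P.A.orbit (oz p S) ≤ P.W := le_inf hinv1.1 hle
  haveI := P.A.normal
  haveI := P.B.normal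
  haveI := W_normal P
  haveI hz1n : (P.A.orbit (oz p S)).Normal := hinv1.normal
  set A' : Subgroup P.B.E := (P.W.subgroupOf P.B.E).map g.toMonoidHom with hA'
  haveI : A'.Normal := Subgroup.Normal.map inferInstance _ g.surjective
  have hyA' : g ⟨y, hyB⟩ ∈ A' := mem_map_of_mem _ (mem_subgroupOf.2 (hz1W hy))
  set a : S := ((g ⟨y, hyB⟩ : P.B.E) : S) with ha
  have hwa : a * w ≠ w * a := fun e => hne (Subtype.ext e.symm)
  have hA'c : ∀ x ∈ A', a * (x : S) = (x : S) * a := by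
    rintro _ ⟨⟨u, huB⟩, hu, rfl⟩
    have h1 : (⟨y, hyB⟩ : P.B.E) * ⟨u, huB⟩ = ⟨u, huB⟩ * ⟨y, hyB⟩ :=
      Subtype.ext (hzc y hy u (W_le_left P (mem_subgroupOf.1 hu)))
    have h2 := congrArg (fun z : P.B.E => ((g z : P.B.E) : S)) h1
    simp only [map_mul, Subgroup.coe_mul] at h2
    exact h2
  have haB : a ∈ P.B.E := SetLike.coe_mem _
  have haA : a ∉ P.A.E := fun h => hwa ((hzc w hw a h).symm)
  have hap : a ^ p = 1 := by
    rw [ha, ← Subgroup.coe_pow, ← map_pow, show (⟨y, hyB⟩ : P.B.E) ^ p = 1 from Subtype.ext (hzp y hy),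
      map_one, Subgroup.coe_one]
  have hwp : w ^ p = 1 := hzp w hw
  have hWrel : P.W.relIndex P.B.E = p := by
    rw [Pair.W, Subgroup.inf_relIndex_right]
    have h1 : P.A.E.relIndex P.B.E ∣ p := by
      simpa [P.A.index] using Subgroup.relIndex_dvd_index_of_normal P.A.E P.B.E
    rcases (Nat.dvd_prime hp.out).1 h1 with h | h
    · exact absurd (Subgroup.relIndex_eq_one.1 h haB) haA
    · exact h
  have hA'idx : A'.index = p := by
    rw [hA', Subgroup.index_map_of_bijective (f := g.toMonoidHom) g.bijective]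
    exact hWrel
  have hwA' : (⟨w, hwB⟩ : P.B.E) ∉ A' := fun h => hwa (hA'c _ h)
  have hBA' : ∀ x ∈ P.B.E, ∃ j : ℕ, ∃ r ∈ P.B.E, a * r = r * a ∧ x = w ^ j * r := by
    intro x hx
    obtain ⟨j, e, he, hje⟩ := exists_pow_mul_of_index hA'idx hwA' (⟨x, hx⟩ : P.B.E)
    exact ⟨j, e, e.2, hA'c e he, by simpa using congrArg Subtype.val hje⟩
  obtain ⟨C, hC⟩ : ∃ C : Subgroup S, C = P.W ⊓ centralizer ({a} : Set S) := ⟨_, rfl⟩
  have hmemC : ∀ x, x ∈ C ↔ x ∈ P.W ∧ a * x = x * a := fun x => by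
    rw [hC, mem_inf, mem_centralizer_singleton_iff, eq_comm (a := x * a)]
  have hWdec : ∀ x ∈ P.W, ∃ j : ℕ, ∃ r ∈ C, x = w ^ j * r := by
    intro x hx
    obtain ⟨j, r, -, hrc, rfl⟩ := hBA' x (W_le_right P hx)
    refine ⟨j, r, (hmemC r).2 ⟨?_, hrc⟩, rfl⟩
    simpa using mul_mem (inv_mem (pow_mem (hz1W hw) j)) hx
  have hBdec : ∀ x ∈ P.B.E, ∃ i j : ℕ, ∃ r ∈ C, x = a ^ i * (w ^ j * r) := by
    intro x hx
    obtain ⟨i, -, v, hv, rfl⟩ := CfsgLib.RankThree.exists_pow_mul hWrel haB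
      (fun h => haA (W_le_left P h)) hx
    obtain ⟨j, r, hr, rfl⟩ := hWdec v hv
    exact ⟨i, j, r, hr, rfl⟩
  have hSdec : ∀ s : S, ∃ i : ℕ, ∃ e ∈ P.A.E, s = a ^ i * e :=
    exists_pow_mul_of_index P.A.index haA
  obtain ⟨d, hd⟩ : ∃ d, ⁅a, w⁆ = d := ⟨_, rfl⟩
  have hd1 : d ≠ 1 := fun e => hwa (commutatorElement_eq_one_iff_mul_comm.1 (hd.trans e))
  have hdz1 : d ∈ P.A.orbit (oz p S) := by
    rw [← hd, commutatorElement_def]
    exact mul_mem (hz1n.conj_mem w hw a) (inv_mem hw)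
  have hda : a * d = d * a := by
    have h1 := ‹A'.Normal›.conj_mem (g ⟨y, hyB⟩)⁻¹ (inv_mem hyA') ⟨w, hwB⟩
    have h2 := hA'c _ (mul_mem hyA' h1)
    have e : d = a * (w * a⁻¹ * w⁻¹) := by rw [← hd, commutatorElement_def]; group
    rw [e]
    simpa using h2
  have hdc : ∀ s : S, Commute d s := by
    intro s
    obtain ⟨i, e, he, rfl⟩ := hSdec s
    exact ((show Commute d a from hda.symm).pow_right i).mul_right (hzc d hdz1 e he)
  have hdp : d ^ p = 1 := hzp d hdz1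
  have hdC : d ∈ C := (hmemC d).2 ⟨hz1W hdz1, hda⟩
  have hCW : C ≤ P.W := hC ▸ inf_le_left
  have hCB : C ≤ P.B.E := hCW.trans (W_le_right P)
  have hwC : ∀ r ∈ C, Commute w r := fun r hr => hzc w hw r (W_le_left P (hCW hr))
  -- the quotient of `C` by `⟨d⟩` is cyclic
  set F : Subgroup S := (frattini C).map C.subtype with hF
  set K : Subgroup S := F ⊔ zpowers d with hK
  have hFC : F ≤ C := map_subtype_le _
  have hKC : K ≤ C := sup_le hFC (zpowers_le.2 hdC)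
  haveI hdn : (zpowers d).Normal := ⟨fun x hx s => by
    obtain ⟨n, rfl⟩ := mem_zpowers_iff.1 hx
    rwa [← ((hdc s).zpow_left n).eq, mul_inv_cancel_right]⟩
  have hpC := hS.to_subgroup C
  have hcomK : ∀ r ∈ C, ∀ r' ∈ C, ⁅r, r'⁆ ∈ K := fun r hr r' hr' =>
    mem_sup_left ⟨⁅(⟨r, hr⟩ : C), ⟨r', hr'⟩⁆,
      CfsgLib.RankThree.commutator_mem_frattini hpC _ _, rfl⟩
  have hn : ∀ h ∈ P.B.E, ∀ x ∈ K, h * x * h⁻¹ ∈ K := by
    intro h hh x hx
    obtain ⟨i, j, r, hr, rfl⟩ := hBdec h hh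
    obtain ⟨f, ⟨⟨f', hf'⟩, hfF, rfl⟩, z, hz, rfl⟩ := Subgroup.mem_sup_of_normal_right.1 hx
    have h1 : r * (f' * z) * r⁻¹ ∈ K := by
      rw [← conj_mul]
      exact mul_mem (mem_sup_left ⟨⟨r, hr⟩ * ⟨f', hf'⟩ * ⟨r, hr⟩⁻¹,
        (inferInstance : (frattini C).Normal).conj_mem _ hfF _, rfl⟩)
        (mem_sup_right (hdn.conj_mem z hz r))
    obtain ⟨k, hk⟩ : ∃ k, k = r * (f' * z) * r⁻¹ := ⟨_, rfl⟩
    rw [← hk] at h1
    have e : a ^ i * (w ^ j * r) * (f' * z) * (a ^ i * (w ^ j * r))⁻¹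
        = a ^ i * (w ^ j * k * (w ^ j)⁻¹) * (a ^ i)⁻¹ := by rw [hk]; group
    rw [show (C.subtype ⟨f', hf'⟩ : S) = f' from rfl, e, ((hwC k (hKC h1)).pow_left j).eq,
      mul_inv_cancel_right, ((show Commute a k from ((hmemC k).1 (hKC h1)).2).pow_left i).eq,
      mul_inv_cancel_right]
    exact h1
  have hCK : K.relIndex C ≤ p := by
    have h1 : K.relIndex P.B.E ≤ p ^ 3 := by
      refine relIndex_le_of_comm hr hn (T := insert a (insert w (C : Set S))) ?_ ?_ ?_ ?_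
      · intro x hx
        obtain ⟨i, j, r, hr, rfl⟩ := hBdec x hx
        exact mul_mem (pow_mem (subset_closure (Set.mem_insert _ _)) i)
          (mul_mem (pow_mem (subset_closure (Set.mem_insert_of_mem _ (Set.mem_insert _ _))) j)
            (subset_closure (Set.mem_insert_of_mem _ (Set.mem_insert_of_mem _ hr))))
      · exact Set.insert_subset haB (Set.insert_subset hwB hCB)
      · rintro u (rfl | rfl | hu) v (rfl | rfl | hv)
        · rw [commutatorElement_self]; exact one_mem K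
        · rw [hd]; exact mem_sup_right (mem_zpowers d)
        · rw [commutatorElement_eq_one_iff_mul_comm.2 ((hmemC v).1 hv).2]; exact one_mem K
        · rw [← commutatorElement_inv, hd]; exact inv_mem (mem_sup_right (mem_zpowers d))
        · rw [commutatorElement_self]; exact one_mem K
        · rw [commutatorElement_eq_one_iff_mul_comm.2 (hwC v hv).eq]; exact one_mem K
        · rw [commutatorElement_eq_one_iff_mul_comm.2 ((hmemC u).1 hu).2.symm]; exact one_mem K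
        · rw [commutatorElement_eq_one_iff_mul_comm.2 (hwC u hu).eq.symm]; exact one_mem K
        · exact hcomK u hu v hv
      · rintro u (rfl | rfl | hu)
        · rw [hap]; exact one_mem K
        · rw [hwp]; exact one_mem K
        · exact mem_sup_left ⟨_, CfsgLib.StructC.pow_mem_frattini hpC ⟨u, hu⟩, rfl⟩
    have hCne : C.relIndex P.W ≠ 0 := (Subgroup.index_ne_zero_of_finite : (C.subgroupOf P.W).index ≠ 0)
    have h2 : p ≤ C.relIndex P.W := Nat.le_of_dvd (Nat.pos_of_ne_zero hCne)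
      (relIndex_prime_of_not_mem hS (hz1W hw) fun h => hwa ((hmemC w).1 h).2)
    rw [← Subgroup.relIndex_mul_relIndex K C P.B.E hKC hCB,
      ← Subgroup.relIndex_mul_relIndex C P.W P.B.E hCW (W_le_right P), hWrel] at h1
    have h3 := le_trans (Nat.mul_le_mul_left (K.relIndex C) (Nat.mul_le_mul_right p h2)) h1
    rw [show p ^ 3 = p * (p * p) by ring] at h3
    exact Nat.le_of_mul_le_mul_right h3 (Nat.mul_pos hp.out.pos hp.out.pos)
  obtain ⟨c1, hc1, hgen⟩ : ∃ c1 ∈ C, C ≤ zpowers c1 ⊔ K := by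
    by_cases hall : C ≤ K
    · exact ⟨1, one_mem C, hall.trans le_sup_right⟩
    obtain ⟨c1, hc1, hc1K⟩ := SetLike.not_le_iff_exists.1 hall
    have hidx : (K.subgroupOf C).index = p :=
      le_antisymm hCK (Nat.le_of_dvd (Nat.pos_of_ne_zero Subgroup.index_ne_zero_of_finite)
        (relIndex_prime_of_not_mem hS hc1 hc1K))
    haveI : (K.subgroupOf C).Normal :=
      ⟨fun x hx s => mem_subgroupOf.2 (hn s (hCB s.2) x (mem_subgroupOf.1 hx))⟩
    refine ⟨c1, hc1, fun z hz => ?_⟩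
    obtain ⟨i, e, he, hie⟩ := exists_pow_mul_of_index hidx
      (x := (⟨c1, hc1⟩ : C)) (fun h => hc1K (mem_subgroupOf.1 h)) ⟨z, hz⟩
    rw [show z = c1 ^ i * (e : S) from congrArg Subtype.val hie]
    exact mul_mem (mem_sup_left (pow_mem (mem_zpowers c1) i)) (mem_sup_right (mem_subgroupOf.1 he))
  have htop : (zpowers c1 ⊔ zpowers d).subgroupOf C = ⊤ := by
    refine frattini_nongenerating (top_le_iff.1 ?_)
    intro x _
    have hle' : zpowers c1 ⊔ K ≤ (zpowers c1 ⊔ zpowers d) ⊔ F := by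
      rw [hK, sup_comm F, ← sup_assoc]
    have h1 := hle' (hgen x.2)
    have hsub : zpowers c1 ⊔ zpowers d ≤ C := sup_le (zpowers_le.2 hc1) (zpowers_le.2 hdC)
    rw [show frattini C = F.subgroupOf C by
      rw [hF, subgroupOf, comap_map_eq_self_of_injective C.subtype_injective],
      ← subgroupOf_sup hsub hFC]
    exact mem_subgroupOf.2 h1
  have hCgen : ∀ r ∈ C, ∃ i j : ℕ, r = c1 ^ i * d ^ j := by
    intro r hr
    have h1 : r ∈ zpowers c1 ⊔ zpowers d :=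
      mem_subgroupOf.1 (show (⟨r, hr⟩ : C) ∈ _ from htop.ge (mem_top _))
    obtain ⟨u, hu, v, hv, rfl⟩ := Subgroup.mem_sup_of_normal_right.1 h1
    obtain ⟨i, rfl⟩ := exists_nat_pow hu
    obtain ⟨j, rfl⟩ := exists_nat_pow hv
    exact ⟨i, j, rfl⟩
  exact ⟨{
    a := a
    w := w
    d := d
    c1 := c1
    C := C
    a_mem := haB
    a_not := haA
    a_pow := hap
    w_mem := hw
    d_def := hd
    d_ne := hd1
    d_pow := hdp
    d_central := hdc
    d_mem := hdC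
    mem_C := hmemC
    c1_mem := hc1
    S_dec := hSdec
    B_dec := hBdec
    W_dec := hWdec
    C_gen := hCgen
    z1_le := hz1W }⟩

end CfsgLib.RankThreePair.TwoNonab
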